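import Cfsg.Agent.Lib.Thompson.Block.Root2
import Cfsg.Agent.Lib.Thompson.FFPM.Comp
import Cfsg.Agent.LAE62.ExcFrame

/-!
The residual of a rank one subgroup and the pencil of its member.
-/

set_option autoImplicit false
set_option linter.style.haveILetI false
set_option linter.unusedSectionVars false

open Cfsg
open scoped commutatorElement MatrixGroups

namespace Cfsg.Agent.FFPM

open FFSL2

variable {H : Type*} [Group H] [Finite H] {V : Type*} [AddCommGroup V] [Finite V]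
  [DistribMulAction H V] {p : ℕ} [hpp : Fact p.Prime] {q : ℕ}

/-- A pencil over two elements fixes no nonzero vector it moves into. -/
theorem Conf.eq_zero_of_line_two {T : Sylow p H} {M : Subgroup H} (h : Conf V 2 T M) {A : Subgroup H}
    (hA : A ∈ mems V 2 T 1) {u : V} (hu : u ∈ movV V (sSup (line V 2 T 1 A)))
    (hf : u ∈ (fix (sSup (line V 2 T 1 A)) : AddSubgroup V)) : u = 0 := by
  obtain ⟨X, hX⟩ := h.exists_star hA
  obtain ⟨hY, hne, -, -, -⟩ := h.star_swap hX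
  set Y := cj (el A) X with hYd
  have mX := h.star_mem hX
  have mY := h.star_mem hY
  have hS : sSup (line V 2 T 1 A) = X ⊔ Y := h.sSup_line hA hX.2.1 hY.2.1 hne.symm
  have hmem : ∀ {Z : Subgroup H}, Mem V 2 Z → Z ≤ moveIn (AddSubgroup.closure {rv V Z}) :=
    fun {Z} hZ z hz v => by
      rcases hZ.eq_el hz with rfl | rfl
      · rw [one_smul, sub_self]; exact zero_mem _
      · by_cases hv : v ∈ (fix Z : AddSubgroup V)
        · rw [hZ.mem_fix_iff.1 hv, sub_self]; exact zero_mem _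
        · rw [hZ.rv_spec.2 v hv, add_sub_cancel_left]; exact AddSubgroup.mem_closure_singleton_self _
  have hle : movV V (sSup (line V 2 T 1 A)) ≤ AddSubgroup.closure {rv V X, rv V Y} := by
    rw [movV_le_iff, hS]
    refine sup_le (fun z hz v => ?_) fun z hz v => ?_
    · exact AddSubgroup.closure_mono (by simp) (hmem mX hz v)
    · exact AddSubgroup.closure_mono (by simp) (hmem mY hz v)
  obtain ⟨a, b, rfl⟩ := AddSubgroup.mem_closure_pair.1 (hle hu)
  have hnc := h.not_com_star hX hY hne.symm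
  have hnc' := h.not_com_star hY hX hne
  have two : ∀ v : V, v + v = 0 := fun v => by
    obtain ⟨n, hn⟩ := card_eq_pow h.pm.faith h.pm.exp hA.1
    have hp2 : p = 2 := ((Nat.Prime.dvd_iff_eq Nat.prime_two hpp.out.ne_one).1 (by
      rw [hn]
      refine dvd_pow_self p fun e => ?_
      rw [e, pow_zero] at hn
      omega)).symm
    have := h.pm.exp v
    rwa [hp2, two_nsmul] at this
  have red : ∀ (c : ℤ) (v : V), c • v = 0 ∨ c • v = v := fun c v => by
    rcases Int.even_or_odd c with ⟨d, hd⟩ | ⟨d, hd⟩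
    · left; rw [hd, add_smul, two]
    · right; rw [hd, add_smul, two_mul, add_smul, two, zero_add, one_smul]
  have sX : ∀ c : ℤ, el X • (c • rv V Y) = c • rv V Y + c • rv V X := fun c => by
    rw [smul_comm, mX.smul_rv_noncom h.pm.faith h.no_over mY hnc, smul_add]
  have sY : ∀ c : ℤ, el Y • (c • rv V X) = c • rv V X + c • rv V Y := fun c => by
    rw [smul_comm, mY.smul_rv_noncom h.pm.faith h.no_over mX hnc', smul_add]
  have fX : ∀ c : ℤ, el X • (c • rv V X) = c • rv V X := fun c => by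
    rw [smul_comm, mX.mem_fix_iff.1 mX.rv_mem]
  have fY : ∀ c : ℤ, el Y • (c • rv V Y) = c • rv V Y := fun c => by
    rw [smul_comm, mY.mem_fix_iff.1 mY.rv_mem]
  rw [hS] at hf
  have h1 := hf (el X) (Subgroup.mem_sup_left mX.el_spec.1)
  have h2 := hf (el Y) (Subgroup.mem_sup_right mY.el_spec.1)
  rw [smul_add, fX, sX, add_right_inj, add_eq_left] at h1
  rw [smul_add, fY, sY, add_left_inj, add_eq_left] at h2
  have hb : b • rv V Y = 0 := by
    rcases Int.even_or_odd b with ⟨d, hd⟩ | ⟨d, hd⟩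
    · rw [hd, add_smul, two]
    · rw [hd, add_smul, two_mul, add_smul, two, zero_add, one_smul] at h1
      exact absurd h1 mX.rv_spec.1
  have ha : a • rv V X = 0 := by
    rcases Int.even_or_odd a with ⟨d, hd⟩ | ⟨d, hd⟩
    · rw [hd, add_smul, two]
    · rw [hd, add_smul, two_mul, add_smul, two, zero_add, one_smul] at h2
      exact absurd h2 mY.rv_spec.1
  rw [ha, hb, add_zero]

end Cfsg.Agent.FFPM

namespace Cfsg.Agent.Block82

open Cfsg.Agent.FFPM

variable {p : ℕ} {G : Type*} [Group G] [Finite G] [hp : Fact p.Prime]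

/-- The vectors inside a subgroup. -/
def vs (X : Subgroup G) : AddSubgroup (Mod p G) where
  carrier := {v | cv v ∈ X}
  zero_mem' := X.one_mem
  add_mem' := fun ha hb => X.mul_mem ha hb
  neg_mem' := fun ha => X.inv_mem ha

theorem mem_vs {X : Subgroup G} {v : Mod p G} : v ∈ vs X ↔ cv v ∈ X := Iff.rfl

theorem cv_sub_smul (g : G) (v : Mod p G) : cv (pr p g • v - v) = ⁅g, cv v⁆ := by
  rw [sub_eq_add_neg, cv_add, cv_smul, cv_neg, commutatorElement_def]

theorem movV_map_le_vs {X : Subgroup G} :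
    movV (Mod p G) (X.map (pr p)) ≤ vs ⁅X, Om p G⁆ := by
  rw [movV_le_iff]
  rintro _ ⟨x, hx, rfl⟩ v
  rw [mem_vs, cv_sub_smul]
  exact Subgroup.commutator_mem_commutator hx (cv_mem v)

theorem vs_comm_le_movV {X : Subgroup G} : vs ⁅X, Om p G⁆ ≤ movV (Mod p G) (X.map (pr p)) := by
  intro v hv
  have key : ∀ y ∈ ⁅X, Om p G⁆, ∀ (hy : y ∈ Om p G), vc hy ∈ movV (Mod p G) (X.map (pr p)) := by
    intro y hy
    induction hy using Subgroup.closure_induction with
    | mem y hy =>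
      obtain ⟨x, hx, o, ho, rfl⟩ := hy
      intro hy'
      rw [show vc hy' = pr p x • vc ho - vc ho from cv_injective (by rw [cv_sub_smul, cv_vc, cv_vc])]
      exact sub_mem_movV (X := X.map (pr p)) ⟨x, hx, rfl⟩ _
    | one =>
      intro hy'
      rw [show vc hy' = 0 from cv_injective (by rw [cv_vc, cv_zero])]
      exact zero_mem _
    | mul a b ha hb iha ihb =>
      intro hy'
      have hle : ⁅X, Om p G⁆ ≤ Om p G := Subgroup.commutator_le_right _ _
      rw [show vc hy' = vc (hle ha) + vc (hle hb) from cv_injective (by rw [cv_add, cv_vc, cv_vc, cv_vc])]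
      exact add_mem (iha _) (ihb _)
    | inv a ha iha =>
      intro hy'
      have hle : ⁅X, Om p G⁆ ≤ Om p G := Subgroup.commutator_le_right _ _
      rw [show vc hy' = -vc (hle ha) from cv_injective (by rw [cv_neg, cv_vc, cv_vc])]
      exact neg_mem (iha _)
  have h2 := key (cv v) hv (cv_mem v)
  rwa [show vc (cv_mem v) = v from cv_injective (cv_vc _)] at h2

/-- A block is normalised by the centraliser of the module. -/
theorem cen_le_normalizer {T : Sylow p G} {E : Subgroup G}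
    (hG : Subgroup.centralizer (pCore p G : Set G) ≤ pCore p G)
    (hE : IsBaumannBlock p (T : Subgroup G) E) : cen p G ≤ Subgroup.normalizer (E : Set G) := by
  refine le_trans ?_ (LAE62.centralizer_modX_le_normalizer T hG hE)
  refine Subgroup.centralizer_le ?_
  show LAE62.modX p E ≤ Om p G
  exact LAE65.Block.module_le hG hE

namespace IsRoot

variable {T : Sylow p G} {M : Subgroup G} {q : ℕ} {A : Subgroup (Bar p G)} {L : Subgroup G}
  (hL : IsRoot T q A L) (h : Ctx T M q)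
include hL h

local notation "𝐁" => baumannSubgroupOf p (T : Subgroup G)
local notation "𝐄" => pResidualOf p L
local notation "𝐔" => (⁅Om p G, pResidualOf p L⁆ : Subgroup G)
local notation "𝐒" => sSup (line (Mod p G) q (Tbar T) 1 A)

theorem E_cen_le : 𝐄 ⊓ cen p G ≤ pCoreOf p 𝐄 := by
  obtain ⟨F, i1, i2, hq, hchF, S, ρ, hS, hρ, hker, hb⟩ := hL.exists_blk h
  rintro x ⟨⟨e, he, rfl⟩, hxc⟩
  rw [pCoreOf_residual]
  refine ⟨e, ⟨he, hb.cent e fun u hu => Subtype.ext ?_⟩, rfl⟩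
  exact (Subgroup.mem_centralizer_iff.1 hxc _ (hL.U_le_om h hu)).symm

theorem le_sup_B : L ≤ 𝐄 ⊔ 𝐁 := by
  obtain ⟨S, hS⟩ := hL.exists_sylow h
  haveI := Transfer.pResidual_normal (p := p) (G := ↥L)
  intro l hl
  obtain ⟨e, he, s, hs, e1⟩ := (Subgroup.mem_sup_of_normal_left (t := (S : Subgroup ↥L))).1
    (((sup_comm _ _).trans (Transfer.sylow_sup_pResidual_eq_top S)).ge
      (Subgroup.mem_top (⟨l, hl⟩ : ↥L)))
  rw [show l = (e : G) * s from congrArg Subtype.val e1.symm]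
  exact Subgroup.mul_mem_sup ⟨e, he, rfl⟩ (hS.le hs)

theorem A_le_line : A ≤ 𝐒 :=
  le_sSup (s := line (Mod p G) q (Tbar T) 1 A) (h.conf.self_mem_line hL.mem)

theorem line_le : 𝐒 ≤ (𝐄).map (pr p) ⊔ A := by
  intro s hs
  obtain ⟨Y, hY, hne⟩ := h.conf.exists_other hL.mem
  have h1 : s ∈ L.map (pr p) := hL.map_eq.ge (Subgroup.mem_sup_left hs)
  have h2 : L.map (pr p) ≤ ((𝐄).map (pr p) ⊔ A) ⊔ oth (Mod p G) q (Tbar T) A := by
    refine (Subgroup.map_mono (hL.le_sup_B h)).trans ?_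
    rw [Subgroup.map_sup, h.map_B, h.conf.roots_eq_oth hL.mem, sup_assoc]
  have hle : (𝐄).map (pr p) ⊔ A ≤ 𝐒 := sup_le (hL.map_E_le h) (hL.A_le_line h)
  obtain ⟨z, hz, d, hd, e⟩ := mem_sup_of_com ((h.conf.com_oth hL.mem).mono hle le_rfl) (h2 h1)
  have hdS : d ∈ 𝐒 := by
    rw [show d = z⁻¹ * s by rw [e, inv_mul_cancel_left]]
    exact mul_mem (inv_mem (hle hz)) hs
  have hd1 : d = 1 := h.conf.eq_one_of_central hL.mem (h.conf.self_mem_line hL.mem) hY hne hdS
    (h.conf.oth_pow hL.mem hd)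
    (fun x hx => (h.conf.com_oth hL.mem x (hL.A_le_line h hx) d hd).symm)
    (fun x hx => (h.conf.com_oth hL.mem x (le_sSup hY hx) d hd).symm)
  rw [e, hd1, mul_one]
  exact hz

theorem pr_L_le_normalizer_U {z : Bar p G} (hz : z ∈ L.map (pr p)) {v : Mod p G} (hv : v ∈ vs 𝐔) :
    z • v ∈ vs 𝐔 := by
  obtain ⟨l, hl, rfl⟩ := hz
  rw [mem_vs, cv_smul]
  have hOn : ((Om p G).subgroupOf L).Normal := (om_normal p G).subgroupOf L
  haveI hEn := Transfer.pResidual_normal (p := p) (G := ↥L)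
  have hUn : ((𝐔).subgroupOf L).Normal := hL.U_map h ▸ Subgroup.commutator_normal _ _
  exact hUn.conj_mem ⟨cv v, (hL.U_le_om h).trans (hL.om_le_L h) hv⟩ hv ⟨l, hl⟩

theorem vs_U_le_movV : vs 𝐔 ≤ movV (Mod p G) 𝐒 := by
  rw [Subgroup.commutator_comm]
  refine vs_comm_le_movV.trans (movV_le_iff.2 fun z hz v => ?_)
  exact sub_mem_movV (hL.map_E_le h hz) v

theorem split (v : Mod p G) :
    ∃ u ∈ vs (𝐔), v - u ∈ (FFSL2.fix 𝐒 : AddSubgroup (Mod p G)) := by
  obtain ⟨F, i1, i2, hq, hchF, S, ρ, hS, hρ, hker, hb⟩ := hL.exists_blk h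
  obtain ⟨F', j1, j2, ρ', ψ', hc', hs', hk', -⟩ := h.conf.exists_natural hL.mem
  obtain ⟨ψ, hm, hs, hz, -⟩ := hb.crd.ex
  have hUL : 𝐔 ≤ L := (hL.U_le_om h).trans (hL.om_le_L h)
  choose c hc hcv using hs
  have hom : ∀ a, (c a : G) ∈ Om p G := fun a => hL.U_le_om h (hc a)
  let g : (Fin 2 → F) → (Fin 2 → F') := fun a => ψ' (vc (hom a))
  have hinj : Function.Injective g := by
    intro a b e
    have h1 : vc (hom a) - vc (hom b) ∈ (FFSL2.fix 𝐒 : AddSubgroup (Mod p G)) := by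
      rw [← hk', map_sub, sub_eq_zero]; exact e
    set w : ↥L := c a * (c b)⁻¹ with hw
    have hwU : w ∈ (𝐔).subgroupOf L := mul_mem (hc a) (inv_mem (hc b))
    have hwC : w ∈ Subgroup.centralizer ((pResidual p ↥L : Subgroup ↥L) : Set ↥L) := by
      rw [Subgroup.mem_centralizer_iff]
      intro e₁ he₁
      have h2 := h1 (pr p (e₁ : G)) (hL.map_E_le h ⟨(e₁ : G), ⟨e₁, he₁, rfl⟩, rfl⟩)
      rw [smul_eq_iff] at h2
      exact Subtype.ext (by simpa [hw, sub_eq_add_neg, cv_add, cv_neg, cv_vc] using h2)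
    have h3 : ψ w = 0 := (hz w hwU).2 ⟨hwU, hwC⟩
    have h4 : ψ (c a) = ψ (c b) := by
      have := hm w hwU (c b) (hc b)
      rw [hw, inv_mul_cancel_right, h3, zero_add] at this
      exact this
    rwa [hcv, hcv] at h4
  have hbij : Function.Bijective g := (Fintype.bijective_iff_injective_and_card g).2
    ⟨hinj, by simp [hq, hc']⟩
  obtain ⟨a, ha⟩ := hbij.2 (ψ' v)
  refine ⟨vc (hom a), hc a, ?_⟩
  rw [← hk', map_sub, sub_eq_zero]
  exact ha.symm

theorem movV_line_le : movV (Mod p G) 𝐒 ≤ vs 𝐔 := by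
  rw [movV_le_iff]
  intro z hz v
  obtain ⟨u, hu, hf⟩ := hL.split h v
  have h1 : z • (v - u) = v - u := hf z hz
  rw [smul_sub] at h1
  rw [show z • v - v = z • u - u by rw [sub_eq_sub_iff_sub_eq_sub, h1]]
  exact sub_mem (hL.pr_L_le_normalizer_U h (hL.map_eq.ge (Subgroup.mem_sup_left hz)) hu) hu

theorem preimage_roots_le : L ⊓ (roots (Mod p G) q (Tbar T)).comap (pr p) ≤ 𝐁 := by
  obtain ⟨F, i1, i2, hq, hchF, S, ρ, hS, hρ, hker, hb⟩ := hL.exists_blk h
  refine hL.sylow _ ?_ (fun b hb' => ⟨hL.B_le hb', h.map_B.le ⟨b, hb', rfl⟩⟩) inf_le_left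
  rintro ⟨x, hxL, hxR⟩
  obtain ⟨k, hk⟩ := (Tbar T).isPGroup' ⟨pr p x, h.conf.roots_le hxR⟩
  have hxc : x ^ p ^ k ∈ cen p G := pr_eq_one.1 (by
    rw [map_pow]; exact congrArg Subtype.val hk)
  have hxQ : (⟨x, hxL⟩ : ↥L) ^ p ^ k ∈ pCore p ↥L := hb.cent _ fun u hu =>
    Subtype.ext (Subgroup.mem_centralizer_iff.1 (show x ^ p ^ k ∈ cen p G from hxc) _
      (hL.U_le_om h hu)).symm
  obtain ⟨j, hj⟩ := (Thompson.isPGroup_pCore (p := p) (G := ↥L)) ⟨_, hxQ⟩
  refine ⟨k + j, Subtype.ext ?_⟩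
  have := congrArg (fun y : ↥(pCore p ↥L) => ((y : ↥L) : G)) hj
  simpa [← pow_mul, ← pow_add] using this

theorem inf_T : L ⊓ (T : Subgroup G) = 𝐁 :=
  le_antisymm (hL.sylow _ (T.isPGroup'.to_le inf_le_right)
    (le_inf hL.B_le (LAE65.Block.baumann_le _)) inf_le_left)
    (le_inf hL.B_le (LAE65.Block.baumann_le _))

theorem cj_A_eq {e : G} (he : e ∈ L) (hM : FFSL2.cj (pr p e) A ≤ M.map (pr p)) :
    FFSL2.cj (pr p e) A = A := by
  obtain ⟨s, hs, d, hd, e1⟩ := mem_sup_of_com (h.conf.com_oth hL.mem) (hL.map_eq.le ⟨e, he, rfl⟩)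
  have hdA : FFSL2.cj d A = A := com_mem_cj_eq fun a ha =>
    (h.conf.com_oth hL.mem a (hL.A_le_line h ha) d hd).symm
  rw [e1, FFSL2.cj_mul, hdA] at hM ⊢
  by_contra hne
  have hX := h.conf.cj_line_of_mem hL.mem hs A (h.conf.self_mem_line hL.mem)
  obtain ⟨Y, hY, hYM⟩ := h.conf.exists_not_le hL.mem
  refine hYM ((le_sSup hY).trans ?_)
  rw [h.conf.sSup_line hL.mem (h.conf.self_mem_line hL.mem) hX (Ne.symm hne), FFSL2.cj_one]
  exact sup_le ((h.conf.mem_le_roots hL.mem).trans (h.conf.roots_le.trans (Subgroup.map_mono h.le_M))) hM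

theorem mem_normalizer_B {e : G} (he : e ∈ L) (hA : FFSL2.cj (pr p e) A = A) :
    e ∈ Subgroup.normalizer ((𝐁) : Set G) := by
  set O := oth (Mod p G) q (Tbar T) A
  have hR : FFSL2.cj (pr p e) (roots (Mod p G) q (Tbar T)) = roots (Mod p G) q (Tbar T) := by
    rw [h.conf.roots_eq_oth hL.mem, FFSL2.cj, Subgroup.map_sup, ← FFSL2.cj, ← FFSL2.cj, hA]
    congr 1
    refine FFPM.cj_eq_of_mem_normalizer ?_
    refine (sup_le ?_ Subgroup.le_normalizer : 𝐒 ⊔ O ≤ _) (hL.map_eq.le ⟨e, he, rfl⟩)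
    intro s hs
    exact PushUp62.mem_normalizer_of_cj_eq (com_mem_cj_eq fun d hd => h.conf.com_oth hL.mem s hs d hd)
  refine PushUp62.mem_normalizer_of_cj_eq (Subgroup.eq_of_le_of_card_ge ?_ (FFSL2.card_cj e _).ge)
  intro x hx
  refine hL.preimage_roots_le h ⟨?_, ?_⟩
  · have := hL.B_le (FFSL2.mem_cj.1 hx)
    simpa [mul_assoc] using mul_mem (mul_mem he this) (inv_mem he)
  · show pr p x ∈ roots (Mod p G) q (Tbar T)
    rw [← hR, FFSL2.mem_cj]
    have := h.map_B.le ⟨_, FFSL2.mem_cj.1 hx, rfl⟩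
    simpa using this

theorem core_eq_U (h2 : p ≠ 3) : pCoreOf p 𝐄 = 𝐔 := by
  obtain ⟨F, i1, i2, hq, hchF, S, ρ, hS, hρ, hker, hb⟩ := hL.exists_blk h
  rw [pCoreOf_residual, hb.inf_eq, hb.cases.resolve_right fun hc => h2 hc.p_eq,
    Subgroup.map_subgroupOf_eq_of_le ((hL.U_le_om h).trans (hL.om_le_L h))]

/-- An involution inducing the member. -/
theorem exists_inv (hq2 : q = 2) (hp2 : p = 2) : ∃ w ∈ (𝐁), pr p w = el A ∧ w * w = 1 ∧
    ∀ b ∈ (𝐁), ⁅w, b⁆ ∈ 𝐔 := by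
  subst hq2
  obtain ⟨F, i1, i2, hq, hchF, S, ρ, hS, hρ, hker, hb⟩ := hL.exists_blk h
  obtain ⟨Wt, hWtS, hWte, hdec, hWx⟩ := hb.wt
  have hcoe : coE p ↥L = (𝐔).subgroupOf L := hb.cases.resolve_right fun hc => by
    have := hc.p_eq
    omega
  have ha := hL.mem.1.el_spec
  obtain ⟨b₀, hb₀, eb₀⟩ := h.map_B.ge (h.conf.mem_le_roots hL.mem ha.1)
  obtain ⟨w, hw, x, hx, e0⟩ := hdec ⟨b₀, hL.B_le hb₀⟩ (hS.ge hb₀)
  have hwB : (w : G) ∈ 𝐁 := hS.le (hWtS hw)
  have hcomm : ∀ b ∈ (𝐁), ⁅(w : G), b⁆ ∈ 𝐔 := by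
    intro b hb'
    obtain ⟨w', hw', x', hx', e'⟩ := hdec ⟨b, hL.B_le hb'⟩ (hS.ge hb')
    haveI hUn : ((𝐔).subgroupOf L).Normal := hcoe ▸ Subgroup.commutator_normal _ _
    have h1 : ⁅w, (⟨b, hL.B_le hb'⟩ : ↥L)⁆ ∈ (𝐔).subgroupOf L := by
      rw [e', PushUp62.commutator_mul_right, commutatorElement_eq_one_iff_mul_comm.2
        (Thompson.elemAb_comm hWte.1 hw hw'), one_mul]
      exact hUn.conj_mem _ (hcoe ▸ hWx w hw x' hx') w'
    exact h1
  have hw2 : (w : G) * w = 1 := by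
    have := congrArg Subtype.val (hWte.2 w hw)
    rw [hp2, pow_two] at this
    simpa using this
  set d := (el A)⁻¹ * pr p (w : G) with hd0
  have hdO : d ∈ oth (Mod p G) 2 (Tbar T) A := by
    have h1 : pr p (w : G) = el A * (pr p (x : G))⁻¹ := by
      rw [← eb₀, show b₀ = (w : G) * x from congrArg Subtype.val e0, map_mul, mul_inv_cancel_right]
    rw [hd0, h1, inv_mul_cancel_left]
    exact inv_mem (hL.core_map_le h hx)
  have hd1 : d = 1 := h.conf.pm.faith d fun v => by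
    rw [← sub_eq_zero]
    refine h.conf.eq_zero_of_line_two hL.mem (hL.vs_U_le_movV h ?_) (h.conf.oth_sub_mem hL.mem hdO v)
    have h1 : pr p (w : G) • v - v ∈ vs 𝐔 := by
      rw [mem_vs, cv_sub_smul]
      exact hcomm _ ((h.om_le_inf_core (cv_mem v)).1)
    have h2 : el A • v - v ∈ vs 𝐔 :=
      hL.movV_line_le h (sub_mem_movV (hL.A_le_line h ha.1) v)
    have h3 : el A • (d • v - v) = d • v - v :=
      h.conf.oth_sub_mem hL.mem hdO v _ (hL.A_le_line h ha.1)
    rw [smul_sub, ← mul_smul, hd0, mul_inv_cancel_left, ← hd0] at h3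
    have h4 := sub_mem h1 h2
    rw [show pr p (w : G) • v - v - (el A • v - v) = pr p (w : G) • v - el A • v by abel, h3] at h4
    exact h4
  exact ⟨w, hwB, (inv_mul_eq_one.1 hd1).symm, hw2, hcomm⟩

end IsRoot

end Cfsg.Agent.Block82
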