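import Mathlib.GroupTheory.Perm.Support
import Mathlib.GroupTheory.Perm.Sign
import Mathlib.GroupTheory.SpecificGroups.Alternating

/-!
A group over the symmetric group with a well centralised lift of a transposition.
-/

set_option autoImplicit false

namespace Cfsg.Agent.Block82

open Equiv

variable {ι : Type*} [DecidableEq ι]

theorem exists_perm_pair {a b i j : ι} (hab : a ≠ b) (hij : i ≠ j) :
    ∃ σ : Perm ι, σ a = i ∧ σ b = j := by
  refine ⟨swap (swap a i b) j * swap a i, ?_, by simp⟩
  rw [Perm.mul_apply, swap_apply_left, swap_apply_of_ne_of_ne ?_ hij]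
  intro e
  exact hab ((swap a i).injective (by rw [swap_apply_left]; exact e))

theorem mem_of_commute_swap [Fintype ι] {k l o : ι} (hkl : k ≠ l) (hk : o ≠ k) (hl : o ≠ l)
    {R : Subgroup (Perm ι)} (hR : swap k l ∈ R) (hS : ∀ i, i ≠ k → i ≠ l → i ≠ o → swap i o ∈ R)
    {σ : Perm ι} (hσ : σ * swap k l = swap k l * σ) : σ ∈ R := by
  classical
  have hpair : ∀ i j, i ≠ k → i ≠ l → j ≠ k → j ≠ l → i ≠ j → swap i j ∈ R := by
    intro i j hik hil hjk hjl hij
    by_cases hio : i = o
    · subst hio; rw [swap_comm]; exact hS j hjk hjl (Ne.symm hij)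
    by_cases hjo : j = o
    · subst hjo; exact hS i hik hil hij
    have := R.mul_mem (R.mul_mem (hS i hik hil hio) (hS j hjk hjl hjo)) (hS i hik hil hio)
    have e := swap_mul_swap_mul_swap (x := j) (y := o) (z := i) hjo (Ne.symm hij)
    rw [swap_comm j o, swap_comm o i] at e
    rw [← e, swap_comm o j]
    exact this
  have key : ∀ τ : Perm ι, τ k = k → τ l = l → τ ∈ R := by
    intro τ h1 h2
    let P : ι → Prop := fun i => i ≠ k ∧ i ≠ l
    have hP : ∀ i, P (τ i) ↔ P i := fun i => by
      show τ i ≠ k ∧ τ i ≠ l ↔ _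
      conv_lhs => rw [← h1, ← h2]
      rw [τ.injective.ne_iff, τ.injective.ne_iff]
    have hfix : ∀ i, τ i ≠ i → P i := fun i hi => ⟨fun e => hi (e ▸ h1), fun e => hi (e ▸ h2)⟩
    have hmem : τ.subtypePerm hP ∈ R.comap (Perm.ofSubtype (p := P)) := by
      have : (R.comap (Perm.ofSubtype (p := P))) = ⊤ := by
        rw [eq_top_iff, ← Perm.closure_isSwap, Subgroup.closure_le]
        rintro _ ⟨i, j, hij, rfl⟩
        rw [SetLike.mem_coe, Subgroup.mem_comap, Perm.ofSubtype_swap_eq]
        exact hpair _ _ i.2.1 i.2.2 j.2.1 j.2.2 (fun e => hij (Subtype.ext e))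
      rw [this]; exact Subgroup.mem_top _
    rw [Subgroup.mem_comap, Perm.ofSubtype_subtypePerm hP hfix] at hmem
    exact hmem
  have h1 : swap k l (σ k) = σ l := by
    rw [← Perm.mul_apply, ← hσ, Perm.mul_apply, swap_apply_left]
  have h2 : σ k = k ∨ σ k = l := by
    by_contra! hne
    rw [swap_apply_of_ne_of_ne hne.1 hne.2] at h1
    exact hkl (σ.injective h1)
  rcases h2 with e | e
  · rw [e, swap_apply_left] at h1
    exact key σ e h1.symm
  · rw [e, swap_apply_right] at h1
    have := R.mul_mem hR (key (swap k l * σ) (by rw [Perm.mul_apply, e, swap_apply_right])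
      (by rw [Perm.mul_apply, ← h1, swap_apply_left]))
    rwa [← mul_assoc, swap_mul_self, one_mul] at this

theorem eq_or_eq_of_swap_eq {a b i j : ι} (hab : a ≠ b) (e : swap a b = swap i j) :
    a = i ∨ a = j := by
  by_contra! hne
  have := Equiv.congr_fun e a
  rw [swap_apply_left, swap_apply_of_ne_of_ne hne.1 hne.2] at this
  exact hab this.symm

variable [Fintype ι] {X : Type*} [Group X]

/-- The conjugates of a well centralised lift of a transposition generate a copy of the symmetric
group. -/
theorem eq_one_of_mem_normalClosure (π : X →* Perm ι) (hπ : Function.Surjective π) {a b : ι}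
    (hab : a ≠ b) {c : X} (hc : c * c = 1) (hπc : π c = swap a b)
    (hcent : ∀ g : X, π g * swap a b = swap a b * π g → g * c = c * g)
    {x : X} (hx : x ∈ Subgroup.normalClosure ({c} : Set X)) (h1 : π x = 1) : x = 1 := by
  classical
  have huniq : ∀ g g' : X, π (g * c * g⁻¹) = π (g' * c * g'⁻¹) → g * c * g⁻¹ = g' * c * g'⁻¹ := by
    intro g g' e
    have h := hcent (g'⁻¹ * g) (by
      simp only [map_mul, map_inv, hπc] at e
      have h' := congrArg (fun z => (π g')⁻¹ * z * π g) e
      simpa [mul_assoc] using h')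
    calc g * c * g⁻¹ = g' * ((g'⁻¹ * g) * c) * g⁻¹ := by group
      _ = g' * (c * (g'⁻¹ * g)) * g⁻¹ := by rw [h]
      _ = g' * c * g'⁻¹ := by group
  set Cl : Set X := {u | ∃ g : X, u = g * c * g⁻¹} with hCl
  have hswap : ∀ g : X, π (g * c * g⁻¹) = swap (π g a) (π g b) := fun g => by
    rw [map_mul, map_mul, map_inv, hπc, Equiv.mul_swap_eq_swap_mul, mul_inv_cancel_right]
  have ht : ∀ i j, i ≠ j → ∃ u ∈ Cl, π u = swap i j := fun i j hij => by
    obtain ⟨σ, rfl, rfl⟩ := exists_perm_pair hab hij
    obtain ⟨g, rfl⟩ := hπ σ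
    exact ⟨_, ⟨g, rfl⟩, hswap g⟩
  have heq : ∀ u ∈ Cl, ∀ v ∈ Cl, π u = π v → u = v := by
    rintro _ ⟨g, rfl⟩ _ ⟨g', rfl⟩ e
    exact huniq g g' e
  have hconj : ∀ u ∈ Cl, ∀ v ∈ Cl, u * v * u⁻¹ ∈ Cl := by
    rintro _ ⟨g, rfl⟩ _ ⟨g', rfl⟩
    exact ⟨g * c * g⁻¹ * g', by group⟩
  have hsq : ∀ u ∈ Cl, u * u = 1 := by
    rintro _ ⟨g, rfl⟩
    rw [show g * c * g⁻¹ * (g * c * g⁻¹) = g * (c * c) * g⁻¹ by group, hc, mul_one, mul_inv_cancel]
  let gens : Finset ι → Set X := fun s => {u | u ∈ Cl ∧ ∃ i ∈ s, ∃ j ∈ s, i ≠ j ∧ π u = swap i j}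
  have key : ∀ s : Finset ι, ∀ y ∈ Subgroup.closure (gens s), π y = 1 → y = 1 := by
    intro s
    induction s using Finset.induction_on with
    | empty =>
      intro y hy _
      have : gens ∅ = ∅ := Set.eq_empty_of_forall_notMem fun u ⟨_, i, hi, _⟩ => by simp at hi
      rw [this, Subgroup.closure_empty, Subgroup.mem_bot] at hy
      exact hy
    | @insert l s hls ih =>
      intro y hy hy1
      set Hs := Subgroup.closure (gens s) with hHs
      have hfixl : ∀ z ∈ Hs, π z l = l := by
        intro z hz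
        induction hz using Subgroup.closure_induction with
        | mem z hz =>
          obtain ⟨-, i, hi, j, hj, -, e⟩ := hz
          rw [e, swap_apply_of_ne_of_ne (fun e' => hls (by rw [e']; exact hi)) (fun e' => hls (by rw [e']; exact hj))]
        | one => simp
        | mul u v _ _ hu hv => rw [map_mul, Perm.mul_apply, hv, hu]
        | inv u _ hu => rw [map_inv, Perm.inv_eq_iff_eq, hu]
      set S : Set X := {z | z ∈ Hs ∨ ∃ i ∈ s, ∃ t ∈ Cl, π t = swap i l ∧ t⁻¹ * z ∈ Hs} with hS
      have hgS : ∀ u ∈ gens (insert l s), ∀ z ∈ S, u * z ∈ S := by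
        rintro u ⟨huC, a', ha', b', hb', hab', eu⟩ z hz
        have hinv : u⁻¹ = u := inv_eq_of_mul_eq_one_left (hsq u huC)
        by_cases hin : a' ∈ s ∧ b' ∈ s
        · have huH : u ∈ Hs := Subgroup.subset_closure ⟨huC, a', hin.1, b', hin.2, hab', eu⟩
          rcases hz with hz | ⟨i, hi, t, htC, et, hz⟩
          · exact Or.inl (Hs.mul_mem huH hz)
          · refine Or.inr ⟨π u i, ?_, u * t * u⁻¹, hconj u huC t htC, ?_, ?_⟩
            · rw [eu]
              rcases eq_or_ne i a' with rfl | h1
              · rw [swap_apply_left]; exact hin.2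
              rcases eq_or_ne i b' with rfl | h2
              · rw [swap_apply_right]; exact hin.1
              rw [swap_apply_of_ne_of_ne h1 h2]; exact hi
            · rw [map_mul, map_mul, map_inv, et, Equiv.mul_swap_eq_swap_mul, mul_inv_cancel_right,
                show π u l = l from hfixl u huH]
            · rw [show (u * t * u⁻¹)⁻¹ * (u * z) = u * (t⁻¹ * z) by group]
              exact Hs.mul_mem huH hz
        · obtain ⟨a, ha, eu⟩ : ∃ a ∈ s, π u = swap a l := by
            rcases Finset.mem_insert.1 ha' with e1 | h1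
            · rcases Finset.mem_insert.1 hb' with e2 | h2
              · exact absurd (e1.trans e2.symm) hab'
              · exact ⟨b', h2, by rw [eu, e1, swap_comm]⟩
            · rcases Finset.mem_insert.1 hb' with e2 | h2
              · exact ⟨a', h1, by rw [eu, e2]⟩
              · exact absurd ⟨h1, h2⟩ hin
          rcases hz with hz | ⟨i, hi, t, htC, et, hz⟩
          · refine Or.inr ⟨a, ha, u, huC, eu, ?_⟩
            rwa [inv_mul_cancel_left]
          · rcases eq_or_ne i a with rfl | hia
            · left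
              rw [heq u huC t htC (eu.trans et.symm)] at hinv ⊢
              rwa [← hinv]
            · refine Or.inr ⟨i, hi, t, htC, et, ?_⟩
              rw [show t⁻¹ * (u * z) = t⁻¹ * u * t * (t⁻¹ * z) by group]
              refine Hs.mul_mem (Subgroup.subset_closure ⟨?_, a, ha, i, hi, Ne.symm hia, ?_⟩) hz
              · obtain ⟨g, rfl⟩ := huC
                exact ⟨t⁻¹ * g, by group⟩
              · have hli : l ≠ i := fun e => hls (e ▸ hi)
                have hal : a ≠ l := fun e => hls (e ▸ ha)
                rw [map_mul, map_mul, map_inv, et, eu, swap_inv, swap_comm i l,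
                  swap_mul_swap_mul_swap hal (Ne.symm hia), swap_comm]
      have hyS : y ∈ S := by
        clear hy1
        induction hy using Subgroup.closure_induction_left with
        | one => exact Or.inl Hs.one_mem
        | mul_left u hu z _ hz => exact hgS u hu z hz
        | inv_mul_cancel u hu z _ hz =>
          rw [inv_eq_of_mul_eq_one_left (hsq u hu.1)]
          exact hgS u hu z hz
      rcases hyS with hy' | ⟨i, hi, t, htC, et, hy'⟩
      · exact ih y hy' hy1
      · exfalso
        have h := hfixl _ hy'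
        rw [map_mul, map_inv, hy1, mul_one, et, swap_inv, swap_apply_right] at h
        exact hls (h ▸ hi)
  refine key Finset.univ x ?_ h1
  have hle : Subgroup.normalClosure ({c} : Set X) ≤ Subgroup.closure (gens Finset.univ) := by
    refine Subgroup.closure_mono fun u hu => ?_
    obtain ⟨c', hc', huc⟩ := Group.mem_conjugatesOfSet_iff.1 hu
    rw [Set.mem_singleton_iff] at hc'
    subst hc'
    obtain ⟨g, rfl⟩ := isConj_iff.1 huc
    exact ⟨⟨g, rfl⟩, π g a, Finset.mem_univ _, π g b, Finset.mem_univ _,
      (π g).injective.ne hab, hswap g⟩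
  exact hle hx

end Cfsg.Agent.Block82
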