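import Cfsg.Agent.LAE62.SL2Three
import Cfsg.Agent.Lib.Thompson.Block.Perm

/-!
The alternating groups inside `SL₂`.
-/

set_option autoImplicit false
set_option linter.style.haveILetI false

namespace Cfsg.Agent.Block82

open scoped MatrixGroups

variable {F : Type} [Field F]

theorem sl2_sq_eq_one (h2 : (2 : F) ≠ 0) {g : SL(2, F)} (h : g * g = 1) : g = 1 ∨ g = -1 := by
  have hg : g⁻¹ = g := inv_eq_of_mul_eq_one_right h
  have e : ∀ i j, (g⁻¹ : SL(2, F)) i j = g i j := fun i j => by rw [hg]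
  have e00 := e 0 0; have e01 := e 0 1; have e10 := e 1 0
  simp [Matrix.SpecialLinearGroup.coe_inv, Matrix.adjugate_fin_two] at e00 e01 e10
  have h01 : g 0 1 = 0 := mul_left_cancel₀ h2 (by linear_combination -e01)
  have h10 : g 1 0 = 0 := mul_left_cancel₀ h2 (by linear_combination -e10)
  have hd := LAE62.det_entries g
  have hsq : (g 0 0 - 1) * (g 0 0 + 1) = 0 := by
    rw [h01, e00] at hd; linear_combination hd
  rcases mul_eq_zero.1 hsq with h0 | h0
  · left
    apply Subtype.ext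
    ext i j
    fin_cases i <;> fin_cases j <;> simp [h01, h10, e00, sub_eq_zero.1 h0]
  · right
    apply Subtype.ext
    ext i j
    fin_cases i <;> fin_cases j <;> simp [h01, h10, e00, eq_neg_of_add_eq_zero_left h0]

theorem sl2_no_four (h2 : (2 : F) = 0) {g : SL(2, F)} (h : g ^ 4 = 1) : g ^ 2 = 1 := by
  set t : F := g 0 0 + g 1 1 with ht
  have hd := LAE62.det_entries g
  have hneg : ∀ x : F, -x = x := fun x => by linear_combination (-x) * h2
  have hsq : ((g ^ 2 : SL(2, F)) : Matrix (Fin 2) (Fin 2) F) =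
      t • (g : Matrix (Fin 2) (Fin 2) F) + 1 := by
    rw [pow_two, Matrix.SpecialLinearGroup.coe_mul]
    ext i j
    fin_cases i <;> fin_cases j <;> simp [Matrix.mul_apply, Fin.sum_univ_two, ht]
    · linear_combination (-1 : F) * hd - h2
    · ring
    · ring
    · linear_combination (-1 : F) * hd - h2
  have h4 : ((g ^ 4 : SL(2, F)) : Matrix (Fin 2) (Fin 2) F) =
      (t * t) • ((g ^ 2 : SL(2, F)) : Matrix (Fin 2) (Fin 2) F) + 1 := by
    rw [show (4 : ℕ) = 2 * 2 from rfl, pow_mul, pow_two (g ^ 2), Matrix.SpecialLinearGroup.coe_mul]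
    conv_lhs => rw [hsq]
    rw [add_mul, mul_add, mul_add, mul_one, one_mul, one_mul, smul_mul_smul_comm,
      ← Matrix.SpecialLinearGroup.coe_mul, ← pow_two g]
    have h0 : t • (g : Matrix (Fin 2) (Fin 2) F) + t • (g : Matrix (Fin 2) (Fin 2) F) = 0 := by
      rw [← add_smul, show t + t = 0 by linear_combination t * h2, zero_smul]
    rw [add_assoc, ← add_assoc (t • (g : Matrix (Fin 2) (Fin 2) F)), h0, zero_add]
  rw [h, Matrix.SpecialLinearGroup.coe_one, right_eq_add, smul_eq_zero] at h4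
  have ht0 : t = 0 := by
    rcases h4 with h4 | h4
    · exact mul_self_eq_zero.1 h4
    · exfalso
      have := (g ^ 2).2
      rw [h4, Matrix.det_zero] at this
      exact zero_ne_one this
  refine Subtype.ext ?_
  rw [hsq, ht0, zero_smul, zero_add, Matrix.SpecialLinearGroup.coe_one]

theorem exists_klein {n : ℕ} (hn : 5 ≤ n) : ∃ a b : ↥(alternatingGroup (Fin n)),
    a * a = 1 ∧ b * b = 1 ∧ a ≠ 1 ∧ b ≠ 1 ∧ a ≠ b := by
  classical
  let f : Fin 5 ≃ Set.range (Fin.castLE hn) := Equiv.ofInjective _ (Fin.castLE_injective hn)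
  let φ : Equiv.Perm (Fin 5) →* Equiv.Perm (Fin n) := Equiv.Perm.extendDomainHom f
  have hφ : Function.Injective φ := Equiv.Perm.extendDomainHom_injective f
  have hs : ∀ σ, Equiv.Perm.sign σ = 1 → φ σ ∈ alternatingGroup (Fin n) := fun σ hσ => by
    rw [Equiv.Perm.mem_alternatingGroup]
    exact (Equiv.Perm.sign_extendDomain σ f).trans hσ
  set σ : Equiv.Perm (Fin 5) := Equiv.swap 0 1 * Equiv.swap 2 3
  set τ : Equiv.Perm (Fin 5) := Equiv.swap 0 2 * Equiv.swap 1 3
  have e1 : σ * σ = 1 := by decide +kernel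
  have e2 : τ * τ = 1 := by decide +kernel
  have e3 : σ ≠ 1 := by decide +kernel
  have e4 : τ ≠ 1 := by decide +kernel
  have e5 : σ ≠ τ := by decide +kernel
  refine ⟨⟨φ σ, hs σ (by decide +kernel)⟩, ⟨φ τ, hs τ (by decide +kernel)⟩, ?_, ?_, ?_, ?_, ?_⟩
  · exact Subtype.ext (by rw [Subgroup.coe_mul, ← map_mul, e1, map_one]; rfl)
  · exact Subtype.ext (by rw [Subgroup.coe_mul, ← map_mul, e2, map_one]; rfl)
  · exact fun e => e3 (hφ ((congrArg Subtype.val e).trans (map_one φ).symm))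
  · exact fun e => e4 (hφ ((congrArg Subtype.val e).trans (map_one φ).symm))
  · exact fun e => e5 (hφ (congrArg Subtype.val e))

theorem exists_four {n : ℕ} (hn : 6 ≤ n) : ∃ a : ↥(alternatingGroup (Fin n)), a ^ 4 = 1 ∧ a ^ 2 ≠ 1 := by
  classical
  let f : Fin 6 ≃ Set.range (Fin.castLE hn) := Equiv.ofInjective _ (Fin.castLE_injective hn)
  let φ : Equiv.Perm (Fin 6) →* Equiv.Perm (Fin n) := Equiv.Perm.extendDomainHom f
  have hφ : Function.Injective φ := Equiv.Perm.extendDomainHom_injective f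
  set σ : Equiv.Perm (Fin 6) := Equiv.swap 0 1 * Equiv.swap 1 2 * Equiv.swap 2 3 * Equiv.swap 4 5
  have e1 : σ ^ 4 = 1 := by decide +kernel
  have e2 : σ ^ 2 ≠ 1 := by decide +kernel
  have hs : Equiv.Perm.sign σ = 1 := by decide +kernel
  refine ⟨⟨φ σ, ?_⟩, ?_, ?_⟩
  · rw [Equiv.Perm.mem_alternatingGroup]
    exact (Equiv.Perm.sign_extendDomain σ f).trans hs
  · exact Subtype.ext (by rw [SubmonoidClass.coe_pow, ← map_pow, e1, map_one]; rfl)
  · intro e
    refine e2 (hφ ?_)
    rw [map_pow, map_one]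
    exact congrArg Subtype.val e

/-- An alternating group of odd degree inside `SL₂` has degree a Fermat number at most five. -/
theorem alt_degree {m : ℕ} (f : ↥(alternatingGroup (Fin (2 * m + 1))) →* SL(2, F))
    (hf : Function.Injective f) (hm : m ≠ 0) : ∃ n : ℕ, 2 * m + 1 = 2 ^ n + 1 := by
  rcases Nat.lt_or_ge m 2 with hm2 | hm2
  · exact ⟨1, by omega⟩
  have h2 : (2 : F) = 0 := by
    by_contra h2
    obtain ⟨a, b, ha, hb, ha1, hb1, hab⟩ := exists_klein (n := 2 * m + 1) (by omega)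
    have key : ∀ c, c * c = 1 → c ≠ 1 → f c = -1 := fun c hc hc1 =>
      (sl2_sq_eq_one h2 (by rw [← map_mul, hc, map_one])).resolve_left fun e =>
        hc1 (hf (e.trans (map_one f).symm))
    exact hab (hf ((key a ha ha1).trans (key b hb hb1).symm))
  rcases Nat.lt_or_ge m 3 with hm3 | hm3
  · exact ⟨2, by omega⟩
  obtain ⟨a, ha4, ha2⟩ := exists_four (n := 2 * m + 1) (by omega)
  exact absurd (hf ((map_pow f a 2).trans ((sl2_no_four h2 (by rw [← map_pow, ha4, map_one])).trans
    (map_one f).symm))) ha2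

end Cfsg.Agent.Block82
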