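import Cfsg.Agent.Lib.Thompson.Block.Cls

/-!
The subgroups attached to the classes of linked members.
-/

set_option autoImplicit false
set_option linter.style.haveILetI false
set_option linter.unusedSectionVars false

open Cfsg
open scoped commutatorElement

namespace Cfsg.Agent.Block82

open Cfsg.Agent.FFPM

variable {p : ℕ} {G : Type*} [Group G] [Finite G] [hp : Fact p.Prime]

open Classical in
/-- A rank one subgroup for a member. -/
noncomputable def rootOf (T : Sylow p G) (q : ℕ) (A : Subgroup (Bar p G)) : Subgroup G :=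
  if e : ∃ L, IsRoot T q A L then e.choose else ⊥

/-- The block of a member. -/
noncomputable def blkE (T : Sylow p G) (q : ℕ) (A : Subgroup (Bar p G)) : Subgroup G :=
  pResidualOf p (rootOf T q A)

/-- The members linked with a member. -/
def clsOf (T : Sylow p G) (q : ℕ) (A : Subgroup (Bar p G)) : Set (Subgroup (Bar p G)) :=
  {B | B ∈ mems (Mod p G) q (Tbar T) 1 ∧ Lk (Mod p G) q (Tbar T) 1 A B}

/-- The join of the blocks of linked members. -/
noncomputable def clsK (T : Sylow p G) (q : ℕ) (A : Subgroup (Bar p G)) : Subgroup G :=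
  ⨆ B ∈ clsOf T q A, blkE T q B

namespace Ctx

variable {T : Sylow p G} {M : Subgroup G} {q : ℕ} (h : Ctx T M q) {A B : Subgroup (Bar p G)}
include h

local notation "𝐁" => baumannSubgroupOf p (T : Subgroup G)
local notation "𝐌𝐬" => mems (Mod p G) q (Tbar T) 1
local notation "𝐊" => clsK T q A
local notation "𝐔" => (⁅Om p G, clsK T q A⁆ : Subgroup G)
local notation "𝐂𝐥" => clsSup (Mod p G) q (Tbar T) 1 A

theorem isRoot_rootOf (hA : A ∈ 𝐌𝐬) : IsRoot T q A (rootOf T q A) := by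
  rw [rootOf, dif_pos (h.exists_root hA)]
  exact (h.exists_root hA).choose_spec

theorem blkE_block (hA : A ∈ 𝐌𝐬) : IsBaumannBlock p (T : Subgroup G) (blkE T q A) :=
  (h.isRoot_rootOf hA).isBlock h

theorem blkE_le_K (hB : B ∈ clsOf T q A) : blkE T q B ≤ 𝐊 :=
  le_iSup₂_of_le B hB le_rfl

theorem self_mem_cls (hA : A ∈ 𝐌𝐬) : A ∈ clsOf T q A := ⟨hA, Or.inl rfl⟩

theorem B_le_normalizer_E (hA : A ∈ 𝐌𝐬) : 𝐁 ≤ Subgroup.normalizer (blkE T q A : Set G) :=
  (h.isRoot_rootOf hA).B_le.trans ((h.isRoot_rootOf hA).normalizer_E h)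

theorem cen_le_normalizer_E (hA : A ∈ 𝐌𝐬) : cen p G ≤ Subgroup.normalizer (blkE T q A : Set G) :=
  cen_le_normalizer h.charP (h.blkE_block hA)

theorem le_normalizer_K {X : Subgroup G}
    (hX : ∀ B ∈ 𝐌𝐬, X ≤ Subgroup.normalizer (blkE T q B : Set G)) :
    X ≤ Subgroup.normalizer (𝐊 : Set G) := by
  intro x hx
  refine PushUp62.mem_normalizer_of_cj_eq ?_
  show Subgroup.map (MulAut.conj x).toMonoidHom _ = _
  simp only [clsK, Subgroup.map_iSup]
  exact iSup_congr fun B => iSup_congr fun (hB : B ∈ clsOf T q A) =>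
    FFPM.cj_eq_of_mem_normalizer (hX B hB.1 hx)

theorem B_le_normalizer_K : 𝐁 ≤ Subgroup.normalizer (𝐊 : Set G) :=
  h.le_normalizer_K fun _ hB => h.B_le_normalizer_E hB

theorem cen_le_normalizer_K : cen p G ≤ Subgroup.normalizer (𝐊 : Set G) :=
  h.le_normalizer_K fun _ hB => h.cen_le_normalizer_E hB

theorem om_le_cen : Om p G ≤ cen p G :=
  (LAE65.Block.omegaOneCenter_le _).trans pCore_le_cen

theorem U_le_K : 𝐔 ≤ 𝐊 :=
  Subgroup.le_normalizer_iff_commutator_le_right.1 (h.om_le_cen.trans h.cen_le_normalizer_K)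

theorem U_le_om' : 𝐔 ≤ Om p G := Subgroup.commutator_le_left _ _

theorem K_res : pResidualOf p 𝐊 = 𝐊 := by
  refine le_antisymm (LocalEven62.resOf_le _) (iSup₂_le fun B hB => ?_)
  rw [blkE, ← pResidualOf_idem]
  exact pResidualOf_le_iff.2 fun x hx hc =>
    LocalEven62.mem_resOf (h.blkE_le_K hB (show x ∈ blkE T q B from hx)) hc

theorem K_comm_B : ⁅𝐊, 𝐁⁆ = 𝐊 := by
  refine le_antisymm (Subgroup.le_normalizer_iff_commutator_le_left.1 h.B_le_normalizer_K)
    (iSup₂_le fun B hB => ?_)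
  rw [← (h.blkE_block hB.1).2.1]
  exact Subgroup.commutator_mono (h.blkE_le_K hB) le_rfl

theorem line_le_cls (hA : A ∈ 𝐌𝐬) (hB : B ∈ clsOf T q A) :
    sSup (line (Mod p G) q (Tbar T) 1 B) ≤ 𝐂𝐥 := by
  rw [h.conf.clsSup_eq hA hB.1 hB.2]
  exact sSup_le fun X hX => h.conf.le_clsSup hB.1 hX

theorem map_E_le_line (hA : A ∈ 𝐌𝐬) :
    (blkE T q A).map (pr p) ≤ sSup (line (Mod p G) q (Tbar T) 1 A) :=
  (h.isRoot_rootOf hA).map_E_le h

theorem map_K_le (hA : A ∈ 𝐌𝐬) : (𝐊).map (pr p) ≤ 𝐂𝐥 := by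
  rw [Subgroup.map_le_iff_le_comap]
  exact iSup₂_le fun B hB => Subgroup.map_le_iff_le_comap.1
    ((h.map_E_le_line hB.1).trans (h.line_le_cls hA hB))

theorem roots_le_normalizer : roots (Mod p G) q (Tbar T) ≤
    Subgroup.normalizer ((𝐊).map (pr p) : Set (Bar p G)) := by
  rw [← h.map_B]
  exact (Subgroup.map_mono h.B_le_normalizer_K).trans (Subgroup.le_normalizer_map _)

theorem cls_le_sup : 𝐂𝐥 ≤ (𝐊).map (pr p) ⊔ roots (Mod p G) q (Tbar T) := by
  refine sSup_le ?_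
  rintro X ⟨B, hB, hl, hX⟩
  refine (le_sSup hX).trans (((h.isRoot_rootOf hB).line_le h).trans ?_)
  exact sup_le_sup (Subgroup.map_mono (h.blkE_le_K ⟨hB, hl⟩)) (h.conf.mem_le_roots hB)

theorem lineSup_le_normalizer (hA : A ∈ 𝐌𝐬) : lineSup (Mod p G) q (Tbar T) 1 ≤
    Subgroup.normalizer ((𝐊).map (pr p) : Set (Bar p G)) := by
  rw [h.conf.lineSup_eq]
  refine sSup_le ?_
  rintro _ ⟨B, hB, rfl⟩
  by_cases hl : Lk (Mod p G) q (Tbar T) 1 A B
  · rw [← h.conf.clsSup_eq hA hB hl]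
    exact h.cls_le_sup.trans (sup_le Subgroup.le_normalizer h.roots_le_normalizer)
  · refine fun x hx => PushUp62.mem_normalizer_of_cj_eq (com_mem_cj_eq fun k hk => ?_)
    exact ((h.conf.com_clsSup hA hB hl) k (h.map_K_le hA hk) x hx).symm

theorem roots_le_lineSup : roots (Mod p G) q (Tbar T) ≤ lineSup (Mod p G) q (Tbar T) 1 :=
  sSup_le fun B hB => h.conf.le_lineSup 1 hB.1

theorem K_isSubnormal (hA : A ∈ 𝐌𝐬) : (𝐊).IsSubnormal := by
  set N := lineSup (Mod p G) q (Tbar T) 1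
  have hKN : (𝐊).map (pr p) ≤ N := by
    refine (h.map_K_le hA).trans ?_
    rw [show N = _ from h.conf.lineSup_eq]
    exact le_sSup ⟨A, hA, rfl⟩
  have h1 : ((𝐊).map (pr p)).IsSubnormal :=
    Subgroup.IsSubnormal.trans hKN
      ((Subgroup.normal_subgroupOf_iff_le_normalizer hKN).2 (h.lineSup_le_normalizer hA)).isSubnormal
      (h.conf.lineSup_spec 1).1.isSubnormal
  set P := ((𝐊).map (pr p)).comap (pr p)
  have hKP : 𝐊 ≤ P := Subgroup.le_comap_map _ _
  refine Subgroup.IsSubnormal.trans hKP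
    ((Subgroup.normal_subgroupOf_iff_le_normalizer hKP).2 ?_).isSubnormal (h1.comap _)
  rintro x ⟨k, hk, e⟩
  rw [show x = k * (k⁻¹ * x) by group]
  exact mul_mem (Subgroup.le_normalizer hk) (h.cen_le_normalizer_K
    (pr_eq_one.1 (by rw [map_mul, map_inv, e, inv_mul_cancel])))

theorem movV_cls_le : movV (Mod p G) 𝐂𝐥 ≤ vs 𝐔 := by
  rw [movV_le_iff]
  refine sSup_le ?_
  rintro X ⟨B, hB, hl, hX⟩ x hx v
  have h1 : x • v - v ∈ vs (⁅Om p G, blkE T q B⁆) :=
    (h.isRoot_rootOf hB).movV_line_le h (sub_mem_movV (le_sSup hX hx) v)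
  exact Subgroup.commutator_mono le_rfl (h.blkE_le_K ⟨hB, hl⟩) h1

theorem vs_U_le (hA : A ∈ 𝐌𝐬) : vs 𝐔 ≤ movV (Mod p G) 𝐂𝐥 := by
  rw [Subgroup.commutator_comm]
  refine vs_comm_le_movV.trans (movV_le_iff.2 fun z hz v => ?_)
  exact sub_mem_movV (h.map_K_le hA hz) v

theorem normalizer_K_le : Subgroup.normalizer (𝐊 : Set G) ≤ Subgroup.normalizer (𝐔 : Set G) :=
  fun g hg => LAE62.mem_normalizer_commutator (by rw [Subgroup.normalizer_eq_top]; trivial) hg

theorem U_comm_K : ⁅𝐔, 𝐊⁆ = 𝐔 :=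
  LAE65.Block.commutator_commutator_eq h.K_res (om_elemAb p G)
    (by rw [Subgroup.normalizer_eq_top]; exact le_top)

/-- For `p ≠ 3` the centraliser of the module centralises `K` modulo `[V, K]`. -/
theorem cen_comm_le (h3 : p ≠ 3) {c k : G} (hc : c ∈ cen p G) (hk : k ∈ 𝐊) :
    ⁅k, c⁆ ∈ 𝐔 := by
  have hle : 𝐊 ≤ PushUp62.centMod (cen p G) 𝐔 := by
    refine iSup₂_le fun B hB e he => ⟨h.normalizer_K_le (Subgroup.le_normalizer (h.blkE_le_K hB he)),
      fun c hc => ?_⟩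
    have h1 : ⁅e, c⁆ ∈ blkE T q B ⊓ cen p G := by
      refine ⟨?_, Subgroup.commutator_le_right _ _ (Subgroup.commutator_mem_commutator (Subgroup.mem_top e) hc)⟩
      exact Subgroup.le_normalizer_iff_commutator_le_left.1 (h.cen_le_normalizer_E hB.1)
        (Subgroup.commutator_mem_commutator he hc)
    have h2 := (h.isRoot_rootOf hB.1).E_cen_le h h1
    rw [(h.isRoot_rootOf hB.1).core_eq_U h h3] at h2
    exact Subgroup.commutator_mono le_rfl (h.blkE_le_K hB) h2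
  exact (hle hk).2 c hc

theorem not_comm_omega (hA : A ∈ 𝐌𝐬) : ⁅𝐊, omegaOneCenter p (T : Subgroup G)⁆ ≠ ⊥ := fun e =>
  (h.blkE_block hA).2.2.2.1 (le_bot_iff.1 (e ▸
    Subgroup.commutator_mono (h.blkE_le_K (h.self_mem_cls hA)) le_rfl))

end Ctx

end Cfsg.Agent.Block82
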