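import Cfsg.Agent.Lib.Thompson.Block.Cls
import Cfsg.Agent.LAE65.Pair.Mat

/-!
The intersection of a linear block with `C*(G, T)`.
-/

set_option autoImplicit false
set_option linter.style.haveILetI false
set_option linter.unusedSectionVars false

open Cfsg
open scoped commutatorElement MatrixGroups

namespace Cfsg.Agent.Block82

open Cfsg.Agent.FFPM

theorem sl23_normalizer : ∀ g s : SL(2, ZMod 3), s ^ 3 = 1 → s ≠ 1 → g ^ 4 = 1 →
    (g * s * g⁻¹ * s) ^ 3 = 1 → (g * s * g⁻¹ * s⁻¹) ^ 3 = 1 → g = 1 ∨ g = -1 := by decide +kernel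

theorem sl23_center : ∀ z : SL(2, ZMod 3), z ^ 4 = 1 →
    (∀ g : SL(2, ZMod 3), g ^ 4 = 1 → g * z = z * g) → z = 1 ∨ z = -1 := by decide +kernel

theorem sl23_nine : ∀ s : SL(2, ZMod 3), s ^ 9 = 1 → s ^ 3 = 1 := by decide +kernel

theorem sl23_three : ∃ s : SL(2, ZMod 3), s ^ 3 = 1 ∧ s ≠ 1 := by decide +kernel

theorem sl23_pow_three (s : SL(2, ZMod 3)) : ∀ k : ℕ, s ^ 3 ^ k = 1 → s ^ 3 = 1
  | 0, h => by rw [pow_zero, pow_one] at h; rw [h, one_pow]
  | 1, h => by rwa [pow_one] at h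
  | k + 2, h => by
    refine sl23_pow_three s (k + 1) ?_
    have h1 : (s ^ 3 ^ k) ^ 9 = 1 := by
      rw [← pow_mul, show (9 : ℕ) = 3 ^ 2 from rfl, ← pow_add]; exact h
    rw [pow_succ, pow_mul]
    exact sl23_nine _ h1

theorem sl23_pow_four {g : SL(2, ZMod 3)} (hg : g ∈ commutator SL(2, ZMod 3)) : g ^ 4 = 1 := by
  exact (LAE65.Pair.mem_commutator_iff (p := 3) (Or.inr rfl) g).1 hg

variable {p : ℕ} {G : Type*} [Group G] [Finite G] [hp : Fact p.Prime]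

theorem normalizer_baumann_le_cStar {T : Sylow p G} (hT : (T : Subgroup G) ≠ ⊥) :
    Subgroup.normalizer (baumannSubgroupOf p (T : Subgroup G) : Set G) ≤
      cStarOf p (T : Subgroup G) := by
  refine le_trans ?_ le_sup_right
  refine le_iSup_of_le ⟨baumannSubgroupOf p (T : Subgroup G), le_rfl, fun e => ?_, ?_⟩ le_rfl
  · exact thompsonSubgroupOf_ne_bot hT (le_bot_iff.1 (e ▸ LAE65.Block.thompson_le_baumann _))
  · rw [Subgroup.subgroupOf_self]; infer_instance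

namespace IsRoot

variable {T : Sylow p G} {M : Subgroup G} {q : ℕ} {A : Subgroup (Bar p G)} {L : Subgroup G}
  (hL : IsRoot T q A L) (h : Ctx T M q)
include hL h

local notation "𝐁" => baumannSubgroupOf p (T : Subgroup G)
local notation "𝐄" => pResidualOf p L
local notation "𝐂" => cStarOf p (T : Subgroup G)

theorem exists_quot : ∃ (F : Type) (_ : Field F) (_ : Fintype F), Fintype.card F = q ∧ CharP F p ∧
    ∃ (S : Sylow p ↥L) (ρ : ↥L →* SL(2, F)) (f : ↥(𝐄) →* ↥(commutator SL(2, F))),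
      (S : Subgroup ↥L) = (𝐁).subgroupOf L ∧ Function.Surjective ρ ∧ ρ.ker = pCore p ↥L ∧
      Function.Surjective f ∧ f.ker = pCore p ↥(𝐄) ∧
      ∀ e : ↥(𝐄), (f e : SL(2, F)) = ρ (Subgroup.inclusion (hL.E_le h) e) := by
  obtain ⟨F, i1, i2, hq, hchF, S, ρ, hS, hρ, hker, hb⟩ := hL.exists_blk h
  let f : ↥(𝐄) →* ↥(commutator SL(2, F)) :=
    (ρ.comp (Subgroup.inclusion (hL.E_le h))).codRestrict _ fun e => by
      obtain ⟨_, e', he', rfl⟩ := e
      exact hb.rho_E ▸ ⟨e', he', rfl⟩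
  refine ⟨F, i1, i2, hq, hchF, S, ρ, f, hS, hρ, hker, ?_, ?_, fun e => rfl⟩
  · rintro ⟨g, hg⟩
    rw [← hb.rho_E] at hg
    obtain ⟨e, he, rfl⟩ := hg
    exact ⟨⟨(e : G), ⟨e, he, rfl⟩⟩, rfl⟩
  · refine Subgroup.map_injective (𝐄).subtype_injective ?_
    show _ = pCoreOf p 𝐄
    rw [pCoreOf_residual]
    ext x
    constructor
    · rintro ⟨⟨_, e, he, rfl⟩, hk, rfl⟩
      exact ⟨e, ⟨he, hker.le (congrArg Subtype.val (MonoidHom.mem_ker.1 hk) : ρ e = 1)⟩, rfl⟩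
    · rintro ⟨e, ⟨he, hec⟩, rfl⟩
      exact ⟨⟨(e : G), ⟨e, he, rfl⟩⟩, MonoidHom.mem_ker.2 (Subtype.ext (hker.ge hec : ρ e = 1)),
        rfl⟩

theorem E_inf_T : (T : Subgroup G) ⊓ 𝐄 = 𝐁 ⊓ 𝐄 := by
  refine le_antisymm (fun x hx => ⟨?_, hx.2⟩) (inf_le_inf_right _ (LAE65.Block.baumann_le _))
  exact (hL.inf_T h).le ⟨hL.E_le h hx.2, hx.1⟩

theorem mem_normalizer_of_cStar {e : G} (he : e ∈ L) (hC : e ∈ 𝐂) :
    e ∈ Subgroup.normalizer ((𝐁) : Set G) := by
  refine hL.mem_normalizer_B h he (hL.cj_A_eq h he ?_)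
  intro y hy
  obtain ⟨b, hb, e'⟩ := (h.conf.mem_le_roots hL.mem).trans (h.conf.roots_le.trans
    (Subgroup.map_mono h.le_M)) (FFSL2.mem_cj.1 hy)
  refine ⟨e * b * e⁻¹, mul_mem (mul_mem (h.cStar_le hC) hb) (inv_mem (h.cStar_le hC)), ?_⟩
  rw [map_mul, map_mul, map_inv, e']
  simp [mul_assoc]

theorem big_case (hq4 : 4 ≤ q) :
    ∃ (F : Type) (_ : Field F) (_ : Fintype F) (m : ℕ), 3 < p ^ m ∧ Fintype.card F = p ^ m ∧
      Nonempty (↥(𝐄) ⧸ pCore p ↥(𝐄) ≃* SL(2, F)) ∧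
      𝐂 ⊓ 𝐄 = 𝐄 ⊓ Subgroup.normalizer ((T ⊓ 𝐄 : Subgroup G) : Set G) := by
  obtain ⟨F, i1, i2, hq, hchF, S, ρ, f, hS, hρ, hker, hf, hfk, hfρ⟩ := hL.exists_quot h
  obtain ⟨n, -, hn⟩ := FiniteField.card F p
  have htop : commutator SL(2, F) = ⊤ := LAE62.perfect_or_small.resolve_right fun hsmall => by
    classical
    have hle : Fintype.card F ≤ 3 := by
      rw [← Finset.card_univ]
      refine (Finset.card_le_card (t := ({0, 1, -1} : Finset F)) fun t _ => ?_).trans Finset.card_le_three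
      rcases hsmall t with rfl | rfl | rfl <;> simp
    omega
  refine ⟨F, i1, i2, n, by omega, hn, ⟨((QuotientGroup.quotientMulEquivOfEq hfk.symm).trans
    (QuotientGroup.quotientKerEquivOfSurjective f hf)).trans
      ((MulEquiv.subgroupCongr htop).trans Subgroup.topEquiv)⟩, le_antisymm ?_ ?_⟩
  · rintro e ⟨hC, he⟩
    refine ⟨he, ?_⟩
    rw [hL.E_inf_T h]
    exact Subgroup.inf_normalizer_le_normalizer_inf
      ⟨hL.mem_normalizer_of_cStar h (hL.E_le h he) hC, Subgroup.le_normalizer he⟩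
  · rintro e ⟨he, hn'⟩
    refine ⟨normalizer_baumann_le_cStar h.T_ne_bot ?_, he⟩
    rw [hL.E_inf_T h] at hn'
    set Qc := (pCore p ↥L).map L.subtype with hQc
    have hQB : Qc ≤ 𝐁 := by
      rintro _ ⟨r, hr, rfl⟩
      exact hS.le (Thompson.pCore_le_sylow S hr)
    have heQ : e ∈ Subgroup.normalizer (Qc : Set G) := by
      have hLn : L ≤ Subgroup.normalizer (Qc : Set G) := by
        refine le_trans ?_ (Subgroup.le_normalizer_map _)
        rw [Subgroup.normalizer_eq_top, ← MonoidHom.range_eq_map, Subgroup.range_subtype]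
      exact hLn (hL.E_le h he)
    have hB : 𝐁 = (𝐁 ⊓ 𝐄) ⊔ Qc := by
      refine le_antisymm (fun b hb => ?_) (sup_le inf_le_left hQB)
      obtain ⟨x, hx⟩ := hf ⟨ρ ⟨b, hL.B_le hb⟩, htop ▸ Subgroup.mem_top _⟩
      have hx' : ρ (Subgroup.inclusion (hL.E_le h) x) = ρ ⟨b, hL.B_le hb⟩ :=
        (hfρ x).symm.trans (congrArg Subtype.val hx)
      set r : ↥L := (Subgroup.inclusion (hL.E_le h) x)⁻¹ * ⟨b, hL.B_le hb⟩ with hr
      have hrQ : r ∈ pCore p ↥L := hker.le (MonoidHom.mem_ker.2 (by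
        rw [hr, map_mul, map_inv, hx', inv_mul_cancel]))
      have hxB : (x : G) ∈ 𝐁 := by
        have h1 : (x : G) = b * (r : G)⁻¹ := by simp [hr]
        rw [h1]
        exact mul_mem hb (inv_mem (hQB ⟨r, hrQ, rfl⟩))
      rw [show b = (x : G) * (r : G) by simp [hr]]
      exact Subgroup.mul_mem_sup ⟨hxB, x.2⟩ ⟨r, hrQ, rfl⟩
    rw [hB]
    refine PushUp62.mem_normalizer_of_cj_eq ?_
    show Subgroup.map (MulAut.conj e).toMonoidHom _ = _
    rw [Subgroup.map_sup]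
    exact congrArg₂ (· ⊔ ·) (FFPM.cj_eq_of_mem_normalizer hn') (FFPM.cj_eq_of_mem_normalizer heQ)

theorem three_case (hq3 : q = 3) : p = 3 ∧
    Nonempty (↥(𝐄) ⧸ pCore p ↥(𝐄) ≃* ↥(commutator (Matrix.SpecialLinearGroup (Fin 2) (ZMod 3)))) ∧
    ((𝐂 ⊓ 𝐄).subgroupOf 𝐄).map (QuotientGroup.mk' (pCore p ↥(𝐄))) =
      Subgroup.center (↥(𝐄) ⧸ pCore p ↥(𝐄)) := by
  obtain ⟨F, i1, i2, hq, hchF, S, ρ₀, f₀, hS, hρ₀, hker₀, hf₀, hfk₀, hfρ₀⟩ := hL.exists_quot h
  obtain ⟨n, -, hn⟩ := FiniteField.card F p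
  have hp3 : p = 3 := by
    have h3 : p ∣ 3 := by rw [← hq3, ← hq, hn]; exact dvd_pow_self p n.ne_zero
    exact (Nat.prime_dvd_prime_iff_eq hp.out Nat.prime_three).1 h3
  refine ⟨hp3, ?_⟩
  let σ : F ≃+* ZMod 3 := (ZMod.ringEquivOfPrime F Nat.prime_three (hq.trans hq3)).symm
  let μ : SL(2, F) ≃* SL(2, ZMod 3) :=
    { toFun := Matrix.SpecialLinearGroup.map σ.toRingHom
      invFun := Matrix.SpecialLinearGroup.map σ.symm.toRingHom
      left_inv := fun g => by ext i j; simp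
      right_inv := fun g => by ext i j; simp
      map_mul' := map_mul _ }
  let ρ : ↥L →* SL(2, ZMod 3) := μ.toMonoidHom.comp ρ₀
  have hρ : Function.Surjective ρ := μ.surjective.comp hρ₀
  have hker : ∀ x, ρ x = 1 ↔ x ∈ pCore p ↥L := fun x => by
    rw [← hker₀, MonoidHom.mem_ker]
    exact μ.map_eq_one_iff
  have hcm : (commutator SL(2, F)).map μ.toMonoidHom = commutator SL(2, ZMod 3) := by
    rw [commutator_def, commutator_def, Subgroup.map_commutator,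
      Subgroup.map_top_of_surjective μ.toMonoidHom μ.surjective]
  let ν : ↥(commutator SL(2, F)) ≃* ↥(commutator SL(2, ZMod 3)) :=
    (Subgroup.equivMapOfInjective _ μ.toMonoidHom μ.injective).trans (MulEquiv.subgroupCongr hcm)
  let iso : ↥(𝐄) ⧸ pCore p ↥(𝐄) ≃* ↥(commutator SL(2, ZMod 3)) :=
    ((QuotientGroup.quotientMulEquivOfEq hfk₀.symm).trans
      (QuotientGroup.quotientKerEquivOfSurjective f₀ hf₀)).trans ν
  have hiso : ∀ e : ↥(𝐄), (iso (QuotientGroup.mk' _ e) : SL(2, ZMod 3)) =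
      ρ (Subgroup.inclusion (hL.E_le h) e) := fun e => congrArg μ (hfρ₀ e)
  refine ⟨⟨iso⟩, ?_⟩
  have hzc : ∀ g : SL(2, ZMod 3), (-1 : SL(2, ZMod 3)) * g = g * -1 := by decide +kernel
  have hmem : ∀ e : ↥(𝐄), QuotientGroup.mk' (pCore p ↥(𝐄)) e ∈ Subgroup.center _ ↔
      ρ (Subgroup.inclusion (hL.E_le h) e) = 1 ∨ ρ (Subgroup.inclusion (hL.E_le h) e) = -1 := by
    intro e
    rw [← hiso]
    constructor
    · intro hc
      refine sl23_center _ (sl23_pow_four (iso _).2) fun g hg => ?_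
      have hgm : g ∈ commutator SL(2, ZMod 3) :=
        (LAE65.Pair.mem_commutator_iff (p := 3) (Or.inr rfl) g).2 hg
      obtain ⟨y, hy⟩ := iso.surjective ⟨g, hgm⟩
      have := congrArg (fun z => ((iso z : ↥(commutator SL(2, ZMod 3))) : SL(2, ZMod 3)))
        (Subgroup.mem_center_iff.1 hc y)
      simpa [map_mul, hy] using this
    · intro hc
      refine Subgroup.mem_center_iff.2 fun y => iso.injective (Subtype.ext ?_)
      rw [map_mul, map_mul, Subgroup.coe_mul, Subgroup.coe_mul]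
      rcases hc with hc | hc <;> rw [hc]
      · rw [one_mul, mul_one]
      · exact (hzc _).symm
  ext z
  obtain ⟨e, rfl⟩ := QuotientGroup.mk'_surjective _ z
  rw [hmem]
  constructor
  · rintro ⟨e', he', e1⟩
    rw [← hiso, ← e1, hiso]
    have heN := hL.mem_normalizer_of_cStar h (hL.E_le h e'.2) he'.1
    have hne : ((S.mapSurjective hρ : Sylow p SL(2, ZMod 3)) : Subgroup SL(2, ZMod 3)) ≠ ⊥ := by
      refine Sylow.ne_bot_of_dvd_card _ ?_
      obtain ⟨s, hs, hs1⟩ := sl23_three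
      have : Fact (Nat.Prime 3) := ⟨Nat.prime_three⟩
      rw [hp3]
      exact (orderOf_eq_prime hs hs1).symm.dvd.trans (orderOf_dvd_natCard s)
    obtain ⟨⟨s, hs⟩, hne'⟩ := Subgroup.ne_bot_iff_exists_ne_one.1 hne
    have hs1 : s ≠ 1 := fun e => hne' (Subtype.ext e)
    have h3 : ∀ t ∈ ((S.mapSurjective hρ : Sylow p SL(2, ZMod 3)) : Subgroup SL(2, ZMod 3)),
        t ^ 3 = 1 := fun t ht => by
      obtain ⟨k, hk⟩ := (S.mapSurjective hρ).isPGroup' ⟨t, ht⟩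
      refine sl23_pow_three t k ?_
      have h4 : t ^ p ^ k = 1 := congrArg Subtype.val hk
      rwa [hp3] at h4
    obtain ⟨s', hs', rfl⟩ := hs
    set g := Subgroup.inclusion (hL.E_le h) e'
    have hconj : ρ g * ρ s' * (ρ g)⁻¹ ∈
        ((S.mapSurjective hρ : Sylow p SL(2, ZMod 3)) : Subgroup SL(2, ZMod 3)) := by
      refine ⟨g * s' * g⁻¹, hS.ge ?_, by simp⟩
      exact (Subgroup.mem_normalizer_iff.1 heN _).1 (hS.le hs')
    have hsm : ρ s' ∈ ((S.mapSurjective hρ : Sylow p SL(2, ZMod 3)) : Subgroup SL(2, ZMod 3)) :=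
      ⟨s', hs', rfl⟩
    exact sl23_normalizer _ _ (h3 _ hsm) hs1 (sl23_pow_four (hiso e' ▸ (iso _).2))
      (h3 _ (mul_mem hconj hsm)) (h3 _ (mul_mem hconj (inv_mem hsm)))
  · intro hc
    refine ⟨e, ⟨normalizer_baumann_le_cStar h.T_ne_bot ?_, e.2⟩, rfl⟩
    have key : ∀ b ∈ (𝐁), (e : G) * b * (e : G)⁻¹ ∈ 𝐁 := by
      intro b hb
      set g := Subgroup.inclusion (hL.E_le h) e with hg
      set b' : ↥L := ⟨b, hL.B_le hb⟩
      have h1 : g * b' * g⁻¹ * b'⁻¹ ∈ pCore p ↥L := by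
        refine (hker _).1 ?_
        rw [map_mul, map_mul, map_mul, map_inv, map_inv]
        rcases hc with hc | hc <;> rw [hc]
        · simp
        · rw [hzc, mul_inv_cancel_right, mul_inv_cancel]
      have h2 : g * b' * g⁻¹ ∈ (S : Subgroup ↥L) := by
        have := mul_mem (Thompson.pCore_le_sylow S h1) (hS.ge (show b' ∈ (𝐁).subgroupOf L from hb))
        rwa [inv_mul_cancel_right] at this
      exact hS.le h2
    refine PushUp62.mem_normalizer_of_cj_eq (Subgroup.eq_of_le_of_card_ge ?_ (FFSL2.card_cj _ _).ge)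
    intro x hx
    simpa [mul_assoc] using key _ (FFSL2.mem_cj.1 hx)

end IsRoot

end Cfsg.Agent.Block82
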