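import Cfsg.Agent.Lib.Thompson.FFPM.Roots
import Cfsg.Agent.LocalEven61.PSLSylow
import Cfsg.Agent.PushUp62.Vertex

/-!
A pencil and the members commuting with it.
-/

set_option autoImplicit false
set_option linter.unusedSectionVars false

namespace Cfsg.Agent.FFPM

open FFSL2
open scoped MatrixGroups
open Cfsg.Agent.LocalEven61 (pslMap)

variable {H : Type*} [Group H] [Finite H] {V : Type*} [AddCommGroup V] [Finite V]
  [DistribMulAction H V] {p : ℕ} [hpp : Fact p.Prime] {q : ℕ}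

/-- The product of the members other than `A`. -/
def oth (V : Type*) [AddCommGroup V] [DistribMulAction H V] (q : ℕ) (T : Sylow p H) (A : Subgroup H) :
    Subgroup H :=
  sSup (mems V q T 1 \ {A})

theorem mem_sup_of_com {X Y : Subgroup H} (h : Com X Y) {z : H} (hz : z ∈ X ⊔ Y) :
    ∃ x ∈ X, ∃ y ∈ Y, z = x * y :=
  PushUp62.mem_sup_of_le_normalizer (fun x hx => Subgroup.mem_normalizer_iff.2 fun y =>
    ⟨fun hy => by rw [h x hx y hy, mul_inv_cancel_right]; exact hy,
     fun hy => by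
      have h1 := h x⁻¹ (X.inv_mem hx) _ hy
      have h2 : y = x * y * x⁻¹ :=
        calc y = x⁻¹ * (x * y * x⁻¹) * x := by group
          _ = x * y * x⁻¹ := by rw [h1, inv_mul_cancel_right]
      exact h2.symm ▸ hy⟩) hz

namespace Conf

variable {T : Sylow p H} {M : Subgroup H} (h : Conf V q T M) {A : Subgroup H}
  (hA : A ∈ mems V q T 1)
include h hA

theorem com_oth : Com (sSup (line V q T 1 A)) (oth V q T A) := h.com_others hA

theorem roots_eq_oth : roots V q T = A ⊔ oth V q T A := h.roots_eq hA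

theorem oth_le_roots : oth V q T A ≤ roots V q T := (h.roots_eq hA).ge.trans' le_sup_right

theorem roots_le_line : roots V q T ≤ sSup (line V q T 1 A) ⊔ oth V q T A :=
  (h.roots_eq hA).le.trans (sup_le_sup_right (le_sSup (s := line V q T 1 A) (h.self_mem_line hA)) _)

theorem oth_pow {d : H} (hd : d ∈ oth V q T A) : ∃ k, d ^ p ^ k = 1 := by
  obtain ⟨k, hk⟩ := T.isPGroup' ⟨d, h.roots_le (h.oth_le_roots hA hd)⟩
  exact ⟨k, by simpa using congrArg Subtype.val hk⟩

theorem oth_sub_mem {d : H} (hd : d ∈ oth V q T A) (v : V) :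
    d • v - v ∈ (fix (sSup (line V q T 1 A)) : AddSubgroup V) :=
  h.sub_mem_of_centralizer hA (h.oth_pow hA hd)
    (Subgroup.mem_centralizer_iff.2 fun s hs => h.com_oth hA s hs d hd) v

/-- Commutators of the pencil are fixed by the other members. -/
theorem line_orth {s : H} (hs : s ∈ sSup (line V q T 1 A)) (v : V) :
    s • v - v ∈ (fix (oth V q T A) : AddSubgroup V) := by
  set O := oth V q T A
  have hinv : ∀ t ∈ sSup (line V q T 1 A), ∀ w ∈ (fix O : AddSubgroup V),
      t • w ∈ (fix O : AddSubgroup V) := fun t ht w hw d hd => by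
    rw [← mul_smul, ← h.com_oth hA t ht d hd, mul_smul, hw d hd]
  let K : Subgroup H :=
    { carrier := {t | t ∈ sSup (line V q T 1 A) ∧ ∀ w : V, t • w - w ∈ (fix O : AddSubgroup V)}
      one_mem' := ⟨one_mem _, fun w => by rw [one_smul, sub_self]; exact zero_mem _⟩
      mul_mem' := fun {a b} ha hb => ⟨mul_mem ha.1 hb.1, fun w => by
        rw [mul_smul, show a • b • w - w = (a • (b • w - w)) + (a • w - w) by rw [smul_sub]; abel]
        exact add_mem (hinv a ha.1 _ (hb.2 w)) (ha.2 w)⟩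
      inv_mem' := fun {a} ha => ⟨inv_mem ha.1, fun w => by
        have := hinv a⁻¹ (inv_mem ha.1) _ (neg_mem (ha.2 w))
        rwa [neg_sub, smul_sub, inv_smul_smul] at this⟩ }
  have hle : sSup (line V q T 1 A) ≤ K := sSup_le fun X hX x hx => ⟨le_sSup hX hx, fun w => by
    exact fix_sSup _ fun B hB =>
      Mem.orth_of_com h.pm.faith h.no_over hX.1 hB.1.1 (h.com_line_mem hA hB.1 hB.2 hX) x hx w⟩
  exact (hle hs).2 v

theorem eq_one_of_central {X Y : Subgroup H} (hX : X ∈ line V q T 1 A) (hY : Y ∈ line V q T 1 A)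
    (hne : X ≠ Y) {c : H} (hc : c ∈ sSup (line V q T 1 A)) (hp : ∃ k, c ^ p ^ k = 1)
    (hcX : ∀ x ∈ X, c * x = x * c) (hcY : ∀ y ∈ Y, c * y = y * c) : c = 1 := by
  obtain ⟨k, hk⟩ := hp
  exact h.eq_one_of_stab_pow hA hX hY hne k hc hk (com_mem_cj_eq hcX) (com_mem_cj_eq hcY)

/-- What lies in two Sylow subgroups of the product lies among the other members. -/
theorem inf_le_oth {Y : Subgroup H} (hY : Y ∈ line V q T 1 A) (hne : A ≠ Y) {z : H}
    (h1 : z ∈ A ⊔ oth V q T A) (h2 : z ∈ Y ⊔ oth V q T A) (hYp : IsPGroup p ↥Y) :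
    z ∈ oth V q T A := by
  have hlA : A ≤ sSup (line V q T 1 A) := le_sSup (s := line V q T 1 A) (h.self_mem_line hA)
  have hlY : Y ≤ sSup (line V q T 1 A) := le_sSup (s := line V q T 1 A) hY
  obtain ⟨a, ha, d, hd, rfl⟩ := mem_sup_of_com ((h.com_oth hA).mono hlA le_rfl) h1
  obtain ⟨y, hy, d', hd', e⟩ := mem_sup_of_com ((h.com_oth hA).mono hlY le_rfl) h2
  have hc : y⁻¹ * a = d' * d⁻¹ := by
    rw [eq_mul_inv_iff_mul_eq, mul_assoc, e, inv_mul_cancel_left]
  have hone : y⁻¹ * a = 1 := by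
    refine h.eq_one_of_central hA (h.self_mem_line hA) hY hne (mul_mem (inv_mem (hlY hy)) (hlA ha))
      (hc ▸ h.oth_pow hA (mul_mem hd' (inv_mem hd))) (fun x hx => ?_) fun x hx => ?_
    · rw [hc]; exact (h.com_oth hA x (hlA hx) _ (mul_mem hd' (inv_mem hd))).symm
    · rw [hc]; exact (h.com_oth hA x (hlY hx) _ (mul_mem hd' (inv_mem hd))).symm
  rw [inv_mul_eq_one] at hone
  subst hone
  have h1' : y = 1 := h.eq_one_of_central hA (h.self_mem_line hA) hY hne (hlY hy)
    (by obtain ⟨k, hk⟩ := hYp ⟨y, hy⟩; exact ⟨k, by simpa using congrArg Subtype.val hk⟩)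
    (fun x hx => h.com_mems hA hA y ha x hx)
    (fun x hx => Mem.com_of_isPGroup h.pm.faith h.no_over hYp hY.1 hY.1 le_rfl le_rfl y hy x hx)
  rw [h1', one_mul]
  exact hd

/-- The coordinates of a pencil extend to the product with the other members. -/
theorem exists_psl : ∃ (F : Type) (_ : Field F) (_ : Fintype F),
    Fintype.card F = q ∧ CharP F p ∧ ∃ φ : ↥(sSup (line V q T 1 A) ⊔ oth V q T A) →* Matrix.ProjectiveSpecialLinearGroup (Fin 2) F,
      Function.Surjective φ := by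
  obtain ⟨F, i1, i2, ρ, ψ, hq, hc⟩ := h.exists_coord hA
  revert ρ
  set S := sSup (line V q T 1 A)
  intro ρ hc
  refine ⟨F, i1, i2, hq, ?_, ?_⟩
  · obtain ⟨v, hv⟩ := hc.surj ![1, 0]
    have h1 := congrFun (congrArg ψ (h.pm.exp v)) 0
    rw [map_nsmul, hv, map_zero] at h1
    simp [nsmul_eq_mul] at h1
    haveI := ringChar.charP F
    have h2 : ringChar F ∣ p := (CharP.cast_eq_zero_iff F (ringChar F) p).1 h1
    have h3 : ringChar F = p := ((Fact.out : p.Prime).eq_one_or_self_of_dvd _ h2).resolve_left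
      (CharP.ringChar_ne_one)
    exact h3 ▸ ringChar.charP F
  · set O := oth V q T A
    have huniq : ∀ z : H, z ∈ S ⊔ O → ∀ s (hs : s ∈ S), ∀ d ∈ O, z = s * d →
        ∀ v, ψ (z • v) = (ρ ⟨s, hs⟩ : Matrix (Fin 2) (Fin 2) F).mulVec (ψ v) := by
      rintro _ - s hs d hd rfl v
      have h1 : ψ (d • v) = ψ v := by
        rw [← sub_eq_zero, ← map_sub, hc.ker]; exact h.oth_sub_mem hA hd v
      rw [mul_smul, hc.map ⟨s, hs⟩, h1]
    have hdec : ∀ z : ↥(S ⊔ O), ∃ x : ↥S, ∃ d ∈ O, (z : H) = x * d := fun z => by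
      obtain ⟨s, hs, d, hd, e⟩ := mem_sup_of_com (h.com_oth hA) z.2
      exact ⟨⟨s, hs⟩, d, hd, e⟩
    choose sf df hdf hsd using hdec
    have hext : ∀ M N : SL(2, F), (∀ v : V, (M : Matrix (Fin 2) (Fin 2) F).mulVec (ψ v) =
        (N : Matrix (Fin 2) (Fin 2) F).mulVec (ψ v)) → M = N := fun M N e =>
      Subtype.ext (Matrix.ext_of_mulVec_single fun j => by
        obtain ⟨v, hv⟩ := hc.surj (Pi.single j 1)
        rw [← hv]; exact e v)
    have hval : ∀ (z : ↥(S ⊔ O)) (v : V),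
        ψ ((z : H) • v) = (ρ (sf z) : Matrix (Fin 2) (Fin 2) F).mulVec (ψ v) := fun z v =>
      huniq _ z.2 _ (sf z).2 _ (hdf z) (hsd z) v
    let φ : ↥(S ⊔ O) →* SL(2, F) := MonoidHom.mk' (fun z => ρ (sf z)) fun a b => hext _ _ fun v => by
      rw [Matrix.SpecialLinearGroup.coe_mul, ← Matrix.mulVec_mulVec, ← hval, ← hval, ← hval,
        Subgroup.coe_mul, mul_smul]
    refine ⟨pslMap.comp φ, LocalEven61.pslMap_surjective.comp fun M => ?_⟩
    refine ⟨⟨(ρ.symm M : H), Subgroup.mem_sup_left (ρ.symm M).2⟩, hext _ _ fun v => ?_⟩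
    show (ρ (sf _) : Matrix (Fin 2) (Fin 2) F).mulVec (ψ v) = _
    rw [← hval, hc.map, MulEquiv.apply_symm_apply]

/-- The pencil of a member and the Sylow subgroup generate. -/
theorem line_sup_sylow : sSup (line V q T 1 A) ⊔ (T : Subgroup H) = ⊤ := by
  have h1 := (h.lineSup_spec 1).2
  rw [cj_one] at h1
  rw [eq_top_iff, ← h1]
  refine sup_le (sSup_le ?_) le_sup_right
  rintro X ⟨B, hB, hX⟩ x hx
  obtain ⟨t, ht, rfl⟩ := h.exists_cj_mems hA hB
  rw [cj_one] at ht
  have hX' := cj_line (t := t⁻¹) (by rw [cj_one]; exact inv_mem ht) hX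
  rw [cj_inv_cancel] at hX'
  have h2 : t⁻¹ * x * t ∈ sSup (line V q T 1 A) := by
    refine le_sSup (s := line V q T 1 A) hX' ?_
    rw [mem_cj]
    simpa [mul_assoc] using hx
  rw [show x = t * (t⁻¹ * x * t) * t⁻¹ by group]
  exact mul_mem (mul_mem (Subgroup.mem_sup_right ht) (Subgroup.mem_sup_left h2))
    (inv_mem (Subgroup.mem_sup_right ht))

end Conf

end Cfsg.Agent.FFPM
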