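import Cfsg.Agent.Lib.Thompson.Block.SymBlock
import Cfsg.Agent.Lib.Thompson.Block.Lin
import Cfsg.Agent.Lib.Thompson.Block.Degree
import Cfsg.Agent.LAE65.Normal.Main
import Cfsg.Agent.LAE65.Pair.Main

/-!
Pushing up for minimal parabolic groups: the block structure.
-/

set_option autoImplicit false
set_option linter.style.haveILetI false
set_option linter.unusedSectionVars false

open Cfsg
open scoped commutatorElement MatrixGroups

namespace Cfsg.Agent.Block82

open Cfsg.Agent.FFPM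

variable {p : ℕ} {G : Type*} [Group G] [Finite G] [hp : Fact p.Prime]

/-- The blocks. -/
def blockSet (T : Sylow p G) (q : ℕ) : Set (Subgroup G) :=
  clsK T q '' mems (Mod p G) q (Tbar T) 1

namespace Ctx

variable {T : Sylow p G} {M : Subgroup G} {q : ℕ} (h : Ctx T M q)
include h

local notation "𝐁" => baumannSubgroupOf p (T : Subgroup G)
local notation "𝓑" => blockSet T q
local notation "𝐂" => cStarOf p (T : Subgroup G)

theorem clsK_eq (hq : 3 ≤ q) {A : Subgroup (Bar p G)} (hA : A ∈ mems (Mod p G) q (Tbar T) 1) :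
    clsK T q A = blkE T q A := by
  refine le_antisymm (iSup₂_le fun B hB => ?_) (h.blkE_le_K (h.self_mem_cls hA))
  rw [h.conf.eq_of_lk hq hA hB.1 hB.2]

theorem two_le {A : Subgroup (Bar p G)} (hA : A ∈ mems (Mod p G) q (Tbar T) 1) : 2 ≤ q :=
  hA.1.two_le

theorem K_block {A : Subgroup (Bar p G)} (hA : A ∈ mems (Mod p G) q (Tbar T) 1) :
    IsBaumannBlock p (T : Subgroup G) (clsK T q A) := by
  rcases Nat.lt_or_ge q 3 with hq | hq
  · obtain rfl : q = 2 := by have := h.two_le hA; omega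
    obtain ⟨N, x, e, π, d⟩ := h.exists_symData hA
    exact h.K_isBlock hA d
  · rw [h.clsK_eq hq hA]
    exact h.blkE_block hA

theorem blockSet_block {E : Subgroup G} (hE : E ∈ 𝓑) :
    IsBaumannBlock p (T : Subgroup G) E ∧ E.IsSubnormal := by
  obtain ⟨A, hA, rfl⟩ := hE
  exact ⟨h.K_block hA, h.K_isSubnormal hA⟩

theorem not_le_cen_of_block {F : Subgroup G} (hF : IsBaumannBlock p (T : Subgroup G) F) :
    ¬ F ≤ cen p G := fun hle =>
  hF.2.2.2.1 (Subgroup.commutator_eq_bot_iff_le_centralizer.2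
    (hle.trans (Subgroup.centralizer_le h.omega_sylow_le)))

theorem not_comm_self {F : Subgroup G} (hF : IsBaumannBlock p (T : Subgroup G) F) :
    ⁅F, F⁆ ≠ ⊥ := fun e => by
  have hf := LAE65.Block.moduleFacts h.charP hF
  refine hf.ne_bot (le_bot_iff.1 (hf.idem.ge.trans (le_trans ?_ e.le)))
  refine Subgroup.commutator_mono (Subgroup.le_normalizer_iff_commutator_le_right.1 ?_) le_rfl
  exact h.om_le_cen.trans (cen_le_normalizer h.charP hF)

theorem block_le_some {F : Subgroup G} (hF : IsBaumannBlock p (T : Subgroup G) F) :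
    ∃ E ∈ 𝓑, F ≤ E := by
  by_contra! hno
  have hcomm : ∀ E ∈ 𝓑, ⁅F, E⁆ = ⊥ := fun E hE => by
    obtain ⟨hEb, hEs⟩ := h.blockSet_block hE
    exact ((LAE65.Normal.subnormal_block_in_baumann h.charP ⟨T, hEb⟩ hEs).2.2.2 F ⟨T, hF⟩).resolve_left
      (hno E hE)
  refine h.not_le_cen_of_block hF fun f hf => pr_eq_one.1 (h.conf.pm.faith _ fun v => ?_)
  set N := lineSup (Mod p G) q (Tbar T) 1
  have hNn : N.Normal := (h.conf.lineSup_spec 1).1
  have hfN : pr p f ∈ N := by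
    have h1 : F.map (pr p) ≤ N := by
      rw [← hF.2.1, Subgroup.map_commutator, h.map_B]
      exact (Subgroup.commutator_mono le_rfl h.roots_le_lineSup).trans (Subgroup.commutator_le_right _ _)
    exact h1 ⟨f, hf, rfl⟩
  obtain ⟨r, E, hC, hsup, -, -⟩ := h.conf.exists_components'
  obtain ⟨c, hc, hd⟩ := hC.split v
  rw [hsup] at hc
  have hle : (⨆ i, movV (Mod p G) (E i)) ≤ movV (Mod p G) N := iSup_le fun i =>
    movV_le_iff.2 fun z hz w => sub_mem_movV (hsup.le (Subgroup.mem_iSup_of_mem i hz)) w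
  have hfix : movV (Mod p G) N ≤ (FFSL2.fix ((F.map (pr p))) : AddSubgroup (Mod p G)) := by
    rw [movV_le_iff, show N = _ from h.conf.lineSup_eq]
    refine sSup_le ?_
    rintro _ ⟨A, hA, rfl⟩ z hz w
    have h1 := h.movV_cls_le (A := A) (sub_mem_movV hz w)
    rw [mem_fix_map]
    refine Subgroup.mem_centralizer_iff.2 fun f' hf' => ?_
    exact (Subgroup.mem_centralizer_iff.1
      (Subgroup.commutator_eq_bot_iff_le_centralizer.1 (hcomm _ ⟨A, hA, rfl⟩) hf') _
      (h.U_le_K h1)).symm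
  have h2 := hfix (hle hd) (pr p f) ⟨f, hf, rfl⟩
  rw [smul_sub, hc (pr p f) hfN, sub_left_inj] at h2
  exact h2

theorem mem_blockSet {F : Subgroup G} (hF : IsBaumannBlock p (T : Subgroup G) F)
    (hFs : F.IsSubnormal) : F ∈ 𝓑 := by
  obtain ⟨E, hE, hle⟩ := h.block_le_some hF
  obtain ⟨hEb, hEs⟩ := h.blockSet_block hE
  rcases LAE65.Pair.eq_or_commute h.charP hF hEb hFs hEs with e | e
  · exact e ▸ hE
  · exact absurd (le_bot_iff.1 (e ▸ Subgroup.commutator_mono le_rfl hle)) (h.not_comm_self hF)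

theorem conj_mem {E : Subgroup G} (hE : E ∈ 𝓑) (g : G) :
    E.map (MulAut.conj g).toMonoidHom ∈ 𝓑 := by
  obtain ⟨hEb, hEs⟩ := h.blockSet_block hE
  have h1 := LAE65.Normal.isBaumannBlock_map hEb g
  obtain ⟨T', hT'⟩ : ∃ T' : Sylow p G,
      (T' : Subgroup G) = (T : Subgroup G).map (MulAut.conj g).toMonoidHom :=
    ⟨g • T, by rw [LocalEven61.sylow_smul_coe]⟩
  have hs : (E.map (MulAut.conj g).toMonoidHom).IsSubnormal := hEs.map (MulAut.conj g).surjective
  refine h.mem_blockSet ?_ hs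
  exact (LAE65.Normal.subnormal_block_in_baumann h.charP ⟨T', hT' ▸ h1⟩ hs).2.2.1 T

theorem comm_of_ne {E E' : Subgroup G} (hE : E ∈ 𝓑) (hE' : E' ∈ 𝓑) (hne : E ≠ E') :
    ⁅E, E'⁆ = ⊥ :=
  (LAE65.Pair.eq_or_commute h.charP (h.blockSet_block hE).1 (h.blockSet_block hE').1
    (h.blockSet_block hE).2 (h.blockSet_block hE').2).resolve_left hne

theorem normal_sSup : (sSup 𝓑).Normal := by
  refine Subgroup.normalizer_eq_top_iff.1 (eq_top_iff.2 fun g _ => ?_)
  refine PushUp62.mem_normalizer_of_cj_eq (Subgroup.eq_of_le_of_card_ge ?_ (FFSL2.card_cj g _).ge)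
  show Subgroup.map (MulAut.conj g).toMonoidHom _ ≤ _
  rw [Subgroup.map_le_iff_le_comap]
  exact sSup_le fun E hE => Subgroup.map_le_iff_le_comap.1 (le_sSup (h.conj_mem hE g))

theorem sup_T : sSup 𝓑 ⊔ (T : Subgroup G) = ⊤ := by
  obtain ⟨A, hA⟩ := h.conf.mems_nonempty 1
  refine h.sup_eq_top le_sup_right ?_
  rw [eq_top_iff, ← h.conf.line_sup_sylow hA, Subgroup.map_sup, Tbar_eq]
  refine sup_le ?_ le_sup_right
  refine ((h.isRoot_rootOf hA).line_le h).trans (sup_le ?_ ?_)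
  · exact (Subgroup.map_mono ((h.blkE_le_K (h.self_mem_cls hA)).trans
      (le_sSup (s := blockSet T q) ⟨A, hA, rfl⟩))).trans le_sup_left
  · exact ((h.conf.mem_le_roots hA).trans h.conf.roots_le).trans le_sup_right

theorem T_le_cStar : (T : Subgroup G) ≤ 𝐂 :=
  (LAE65.Block.le_normalizer_baumann _).trans' Subgroup.le_normalizer |>.trans
    (normalizer_baumann_le_cStar h.T_ne_bot)

theorem key {A : Subgroup (Bar p G)} (hA : A ∈ mems (Mod p G) q (Tbar T) 1) {e : G}
    (he : e ∈ clsK T q A)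
    (hle : ∀ B ∈ clsOf T q A, FFSL2.cj (pr p e) B ≤ M.map (pr p)) : e ∈ 𝐂 := by
  rcases Nat.lt_or_ge q 3 with hq | hq
  · obtain rfl : q = 2 := by have := h.two_le hA; omega
    obtain ⟨N, x, v, π, d⟩ := h.exists_symData hA
    exact h.mem_cStar_of_last hA d (g := ⟨e, h.K_le_comap hA d he⟩)
      (h.last_eq_of_mem hA d hle)
  · have hr := h.isRoot_rootOf hA
    rw [h.clsK_eq hq hA] at he
    exact normalizer_baumann_le_cStar h.T_ne_bot (hr.mem_normalizer_B h (hr.E_le h he)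
      (hr.cj_A_eq h (hr.E_le h he) (hle A (h.self_mem_cls hA))))

theorem inf_sSup_le (s : Finset (Subgroup G)) (hs : (s : Set (Subgroup G)) ⊆ 𝓑) :
    𝐂 ⊓ sSup (s : Set (Subgroup G)) ≤ ⨆ E ∈ 𝓑, (𝐂 ⊓ E) := by
  classical
  induction s using Finset.induction_on with
  | empty => simp
  | @insert K s hKs ih =>
    rw [Finset.coe_insert, Set.insert_subset_iff] at hs
    rw [Finset.coe_insert, sSup_insert]
    intro x hx
    set R := sSup (s : Set (Subgroup G)) with hR
    have hRn : R ≤ Subgroup.normalizer (K : Set G) := sSup_le fun E' hE' => by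
      have hne : E' ≠ K := fun e => hKs (e ▸ hE')
      exact (Subgroup.commutator_eq_bot_iff_le_centralizer.1
        (h.comm_of_ne (hs.2 hE') hs.1 hne)).trans (Subgroup.centralizer_le_normalizer _)
    obtain ⟨e, he, r, hr, rfl⟩ := mem_sup_norm hRn hx.2
    obtain ⟨A, hA, rfl⟩ := hs.1
    have hrc : ∀ B ∈ clsOf T q A, FFSL2.cj (pr p r) B = B := by
      intro B hB
      have hle : R ≤ (Subgroup.centralizer (B : Set (Bar p G))).comap (pr p) := by
        refine sSup_le fun E' hE' => ?_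
        obtain ⟨A', hA', rfl⟩ := hs.2 hE'
        have hnl : ¬ Lk (Mod p G) q (Tbar T) 1 A A' := fun hl => hKs (by
          have : clsK T q A = clsK T q A' := by
            have hcls : clsOf T q A = clsOf T q A' := Set.ext fun C =>
              ⟨fun hC => ⟨hC.1, h.conf.lk_trans' hA' hA hC.1 hl.symm hC.2⟩,
                fun hC => ⟨hC.1, h.conf.lk_trans' hA hA' hC.1 hl hC.2⟩⟩
            rw [clsK, clsK, hcls]
          exact this ▸ hE')
        rw [← Subgroup.map_le_iff_le_comap]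
        refine (h.map_K_le hA').trans fun y hy => Subgroup.mem_centralizer_iff.2 fun b hb => ?_
        exact h.conf.com_clsSup hA hA' hnl b
          (h.line_le_cls hA hB (le_sSup (h.conf.self_mem_line hB.1) hb)) y hy
      exact com_mem_cj_eq fun b hb => (Subgroup.mem_centralizer_iff.1 (hle hr) b hb).symm
    have heC : e ∈ 𝐂 := by
      refine h.key hA he fun B hB => ?_
      have h1 : FFSL2.cj (pr p (e * r)) B = FFSL2.cj (pr p e) B := by
        rw [map_mul, FFSL2.cj_mul, hrc B hB]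
      rw [← h1]
      intro y hy
      obtain ⟨b, hb, e'⟩ := (h.conf.mem_le_roots hB.1).trans (h.conf.roots_le.trans
        (Subgroup.map_mono h.le_M)) (FFSL2.mem_cj.1 hy)
      refine ⟨(e * r) * b * (e * r)⁻¹, mul_mem (mul_mem (h.cStar_le hx.1) hb)
        (inv_mem (h.cStar_le hx.1)), ?_⟩
      rw [map_mul (pr p) _ (e * r)⁻¹, map_mul (pr p) (e * r), e', map_inv]
      simp [mul_assoc]
    have h5 : 𝐂 ⊓ clsK T q A ≤ ⨆ E ∈ 𝓑, (𝐂 ⊓ E) :=
      le_iSup₂_of_le (f := fun E (_ : E ∈ 𝓑) => 𝐂 ⊓ E) (clsK T q A) ⟨A, hA, rfl⟩ le_rfl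
    refine mul_mem (h5 ⟨heC, he⟩) (ih hs.2 ⟨?_, hr⟩)
    rw [show r = e⁻¹ * (e * r) by group]
    exact (𝐂).mul_mem ((𝐂).inv_mem heC) hx.1

theorem inf_sSup : 𝐂 ⊓ sSup 𝓑 = ⨆ E ∈ 𝓑, (𝐂 ⊓ E) := by
  refine le_antisymm ?_ (iSup₂_le fun E hE => inf_le_inf_left _ (le_sSup hE))
  have := h.inf_sSup_le (Set.toFinite 𝓑).toFinset (by rw [Set.Finite.coe_toFinset])
  rwa [Set.Finite.coe_toFinset] at this

theorem clauses {E : Subgroup G} (hE : E ∈ 𝓑) :
    (∃ (F : Type) (_ : Field F) (_ : Fintype F) (m : ℕ), 3 < p ^ m ∧ Fintype.card F = p ^ m ∧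
        Nonempty (↥E ⧸ pCore p ↥E ≃* SL(2, F)) ∧
        𝐂 ⊓ E = E ⊓ Subgroup.normalizer ((T ⊓ E : Subgroup G) : Set G)) ∨
    (p = 2 ∧ ∃ m : ℕ, Nonempty (↥E ⧸ pCore p ↥E ≃* ↥(alternatingGroup (Fin (2 * m + 1)))) ∧
        Nonempty (↥(((𝐂 ⊓ E).subgroupOf E).map (QuotientGroup.mk' (pCore p ↥E))) ≃*
          ↥(alternatingGroup (Fin (2 * m))))) ∨
    (p = 3 ∧ Nonempty (↥E ⧸ pCore p ↥E ≃* ↥(commutator (Matrix.SpecialLinearGroup (Fin 2) (ZMod 3)))) ∧
        ((𝐂 ⊓ E).subgroupOf E).map (QuotientGroup.mk' (pCore p ↥E)) =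
          Subgroup.center (↥E ⧸ pCore p ↥E)) := by
  obtain ⟨A, hA, rfl⟩ := hE
  rcases Nat.lt_or_ge q 3 with hq | hq
  · obtain rfl : q = 2 := by have := h.two_le hA; omega
    obtain ⟨N, x, e, π, d⟩ := h.exists_symData hA
    obtain ⟨m₀, hm₀⟩ := d.D.pow
    obtain rfl : N = 2 * 2 ^ m₀ := by rw [hm₀, pow_succ']
    refine Or.inr (Or.inl ⟨d.D.p_eq, 2 ^ m₀, ?_, h.image_cStar hA d rfl⟩)
    exact ⟨(QuotientGroup.quotientMulEquivOfEq (h.ker_K hA d).symm).trans
      ((QuotientGroup.quotientKerEquivRange _).trans (MulEquiv.subgroupCongr (h.rangeK hA d)))⟩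
  · rw [h.clsK_eq hq hA]
    rcases eq_or_lt_of_le hq with hq3 | hq4
    · exact Or.inr (Or.inr ((h.isRoot_rootOf hA).three_case h hq3.symm))
    · exact Or.inl ((h.isRoot_rootOf hA).big_case h hq4)

theorem degree {E : Subgroup G} (hE : E ∈ 𝓑) (m : ℕ)
    (hiso : Nonempty (↥E ⧸ pCore p ↥E ≃* ↥(alternatingGroup (Fin (2 * m + 1))))) :
    ∃ n : ℕ, 2 * m + 1 = 2 ^ n + 1 := by
  obtain ⟨hEb, -⟩ := h.blockSet_block hE
  obtain ⟨A, hA, rfl⟩ := hE
  obtain ⟨iso⟩ := hiso
  have hm : m ≠ 0 := by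
    rintro rfl
    haveI : Subsingleton (Fin (2 * 0 + 1)) := inferInstanceAs (Subsingleton (Fin 1))
    haveI : Subsingleton ↥(alternatingGroup (Fin (2 * 0 + 1))) :=
      ⟨fun a b => Subtype.ext (Subsingleton.elim _ _)⟩
    haveI := iso.toEquiv.subsingleton
    refine LAE65.Pair.eq_bot_of_le_core hEb fun e he => ?_
    exact ⟨⟨e, he⟩, (QuotientGroup.eq_one_iff _).1 (Subsingleton.elim _ _), rfl⟩
  rcases Nat.lt_or_ge q 3 with hq | hq
  · obtain rfl : q = 2 := by have := h.two_le hA; omega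
    obtain ⟨N, x, e, π, d⟩ := h.exists_symData hA
    obtain ⟨m₀, hm₀⟩ := d.D.pow
    have hiso' := (QuotientGroup.quotientMulEquivOfEq (h.ker_K hA d).symm).trans
      ((QuotientGroup.quotientKerEquivRange _).trans (MulEquiv.subgroupCongr (h.rangeK hA d)))
    have hc := Nat.card_congr (iso.symm.trans hiso').toEquiv
    have hN : 2 ≤ N := d.D.stars.pos
    haveI : Nontrivial (Fin (2 * m + 1)) := Fin.nontrivial_iff_two_le.2 (by omega)
    haveI : Nontrivial (Fin (N + 1)) := Fin.nontrivial_iff_two_le.2 (by omega)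
    have h1 := two_mul_nat_card_alternatingGroup (α := Fin (2 * m + 1))
    have h2 := two_mul_nat_card_alternatingGroup (α := Fin (N + 1))
    rw [hc, h2, Nat.card_perm, Nat.card_perm, Nat.card_fin, Nat.card_fin] at h1
    exact ⟨m₀ + 1, by rw [← hm₀, (Nat.factorial_inj (by omega)).1 h1]⟩
  · rw [h.clsK_eq hq hA] at iso
    obtain ⟨F, i1, i2, hcard, -, S, ρ, f, -, -, -, hf, hfk, -⟩ := (h.isRoot_rootOf hA).exists_quot h
    let g := ((QuotientGroup.quotientMulEquivOfEq hfk.symm).trans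
      (QuotientGroup.quotientKerEquivOfSurjective f hf))
    exact alt_degree ((commutator SL(2, F)).subtype.comp (iso.symm.trans g).toMonoidHom)
      ((commutator SL(2, F)).subtype_injective.comp (iso.symm.trans g).injective) hm

end Ctx

end Cfsg.Agent.Block82
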