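import Cfsg.Agent.Lib.Thompson.Block.Main

/-!
Automorphisms of odd order of a Sylow `2`-subgroup of a minimal group: the images of `Ω₁(Z(O₂(G)))` centralise
each other.
-/

set_option autoImplicit false
set_option linter.style.haveILetI false
set_option linter.unusedSectionVars false

open Cfsg
open scoped commutatorElement

namespace Cfsg.Agent.FFPM

open FFSL2

variable {H : Type*} [Group H] [Finite H] {V : Type*} [AddCommGroup V] [Finite V]
  [DistribMulAction H V] {p : ℕ} [hpp : Fact p.Prime] {q : ℕ} {T : Sylow p H} {M : Subgroup H}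

/-- A correspondence between the roots and the vectors with commutators in a subgroup fixed by all
pencils has its vectors in the common fixed space. -/
theorem Conf.partner_fix (h : Conf V q T M) {N : AddSubgroup V}
    (hN : ∀ A ∈ mems V q T 1, N ≤ fix (sSup (line V q T 1 A))) {P : H → V → Prop}
    (htot : ∀ r ∈ roots V q T, ∃ v, P r v)
    (hone : ∀ r v, P r v → r • v - v ∈ N)
    (htwo : ∀ r v s w, P r v → P s w → (s • v - v) - (r • w - w) ∈ N)
    {r : H} (hr : r ∈ roots V q T) {v : V} (hv : P r v) :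
    v ∈ (fix (roots V q T) : AddSubgroup V) := by
  refine fix_sSup _ fun A hA => ?_
  obtain ⟨s, hs, hs1⟩ := hA.1.exists_ne_one
  obtain ⟨w, hw⟩ := htot s (h.mem_le_roots hA hs)
  have hwA : w ∈ (fix A : AddSubgroup V) := by
    by_contra hne
    exact h.sub_not_mem hA hs hs1 hne (hN A hA (hone _ _ hw))
  obtain ⟨a, ha, d, hd, rfl⟩ :=
    mem_sup_of_com ((h.com_oth hA).mono (le_sSup (h.self_mem_line hA)) le_rfl)
      ((h.roots_eq_oth hA).le hr)
  have hrw : (a * d) • w - w ∈ (fix (sSup (line V q T 1 A)) : AddSubgroup V) := by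
    have h1 := h.oth_sub_mem hA hd w
    have h2 : a • (d • w - w) = d • w - w := h.fix_sSup_le_fix hA h1 a ha
    rw [smul_sub, ← mul_smul, hwA a ha] at h2
    rw [h2]
    exact h1
  by_contra hne
  refine h.sub_not_mem hA hs hs1 hne ?_
  rw [← sub_add_cancel (s • v - v) ((a * d) • w - w)]
  exact add_mem (hN A hA (htwo _ _ _ _ hv hw)) hrw

end Cfsg.Agent.FFPM

namespace Cfsg.Agent.Block82

open Cfsg.Agent.FFPM

variable {G : Type*} [Group G]

theorem comm_mul_central {e e' y y' : G} (h1 : Commute e y') (h2 : Commute e' y)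
    (h3 : Commute e e') (h4 : Commute e y) (h5 : Commute e' y') : ⁅e * y, e' * y'⁆ = ⁅y, y'⁆ := by
  have key : ∀ a b : G, ⁅a, b⁆ = a * b * (b * a)⁻¹ := fun a b => by
    rw [commutatorElement_def]; group
  rw [key, key, h2.symm.mul_mul_mul_comm, h1.symm.mul_mul_mul_comm, h3.eq, mul_inv_rev (e' * e)]
  have hc : Commute (e' * e) (y * y' * (y' * y)⁻¹) :=
    Commute.mul_right ((h2.mul_left h4).mul_right (h5.mul_left h1))
      (((h5.mul_left h1).mul_right (h2.mul_left h4))).inv_right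
  rw [← mul_assoc, mul_assoc (e' * e), hc.eq, mul_inv_cancel_right]

/-- Images of the module under automorphisms of the Sylow subgroup. -/
abbrev imW {p : ℕ} (T : Sylow p G) (ψ : MulAut ↥(T : Subgroup G)) : Subgroup ↥(T : Subgroup G) :=
  ((Om p G).subgroupOf (T : Subgroup G)).comap
    (ψ.symm : ↥(T : Subgroup G) ≃* ↥(T : Subgroup G)).toMonoidHom

/-- Their centralisers in the Sylow subgroup. -/
abbrev cenW {p : ℕ} (T : Sylow p G) (ψ : MulAut ↥(T : Subgroup G)) : Subgroup ↥(T : Subgroup G) :=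
  Subgroup.centralizer (imW T ψ : Set ↥(T : Subgroup G))

/-- The map into the faithful quotient. -/
abbrev prT {p : ℕ} (T : Sylow p G) : ↥(T : Subgroup G) →* Bar p G :=
  (pr p).comp (T : Subgroup G).subtype

section Images

variable {p : ℕ} {T : Sylow p G} {ψ ξ : MulAut ↥(T : Subgroup G)} {x y : ↥(T : Subgroup G)}

theorem mem_imW : x ∈ imW T ψ ↔ ((ψ.symm x : ↥(T : Subgroup G)) : G) ∈ Om p G := Iff.rfl

theorem mem_imW_mul : x ∈ imW T (ψ * ξ) ↔ ψ.symm x ∈ imW T ξ := Iff.rfl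

theorem mem_imW_one : x ∈ imW T 1 ↔ (x : G) ∈ Om p G := Iff.rfl

theorem apply_mem_imW (hx : x ∈ imW T ξ) : ψ x ∈ imW T (ψ * ξ) :=
  mem_imW_mul.2 (by rwa [MulEquiv.symm_apply_apply])

theorem apply_mem_cenW (hy : y ∈ cenW T ξ) : ψ y ∈ cenW T (ψ * ξ) := by
  refine Subgroup.mem_centralizer_iff.2 fun x hx => ?_
  have := congrArg ψ (Subgroup.mem_centralizer_iff.1 hy _ (mem_imW_mul.1 hx))
  simpa using this

theorem mem_cenW_of_symm (hy : ψ.symm y ∈ cenW T ξ) : y ∈ cenW T (ψ * ξ) := by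
  simpa using apply_mem_cenW (ψ := ψ) hy

theorem imW_le_cenW_iff :
    imW T ψ ≤ cenW T ξ ↔
    ∀ x ∈ imW T ψ, ∀ y ∈ imW T ξ, y * x = x * y :=
  ⟨fun h x hx y hy => Subgroup.mem_centralizer_iff.1 (h hx) y hy,
    fun h x hx => Subgroup.mem_centralizer_iff.2 fun y hy => h x hx y hy⟩

theorem imW_le_cenW_mul {η : MulAut ↥(T : Subgroup G)} (h : imW T ξ ≤ cenW T η) :
    imW T (ψ * ξ) ≤ cenW T (ψ * η) :=
  fun _ hx => mem_cenW_of_symm (h (mem_imW_mul.1 hx))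

theorem imW_le_cenW_inv (h : imW T ψ⁻¹ ≤ cenW T 1) : imW T ψ ≤ cenW T 1 := by
  have h1 : imW T (ψ * ψ⁻¹) ≤ cenW T (ψ * 1) := imW_le_cenW_mul h
  rw [mul_inv_cancel, mul_one, imW_le_cenW_iff] at h1
  rw [imW_le_cenW_iff]
  exact fun x hx y hy => (h1 y hy x hx).symm

theorem imW_comm (hx : x ∈ imW T ψ) (hy : y ∈ imW T ψ) : x * y = y * x := by
  apply ψ.symm.injective
  rw [map_mul, map_mul]
  exact Subtype.ext (Thompson.elemAb_comm (om_elemAb p G).1 hx hy)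

theorem imW_pow (hx : x ∈ imW T ψ) : x ^ p = 1 := by
  apply ψ.symm.injective
  rw [map_pow, map_one]
  exact Subtype.ext (by rw [SubmonoidClass.coe_pow]; exact (om_elemAb p G).2 _ hx)

theorem imW_normal (ψ : MulAut ↥(T : Subgroup G)) : (imW T ψ).Normal :=
  ((om_normal p G).subgroupOf (T : Subgroup G)).comap _

theorem mem_cenW_one [Finite G] [Fact p.Prime] : y ∈ cenW T 1 ↔ (y : G) ∈ cen p G := by
  rw [Subgroup.mem_centralizer_iff, Subgroup.mem_centralizer_iff]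
  refine ⟨fun h v hv => ?_, fun h x hx => Subtype.ext (h _ hx)⟩
  have hvT : v ∈ (T : Subgroup G) :=
    Thompson.pCore_le_sylow T ((LAE65.Block.omegaOneCenter_le _) hv)
  exact congrArg Subtype.val (h ⟨v, hvT⟩ hv)

theorem prT_eq_one [Finite G] [Fact p.Prime] : prT T y = 1 ↔ y ∈ cenW T 1 :=
  pr_eq_one.trans mem_cenW_one.symm

theorem inv_mul_mem_cenW [Finite G] [Fact p.Prime] (h : prT T x = prT T y) :
    x⁻¹ * y ∈ cenW T 1 :=
  prT_eq_one.1 (by rw [map_mul, map_inv, h, inv_mul_cancel])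

theorem card_imW (ψ : MulAut ↥(T : Subgroup G)) :
    Nat.card ↥(imW T ψ) = Nat.card ↥(imW T 1) := Nat.card_congr
  { toFun := fun x => ⟨ψ.symm x, x.2⟩
    invFun := fun x => ⟨ψ x, mem_imW.2 (by rw [MulEquiv.symm_apply_apply]; exact x.2)⟩
    left_inv := fun x => Subtype.ext (ψ.apply_symm_apply _)
    right_inv := fun x => Subtype.ext (ψ.symm_apply_apply _) }

theorem card_imW_inf (ψ : MulAut ↥(T : Subgroup G)) :
    Nat.card ↥(imW T ψ ⊓ cenW T 1) = Nat.card ↥(imW T 1 ⊓ cenW T ψ⁻¹) := Nat.card_congr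
  { toFun := fun x => ⟨ψ.symm x, x.2.1,
      Subgroup.mem_centralizer_iff.2 fun w hw => ψ.injective (by
        rw [map_mul, map_mul, MulEquiv.apply_symm_apply]
        exact Subgroup.mem_centralizer_iff.1 x.2.2 _ hw)⟩
    invFun := fun x => ⟨ψ x, mem_imW.2 (by rw [MulEquiv.symm_apply_apply]; exact x.2.1),
      show ψ x ∈ cenW T 1 by
        have h1 : ψ x ∈ cenW T (ψ * ψ⁻¹) := apply_mem_cenW x.2.2
        rw [mul_inv_cancel] at h1; exact h1⟩
    left_inv := fun x => Subtype.ext (ψ.apply_symm_apply _)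
    right_inv := fun x => Subtype.ext (ψ.symm_apply_apply _) }

end Images

variable [Finite G]

namespace Ctx

variable {T : Sylow 2 G} {M : Subgroup G} {q : ℕ} (h : Ctx T M q)
include h

local notation "𝕂" => sSup (blockSet T q)
local notation "𝐑" => roots (Mod 2 G) q (Tbar T)

/-- The blocks centralise `C_G(V)` modulo `V`. -/
theorem sSup_comm_cen {k c : G} (hk : k ∈ 𝕂) (hc : c ∈ cen 2 G) : ⁅k, c⁆ ∈ Om 2 G := by
  have hle : 𝕂 ≤ (Subgroup.centralizer (((cen 2 G).map (QuotientGroup.mk' (Om 2 G)) :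
      Subgroup (G ⧸ Om 2 G)) : Set (G ⧸ Om 2 G))).comap (QuotientGroup.mk' (Om 2 G)) := by
    refine sSup_le ?_
    rintro _ ⟨A, hA, rfl⟩ e he
    rw [Subgroup.mem_comap, Subgroup.mem_centralizer_iff]
    rintro _ ⟨d, hd, rfl⟩
    refine (commutatorElement_eq_one_iff_mul_comm.1 ?_).symm
    rw [← map_commutatorElement]
    exact (QuotientGroup.eq_one_iff _).2 (h.U_le_om' (h.cen_comm_le (by norm_num) hd he))
  refine (QuotientGroup.eq_one_iff (N := Om 2 G) _).1 ?_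
  show QuotientGroup.mk' (Om 2 G) ⁅k, c⁆ = 1
  rw [map_commutatorElement, commutatorElement_eq_one_iff_mul_comm]
  exact (Subgroup.mem_centralizer_iff.1 (hle hk) _ ⟨c, hc, rfl⟩).symm

/-- The blocks act on `O₂(G)` through central automorphisms. -/
theorem exists_conj_eq {k y : G} (hk : k ∈ 𝕂) (hy : y ∈ pCore 2 G) :
    ∃ e ∈ Om 2 G, k * y * k⁻¹ = e * y ∧ ∀ z ∈ cen 2 G, Commute e z := by
  refine ⟨⁅k, y⁆, h.sSup_comm_cen hk (pCore_le_cen hy),
    by rw [commutatorElement_def, inv_mul_cancel_right], fun z hz => ?_⟩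
  exact Subgroup.mem_centralizer_iff.1 hz _ (h.sSup_comm_cen hk (pCore_le_cen hy))

theorem sq_mem_centralizer {y : G} (hy : y ∈ pCore 2 G) :
    y * y ∈ Subgroup.centralizer ((𝕂 : Subgroup G) : Set G) := by
  rw [Subgroup.mem_centralizer_iff]
  intro k hk
  obtain ⟨e, he, heq, hec⟩ := h.exists_conj_eq hk hy
  have h2 : e * e = 1 := by rw [← pow_two]; exact (om_elemAb 2 G).2 e he
  rw [← mul_inv_eq_iff_eq_mul]
  calc k * (y * y) * k⁻¹ = (k * y * k⁻¹) * (k * y * k⁻¹) := by group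
    _ = (e * y) * (e * y) := by rw [heq]
    _ = e * e * (y * y) := (hec y (pCore_le_cen hy)).symm.mul_mul_mul_comm e y
    _ = y * y := by rw [h2, one_mul]

theorem comm_mem_centralizer {y y' : G} (hy : y ∈ pCore 2 G) (hy' : y' ∈ pCore 2 G) :
    ⁅y, y'⁆ ∈ Subgroup.centralizer ((𝕂 : Subgroup G) : Set G) := by
  rw [Subgroup.mem_centralizer_iff]
  intro k hk
  obtain ⟨e, he, heq, hec⟩ := h.exists_conj_eq hk hy
  obtain ⟨e', he', heq', hec'⟩ := h.exists_conj_eq hk hy'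
  rw [← mul_inv_eq_iff_eq_mul]
  have h1 : k * ⁅y, y'⁆ * k⁻¹ = ⁅k * y * k⁻¹, k * y' * k⁻¹⁆ := by
    rw [commutatorElement_def, commutatorElement_def]; group
  rw [h1, heq, heq']
  exact comm_mul_central (hec _ (pCore_le_cen hy')) (hec' _ (pCore_le_cen hy))
    (hec _ (h.om_le_cen he')) (hec _ (pCore_le_cen hy)) (hec' _ (pCore_le_cen hy'))

theorem fix_inf_le_line {A : Subgroup (Bar 2 G)} (hA : A ∈ mems (Mod 2 G) q (Tbar T) 1) :
    (FFSL2.fix ((𝕂).map (pr 2)) : AddSubgroup (Mod 2 G)) ⊓ FFSL2.fix 𝐑 ≤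
      FFSL2.fix (sSup (line (Mod 2 G) q (Tbar T) 1 A)) := by
  intro v hv
  rw [← fix_sup] at hv
  intro z hz
  refine hv z ?_
  refine ((h.isRoot_rootOf hA).line_le h).trans (sup_le_sup ?_ (h.conf.mem_le_roots hA)) hz
  exact Subgroup.map_mono ((h.blkE_le_K (h.self_mem_cls hA)).trans
    (le_sSup (s := blockSet T q) ⟨A, hA, rfl⟩))

theorem cenW_core {y : ↥(T : Subgroup G)} (hy : y ∈ cenW T 1) : (y : G) ∈ pCore 2 G :=
  h.inf_cen_T.le ⟨y.2, mem_cenW_one.1 hy⟩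

theorem mu_imW (ψ : MulAut ↥(T : Subgroup G)) :
    mu (Mod 2 G) ((imW T ψ).map (prT T)) * Nat.card ↥(imW T ψ ⊓ cenW T 1) =
      Nat.card (Mod 2 G) * Nat.card ↥(imW T 1 ⊓ cenW T ψ) := by
  have hinj := (T : Subgroup G).subtype_injective
  set B := (imW T ψ).map (T : Subgroup G).subtype with hB
  have e1 : (imW T ψ).map (prT T) = B.map (pr 2) := (Subgroup.map_map _ _ _).symm
  have e2 : Nat.card ↥(B ⊓ cen 2 G) = Nat.card ↥(imW T ψ ⊓ cenW T 1) := by
    rw [← Subgroup.card_map_of_injective (K := imW T ψ ⊓ cenW T 1) hinj]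
    congr 2
    ext g
    constructor
    · rintro ⟨⟨x, hx, rfl⟩, hc⟩
      exact ⟨x, ⟨hx, mem_cenW_one.2 hc⟩, rfl⟩
    · rintro ⟨x, ⟨hx, hc⟩, rfl⟩
      exact ⟨⟨x, hx, rfl⟩, mem_cenW_one.1 hc⟩
  have e3 : Nat.card ↥(Om 2 G ⊓ Subgroup.centralizer (B : Set G)) =
      Nat.card ↥(imW T 1 ⊓ cenW T ψ) := by
    rw [← Subgroup.card_map_of_injective (K := imW T 1 ⊓ cenW T ψ) hinj]
    congr 2
    ext g
    constructor
    · rintro ⟨hg, hc⟩
      refine ⟨⟨g, Thompson.pCore_le_sylow T ((LAE65.Block.omegaOneCenter_le _) hg)⟩,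
        ⟨hg, Subgroup.mem_centralizer_iff.2 fun x hx => Subtype.ext ?_⟩, rfl⟩
      exact Subgroup.mem_centralizer_iff.1 hc _ ⟨x, hx, rfl⟩
    · rintro ⟨x, ⟨hx, hc⟩, rfl⟩
      refine ⟨hx, Subgroup.mem_centralizer_iff.2 ?_⟩
      rintro _ ⟨y, hy, rfl⟩
      exact congrArg Subtype.val (Subgroup.mem_centralizer_iff.1 hc y hy)
  have e4 : Nat.card (Mod 2 G) = Nat.card ↥B := by
    rw [hB, Subgroup.card_map_of_injective hinj, card_imW]
    exact Nat.card_congr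
      { toFun := fun v => ⟨⟨cv v, Thompson.pCore_le_sylow T
          ((LAE65.Block.omegaOneCenter_le _) (cv_mem v))⟩, cv_mem v⟩
        invFun := fun x => vc x.2
        left_inv := fun _ => rfl
        right_inv := fun _ => rfl }
  rw [mu, e1, card_fix_map, e3, e4, card_map_mul (p := 2) B, e2]
  ring

theorem com_imW (ψ : MulAut ↥(T : Subgroup G)) :
    Com ((imW T ψ).map (prT T)) ((imW T ψ).map (prT T)) := by
  rintro _ ⟨a, ha, rfl⟩ _ ⟨b, hb, rfl⟩
  rw [← map_mul, ← map_mul, imW_comm ha hb]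

/-- Every image of `V` is an exact offender. -/
theorem mu_imW_eq (ψ : MulAut ↥(T : Subgroup G)) :
    mu (Mod 2 G) ((imW T ψ).map (prT T)) = Nat.card (Mod 2 G) := by
  have key : ∀ ξ : MulAut ↥(T : Subgroup G),
      Nat.card ↥(imW T 1 ⊓ cenW T ξ) ≤ Nat.card ↥(imW T ξ ⊓ cenW T 1) := fun ξ => by
    refine Nat.le_of_mul_le_mul_left ?_ (Nat.card_pos (α := Mod 2 G))
    rw [← h.mu_imW ξ]
    exact Nat.mul_le_mul_right _ (h.conf.no_over.com_le (h.com_imW ξ))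
  have heq : Nat.card ↥(imW T 1 ⊓ cenW T ψ) = Nat.card ↥(imW T ψ ⊓ cenW T 1) := by
    refine le_antisymm (key ψ) ?_
    rw [card_imW_inf ψ]
    refine (key ψ⁻¹).trans ?_
    rw [card_imW_inf ψ⁻¹, inv_inv]
  have := h.mu_imW ψ
  rw [heq] at this
  exact Nat.eq_of_mul_eq_mul_right Nat.card_pos this

variable {ψ : MulAut ↥(T : Subgroup G)}

/-- A noncentralising image of `V` covers the roots. -/
theorem image_eq_roots (hψ : ¬ imW T ψ ≤ cenW T 1) : (imW T ψ).map (prT T) = 𝐑 := by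
  set X := (imW T ψ).map (prT T) with hX
  have hne : X ≠ ⊥ := fun e => hψ fun x hx =>
    prT_eq_one.1 (Subgroup.mem_bot.1 (e ▸ ⟨x, hx, rfl⟩ : prT T x ∈ (⊥ : Subgroup (Bar 2 G))))
  have hXT : X ≤ (Tbar T : Subgroup (Bar 2 G)) := by
    rintro _ ⟨x, -, rfl⟩
    exact ⟨x, x.2, rfl⟩
  have hmu := (h.mu_imW_eq ψ).ge
  refine le_antisymm (h.conf.offender_le_roots _ X le_rfl hXT (h.com_imW ψ) hmu) (sSup_le fun B hB => ?_)
  obtain ⟨A, hA, hAX⟩ :=
    h.conf.offender_exists ((Tbar T).isPGroup'.to_le hXT) (h.com_imW ψ) hne hmu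
  have hAm : A ∈ mems (Mod 2 G) q (Tbar T) 1 := ⟨hA, by rw [FFSL2.cj_one]; exact hAX.trans hXT⟩
  obtain ⟨t, ht, rfl⟩ := h.conf.exists_cj_mems hAm hB
  rw [FFSL2.cj_one, Tbar_eq] at ht
  obtain ⟨s, hs, rfl⟩ := ht
  intro z hz
  obtain ⟨x, hx, e⟩ := hAX (FFSL2.mem_cj.1 hz)
  refine ⟨⟨s, hs⟩ * x * ⟨s, hs⟩⁻¹, (imW_normal ψ).conj_mem x hx _, ?_⟩
  rw [map_mul, map_mul, map_inv, e]
  show pr 2 s * _ * (pr 2 s)⁻¹ = z
  simp [mul_assoc]

theorem cenW_le (hψ : ¬ imW T ψ ≤ cenW T 1) {y : ↥(T : Subgroup G)} (hy : y ∈ cenW T ψ) :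
    ∃ x ∈ imW T ψ, x⁻¹ * y ∈ cenW T 1 := by
  have h1 : prT T y ∈ 𝐑 := by
    refine h.conf.mem_roots_of_com ⟨y, y.2, rfl⟩ fun d hd => ?_
    rw [← h.image_eq_roots hψ] at hd
    obtain ⟨x, hx, rfl⟩ := hd
    rw [← map_mul, ← map_mul, Subgroup.mem_centralizer_iff.1 hy x hx]
  rw [← h.image_eq_roots hψ] at h1
  obtain ⟨x, hx, e⟩ := h1
  exact ⟨x, hx, inv_mul_mem_cenW e⟩

theorem decomp (hψ : ¬ imW T ψ ≤ cenW T 1) {z : ↥(T : Subgroup G)} (hz : z ∈ cenW T 1) :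
    ∃ v ∈ imW T 1, v⁻¹ * z ∈ cenW T ψ := by
  have hz' : ψ.symm z ∈ cenW T ψ⁻¹ := by
    have := apply_mem_cenW (ψ := ψ⁻¹) hz
    rwa [mul_one] at this
  obtain ⟨x, hx, hxz⟩ := h.cenW_le (fun e => hψ (imW_le_cenW_inv e)) hz'
  refine ⟨ψ x, mul_inv_cancel ψ ▸ apply_mem_imW (ψ := ψ) hx, ?_⟩
  have := apply_mem_cenW (ψ := ψ) hxz
  rwa [mul_one, map_mul, map_inv, MulEquiv.apply_symm_apply] at this

/-- Any image of `V` covering the roots lies in the product of any other with the common centraliser. -/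
theorem imW_le_mul {ξ : MulAut ↥(T : Subgroup G)} (hψ : ¬ imW T ψ ≤ cenW T 1)
    (hξ : ¬ imW T ξ ≤ cenW T 1) {a : ↥(T : Subgroup G)} (ha : a ∈ imW T ξ) :
    ∃ x ∈ imW T ψ, x⁻¹ * a ∈ cenW T 1 ∧ x⁻¹ * a ∈ cenW T ψ := by
  set N : AddSubgroup (Mod 2 G) := FFSL2.fix ((𝕂).map (pr 2)) ⊓ FFSL2.fix 𝐑 with hN
  let P : Bar 2 G → Mod 2 G → Prop := fun r u => ∃ a ∈ imW T ξ, ∃ x ∈ imW T ψ, ∃ v ∈ imW T 1,
    ∃ y ∈ cenW T 1 ⊓ cenW T ψ, a = x * v * y ∧ prT T x = r ∧ cv u = (v : G)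
  have hdec : ∀ b ∈ imW T ξ, ∀ x ∈ imW T ψ, prT T x = prT T b → ∃ v ∈ imW T 1,
      ∃ y ∈ cenW T 1 ⊓ cenW T ψ, b = x * v * y := fun b hb x hx e => by
    obtain ⟨v, hv, hvz⟩ := h.decomp hψ (inv_mul_mem_cenW e)
    refine ⟨v, hv, v⁻¹ * (x⁻¹ * b), ⟨?_, hvz⟩, by group⟩
    have hv' : v ∈ cenW T 1 := mem_cenW_one.2 (h.om_le_cen hv)
    exact (cenW T 1).mul_mem ((cenW T 1).inv_mem hv') (inv_mul_mem_cenW e)
  have htot : ∀ r ∈ 𝐑, ∃ u, P r u := by
    intro r hr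
    obtain ⟨x, hx, rfl⟩ := (h.image_eq_roots hψ).ge hr
    obtain ⟨b, hb, e⟩ := (h.image_eq_roots hξ).ge hr
    obtain ⟨v, hv, y, hy, eb⟩ := hdec b hb x hx e.symm
    exact ⟨vc (show (v : G) ∈ Om 2 G from hv), b, hb, x, hx, v, hv, y, hy, eb, rfl, rfl⟩
  have hrR : ∀ {r u}, P r u → r ∈ 𝐑 := by
    rintro r u ⟨_, -, x, hx, _, -, _, -, -, rfl, -⟩
    exact (h.image_eq_roots hψ).le ⟨x, hx, rfl⟩
  have hone : ∀ r u, P r u → r • u - u ∈ N := by
    intro r u hP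
    refine AddSubgroup.mem_inf.2 ⟨?_, h.quad_roots r (hrR hP) u⟩
    obtain ⟨b, hb, x, hx, v, hv, y, hy, eb, rfl, eu⟩ := hP
    show prT T x • u - u ∈ _
    rw [MonoidHom.comp_apply, Subgroup.coe_subtype, mem_fix_map, cv_sub_smul, eu]
    have hxy : Commute y x := (Subgroup.mem_centralizer_iff.1 hy.2 x hx).symm
    have hvy : Commute y v := (Subgroup.mem_centralizer_iff.1 hy.1 v hv).symm
    have hb2 : b * b = 1 := by rw [← pow_two]; exact imW_pow hb
    have hxi : x⁻¹ = x := inv_eq_of_mul_eq_one_right (by rw [← pow_two]; exact imW_pow hx)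
    have hvi : v⁻¹ = v := inv_eq_of_mul_eq_one_right (by rw [← pow_two]; exact imW_pow hv)
    have h1 : x * v * (x * v) * (y * y) = 1 := by
      rw [← (hxy.mul_right hvy).mul_mul_mul_comm, ← eb, hb2]
    have h2 : ⁅x, v⁆ = (y * y)⁻¹ := by
      rw [commutatorElement_def, hxi, hvi, ← eq_inv_of_mul_eq_one_left h1]
      group
    have h3 : (⁅(x : G), (v : G)⁆ : G) = ((⁅x, v⁆ : ↥(T : Subgroup G)) : G) := rfl
    rw [h3, h2]
    exact inv_mem (h.sq_mem_centralizer (h.cenW_core hy.1))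
  have htwo : ∀ r u s w, P r u → P s w → (s • u - u) - (r • w - w) ∈ N := by
    intro r u s w hP hQ
    refine AddSubgroup.mem_inf.2 ⟨?_, AddSubgroup.sub_mem _ (h.quad_roots s (hrR hQ) u) (h.quad_roots r (hrR hP) w)⟩
    obtain ⟨b, hb, x, hx, v, hv, y, hy, eb, rfl, eu⟩ := hP
    obtain ⟨b', hb', x', hx', v', hv', y', hy', eb', rfl, ew⟩ := hQ
    rw [MonoidHom.comp_apply, Subgroup.coe_subtype, MonoidHom.comp_apply, Subgroup.coe_subtype,
      mem_fix_map]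
    have hneg : ∀ z : Mod 2 G, -z = z := fun z => by
      rw [neg_eq_iff_add_eq_zero, ← two_nsmul]; exact h.conf.pm.exp z
    have e0 : (pr 2 (x' : G) • u - u) - (pr 2 (x : G) • w - w) =
        u + pr 2 (x : G) • w + pr 2 (x' : G) • u + w := by
      simp only [sub_eq_add_neg, hneg]; abel
    rw [e0, cv_add, cv_add, cv_add, cv_smul, cv_smul, eu, ew]
    have hxy : Commute y (x' * v') :=
      Commute.mul_right (Subgroup.mem_centralizer_iff.1 hy.2 x' hx').symm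
        (Subgroup.mem_centralizer_iff.1 hy.1 v' hv').symm
    have hxy' : Commute y' (x * v) :=
      Commute.mul_right (Subgroup.mem_centralizer_iff.1 hy'.2 x hx).symm
        (Subgroup.mem_centralizer_iff.1 hy'.1 v hv).symm
    have h1 : x * v * (x' * v') * (y * y') = x' * v' * (x * v) * (y' * y) := by
      rw [← hxy.mul_mul_mul_comm, ← hxy'.mul_mul_mul_comm, ← eb, ← eb', imW_comm hb hb']
    have hi : ∀ {χ : MulAut ↥(T : Subgroup G)} {z}, z ∈ imW T χ → z⁻¹ = z := fun hz =>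
      inv_eq_of_mul_eq_one_right (by rw [← pow_two]; exact imW_pow hz)
    have h2 : ⁅y', y⁆ = v * (x * v' * x⁻¹) * (x' * v * x'⁻¹) * v' := by
      have e : ⁅y', y⁆ = (x' * v' * (x * v))⁻¹ * (x * v * (x' * v')) := by
        rw [eq_mul_inv_of_mul_eq h1, commutatorElement_def]
        group
      rw [e, mul_inv_rev, mul_inv_rev, mul_inv_rev, hi hv, hi hx, hi hv', hi hx']
      simp only [mul_assoc]
      rw [← mul_assoc x' x, imW_comm hx' hx, mul_assoc]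
    have h3 : (v : G) * ((x : G) * (v' : G) * (x : G)⁻¹) * ((x' : G) * (v : G) * (x' : G)⁻¹) * (v' : G)
        = ((⁅y', y⁆ : ↥(T : Subgroup G)) : G) := by rw [h2]; rfl
    rw [h3]
    exact h.comm_mem_centralizer (h.cenW_core hy'.1) (h.cenW_core hy.1)
  obtain ⟨x, hx, e⟩ :=
    (h.image_eq_roots hψ).ge ((h.image_eq_roots hξ).le ⟨a, ha, rfl⟩)
  obtain ⟨v, hv, y, hy, ea⟩ := hdec a ha x hx e
  have hu := h.conf.partner_fix (fun A hA => h.fix_inf_le_line hA) htot hone htwo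
    ((h.image_eq_roots hψ).le ⟨x, hx, rfl⟩)
    (show P (prT T x) (vc (show (v : G) ∈ Om 2 G from hv)) from
      ⟨a, ha, x, hx, v, hv, y, hy, ea, rfl, rfl⟩)
  have hvψ : v ∈ cenW T ψ := Subgroup.mem_centralizer_iff.2 fun z hz => Subtype.ext
    (smul_eq_iff.1 (hu (prT T z) ((h.image_eq_roots hψ).le ⟨z, hz, rfl⟩)))
  refine ⟨x, hx, ?_⟩
  rw [ea, mul_assoc, inv_mul_cancel_left]
  exact ⟨mul_mem (mem_cenW_one.2 (h.om_le_cen hv)) hy.1, mul_mem hvψ hy.2⟩

/-- The noncentralising automorphisms are closed under odd products. -/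
theorem triple {ξ η : MulAut ↥(T : Subgroup G)} (hψ : ¬ imW T ψ ≤ cenW T 1)
    (hξ : ¬ imW T ξ ≤ cenW T 1) (hη : ¬ imW T η ≤ cenW T 1) :
    ¬ imW T (ξ * ψ * η) ≤ cenW T 1 := by
  intro hle
  have hξ' : ¬ imW T ξ⁻¹ ≤ cenW T 1 := fun e => hξ (imW_le_cenW_inv e)
  have hψ' : ¬ imW T ψ⁻¹ ≤ cenW T 1 := fun e => hψ (by simpa using imW_le_cenW_inv e)
  have hcomm : imW T (ψ * η) ≤ cenW T ξ⁻¹ := by
    have := imW_le_cenW_mul (ψ := ξ⁻¹) hle
    rwa [← mul_assoc, ← mul_assoc, inv_mul_cancel, one_mul, mul_one] at this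
  obtain ⟨A, hA⟩ := h.conf.mems_nonempty 1
  obtain ⟨r, hr, hr1⟩ := hA.1.exists_ne_one
  obtain ⟨u, -, hu⟩ := SetLike.exists_of_lt (lt_top_iff_ne_top.2 hA.1.fix_ne_top)
  have hrR := h.conf.mem_le_roots hA hr
  obtain ⟨a, ha, ea⟩ := (h.image_eq_roots hξ').ge hrR
  obtain ⟨x, hx, hy1, hyψ⟩ := h.imW_le_mul hψ hξ' ha
  have hxr : prT T x = r := by
    rw [← ea]
    have := prT_eq_one.2 hy1
    rwa [map_mul, map_inv, inv_mul_eq_one] at this
  set v₀ : ↥(T : Subgroup G) := ⟨cv u, Thompson.pCore_le_sylow T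
    ((LAE65.Block.omegaOneCenter_le _) (cv_mem u))⟩ with hv₀
  have hv₀W : ψ.symm v₀ ∈ imW T ψ⁻¹ := by
    show (ψ⁻¹ : MulAut _).symm (ψ.symm v₀) ∈ imW T 1
    have e : (ψ⁻¹ : MulAut _).symm (ψ.symm v₀) = v₀ := ψ.apply_symm_apply v₀
    rw [e]
    exact cv_mem u
  obtain ⟨b, hb, eb⟩ :=
    (h.image_eq_roots hη).ge ((h.image_eq_roots hψ').le ⟨_, hv₀W, rfl⟩)
  have hbv : (ψ b)⁻¹ * v₀ ∈ cenW T ψ := by
    have := apply_mem_cenW (ψ := ψ) (inv_mul_mem_cenW eb)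
    rwa [mul_one, map_mul, map_inv, MulEquiv.apply_symm_apply] at this
  obtain ⟨w, hw, hzψ', hz1'⟩ := h.imW_le_mul hψ' hη hb
  have hvW : ψ w ∈ imW T 1 := mul_inv_cancel ψ ▸ apply_mem_imW (ψ := ψ) hw
  have hzψ : (ψ w)⁻¹ * ψ b ∈ cenW T ψ := by
    have := apply_mem_cenW (ψ := ψ) hzψ'
    rwa [mul_one, map_mul, map_inv] at this
  have hz1 : (ψ w)⁻¹ * ψ b ∈ cenW T 1 := by
    have := apply_mem_cenW (ψ := ψ) hz1'
    rwa [mul_inv_cancel, map_mul, map_inv] at this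
  have hvv : (ψ w)⁻¹ * v₀ ∈ cenW T ψ := by
    have := mul_mem hzψ hbv
    rwa [show (ψ w)⁻¹ * ψ b * ((ψ b)⁻¹ * v₀) = (ψ w)⁻¹ * v₀ by group] at this
  set v := ψ w
  set y := x⁻¹ * a with hy
  set z := v⁻¹ * ψ b with hz
  have hab : x * y * (v * z) = v * z * (x * y) := by
    rw [hy, hz, mul_inv_cancel_left, mul_inv_cancel_left]
    exact Subgroup.mem_centralizer_iff.1 (hcomm (apply_mem_imW (ψ := ψ) hb)) a ha
  have cyv : Commute y v := (Subgroup.mem_centralizer_iff.1 hy1 v hvW).symm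
  have czx : Commute z x := (Subgroup.mem_centralizer_iff.1 hzψ x hx).symm
  rw [cyv.mul_mul_mul_comm, czx.mul_mul_mul_comm] at hab
  have hd : ⁅x, v⁆ = ⁅z, y⁆ := by
    have c1 : Commute (z * y) x :=
      Commute.mul_left czx (Subgroup.mem_centralizer_iff.1 hyψ x hx).symm
    have c2 : Commute (z * y) v :=
      Commute.mul_left (Subgroup.mem_centralizer_iff.1 hz1 v hvW).symm cyv
    have c3 : Commute (y * z)⁻¹ (v * x) := by
      refine Commute.inv_left ?_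
      exact Commute.mul_right
        (Commute.mul_left cyv (Subgroup.mem_centralizer_iff.1 hz1 v hvW).symm)
        (Commute.mul_left (Subgroup.mem_centralizer_iff.1 hyψ x hx).symm czx)
    rw [commutatorElement_def, commutatorElement_def]
    have e : x * v = v * x * (z * y * (y * z)⁻¹) := by
      rw [← mul_assoc, ← hab, mul_inv_cancel_right]
    calc x * v * x⁻¹ * v⁻¹ = x * v * (v * x)⁻¹ := by group
      _ = v * x * (z * y * (y * z)⁻¹) * (v * x)⁻¹ := by rw [e]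
      _ = z * y * (y * z)⁻¹ := by
        have c4 : Commute (z * y * (y * z)⁻¹) (v * x) :=
          Commute.mul_left (Commute.mul_right c2 c1) c3
        rw [← c4.eq, mul_inv_cancel_right]
      _ = z * y * z⁻¹ * y⁻¹ := by group
  refine hu ?_
  have hvu : (vc (show (v : G) ∈ Om 2 G from hvW)) ∈ (FFSL2.fix A : AddSubgroup (Mod 2 G)) := by
    by_contra hne
    refine h.conf.sub_not_mem hA hr hr1 hne (h.fix_inf_le_line hA (AddSubgroup.mem_inf.2 ⟨?_, h.quad_roots r hrR _⟩))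
    rw [← hxr, MonoidHom.comp_apply, Subgroup.coe_subtype, mem_fix_map, cv_sub_smul, cv_vc,
      show ⁅(x : G), (v : G)⁆ = ((⁅x, v⁆ : ↥(T : Subgroup G)) : G) from rfl, hd]
    exact h.comm_mem_centralizer (h.cenW_core hz1) (h.cenW_core hy1)
  intro t ht
  obtain ⟨t', ht', rfl⟩ := (h.image_eq_roots hψ).ge (h.conf.mem_le_roots hA ht)
  have h1 := smul_eq_iff.1 (hvu _ ht)
  have h2 := congrArg Subtype.val (Subgroup.mem_centralizer_iff.1 hvv t' ht')
  refine smul_eq_iff.2 ?_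
  show (t' : G) * (v₀ : G) = (v₀ : G) * t'
  simp only [Subgroup.coe_mul, Subgroup.coe_inv] at h2
  calc (t' : G) * (v₀ : G) = (t' : G) * v * ((v : G)⁻¹ * v₀) := by group
    _ = (v : G) * t' * ((v : G)⁻¹ * v₀) := congrArg (· * ((v : G)⁻¹ * v₀)) h1
    _ = (v : G) * ((v : G)⁻¹ * v₀ * t') := by rw [mul_assoc, h2]
    _ = (v₀ : G) * t' := by group

/-- An automorphism of odd order sends `V` into its centraliser. -/
theorem imW_le_of_odd (hψ : Odd (orderOf ψ)) : imW T ψ ≤ cenW T 1 := by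
  by_contra hne
  have key : ∀ j : ℕ, ¬ imW T (ψ ^ (2 * j + 1)) ≤ cenW T 1 := by
    intro j
    induction j with
    | zero => rwa [mul_zero, zero_add, pow_one]
    | succ j ih =>
      have := h.triple hne ih hne
      rwa [← pow_succ, ← pow_succ, show 2 * j + 1 + 1 + 1 = 2 * (j + 1) + 1 by ring] at this
  obtain ⟨j, hj⟩ := hψ
  refine key j ?_
  rw [← hj, pow_orderOf_eq_one, imW_le_cenW_iff]
  exact fun x hx y hy => imW_comm hy hx

end Ctx

end Cfsg.Agent.Block82
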