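import Cfsg.Agent.PushUp62.Main

/-!
Further data of the configuration of rank one pushing up.
-/

set_option autoImplicit false
set_option linter.unusedSectionVars false
set_option linter.unusedVariables false
set_option linter.style.haveILetI false

namespace Cfsg.Agent.Block82

open Cfsg.Agent.PushUp62
open scoped MatrixGroups commutatorElement
open Cfsg.Agent.LocalEven61 (pslMap sl2_smul_apply PUSetup)

variable {G : Type*} [Group G] {F : Type} [Field F] [Fintype F]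

/-- The data that both cases share. -/
structure PushCore (p : ℕ) (S : Sylow p G) (V Wt : Subgroup G) : Prop where
  V_le : V ≤ Cfsg.pCore p G
  V_elem : Cfsg.IsElementaryAbelian p V
  V_Q : ∀ x ∈ Cfsg.pCore p G, ∀ v ∈ V, x * v = v * x
  Wt_le : Wt ≤ (S : Subgroup G)
  Wt_elem : Cfsg.IsElementaryAbelian p Wt
  decomp : ∀ s ∈ (S : Subgroup G), ∃ w ∈ Wt, ∃ x ∈ Cfsg.pCore p G, s = w * x

/-- The extended result of pushing up. -/
inductive Ext (p : ℕ) (S : Sylow p G) (ρ : G →* SL(2, F)) : Prop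
  | one (C V Wt : Subgroup G) (D : NatFactor ρ V C) (hC : ⁅C, (⊤ : Subgroup G)⁆ = ⊥)
      (hcore : PushCore p S V Wt)
      (hQ : Cfsg.iterCommutator (Cfsg.pCore p G) ⊤ 2 ≤ V)
      (hWQ : ∀ w ∈ Wt, ∀ x ∈ Cfsg.pCore p G, ∃ v ∈ V, ⁅w, x⁆ = ⁅w, v⁆)
  | two (C V Wc W Wt : Subgroup G) (D : NatFactor ρ V C) (D' : NatFactor ρ W Wc)
      (hC : ⁅C, (⊤ : Subgroup G)⁆ = ⊥)
      (hcore : PushCore p S V Wt)
      (hWc : ⁅Wc, (⊤ : Subgroup G)⁆ ≤ V) (hVW : V ≤ Wc)
      (hQ : Cfsg.iterCommutator (Cfsg.pCore p G) ⊤ 3 ≤ W) (hWle : W ≤ Cfsg.pCore p G)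
      (hp : p = 3) (hW3 : ∀ w ∈ W, w ^ 3 = 1)
      (hX : ∃ a ∈ W, a ∉ Wc ∧ ∀ x ∈ Cfsg.pCore p G, ⁅x, a⁆ ∈ C)
      (hWcWt : ∀ c ∈ Wc, ∀ w ∈ Wt, ⁅c, w⁆ ∈ ⁅V, Wt⁆)
      (hVWtS : ∀ r ∈ ⁅V, Wt⁆, ∀ s ∈ (S : Subgroup G), s * r = r * s)
      (hdec : ∀ w ∈ Wt, ∀ x ∈ Cfsg.pCore p G, ∃ a ∈ W, ∃ r ∈ ⁅V, Wt⁆, ⁅w, x⁆ = ⁅w, a⁆ * r)
      (hdbl : ∀ w ∈ Wt, w ∉ Cfsg.pCore p G → ∃ a ∈ W, ⁅⁅a, w⁆, w⁆ ∉ C)
      (hcount : ∃ a ∈ W, ∃ f : Fin (Nat.card F) → G, (∀ c ∈ Wc, a * c = c * a) ∧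
        (∀ i, f i ∈ W ∧ ∀ c ∈ Wc, f i * c = c * f i) ∧ Function.Injective fun i => ⁅a, f i⁆)

variable [Finite G] {p : ℕ} [Fact p.Prime] [CharP F p] {n : ℕ} {S : Sylow p G} {K : Subgroup G}
  [K.Normal]

theorem comap_core {ι : G →* Equiv.Perm G} (hι : Function.Injective ι)
    (A : Amb (Equiv.Perm G) F p) (hS : A.S = (S : Subgroup G).map ι)
    (hQ : A.Q = (Cfsg.pCore p G).map ι) (Vy : Subgroup (Equiv.Perm G)) (hVy : Vy ≤ A.S)
    (hel : Cfsg.IsElementaryAbelian p Vy)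
    (hdec : ∀ s ∈ A.S, ∃ w ∈ Vy, ∃ x ∈ A.Q, s = w * x) :
    PushCore p S (A.V.comap ι) (Vy.comap ι) := by
  have hback : ∀ {X : Subgroup G} {x : G}, ι x ∈ X.map ι → x ∈ X := fun h =>
    (Subgroup.mem_map_iff_mem hι).1 h
  have hel' : ∀ {Y : Subgroup (Equiv.Perm G)}, Cfsg.IsElementaryAbelian p Y →
      Cfsg.IsElementaryAbelian p (Y.comap ι) := fun {Y} hY =>
    ⟨⟨⟨fun a b => Subtype.ext (hι (by
      simpa using Thompson.elemAb_comm hY.1 a.2 b.2))⟩⟩,
     fun a ha => hι (by rw [map_pow, hY.2 _ ha, map_one])⟩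
  refine ⟨fun x hx => hback (hQ ▸ A.V_le hx), hel' A.V_elem, fun x hx v hv => hι ?_,
    fun x hx => hback (hS ▸ hVy hx), hel' hel, fun s hs => ?_⟩
  · rw [map_mul, map_mul]
    exact A.V_Q _ (hQ.symm ▸ Subgroup.mem_map_of_mem ι hx) _ hv
  · obtain ⟨w, hw, x, hx, e⟩ := hdec (ι s) (hS.symm ▸ Subgroup.mem_map_of_mem ι hs)
    obtain ⟨w', hw', rfl⟩ : ∃ w' ∈ (S : Subgroup G), ι w' = w := hS.le (hVy hw)
    obtain ⟨x', hx', rfl⟩ : ∃ x' ∈ Cfsg.pCore p G, ι x' = x := hQ.le hx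
    exact ⟨w', hw, x', hx', hι (by rw [e, map_mul])⟩

set_option maxHeartbeats 4000000 in
theorem pushing_up_ext (h : PUSetup S K F n)
    (hd : ∀ T : Subgroup ↥(S : Subgroup G), T ≠ ⊥ → T.Characteristic →
      ¬ (T.map (S : Subgroup G).subtype).Normal) :
    ∃ ρ : G →* SL(2, F), Function.Surjective ρ ∧ ρ.ker = Cfsg.pCore p G ∧ Ext p S ρ := by
  classical
  obtain ⟨A, hG, hS, hQ⟩ := exists_amb h hd
  set ι := regHom G with hιdef
  have hι : Function.Injective ι := regHom_injective G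
  have hmemG : ∀ g, ι g ∈ A.G := fun g => hG.symm ▸ ⟨g, trivial, rfl⟩
  let e : G →* ↥A.G := ι.codRestrict A.G hmemG
  have he : Function.Surjective e := fun ⟨x, hx⟩ => by
    rw [hG] at hx
    obtain ⟨g, -, rfl⟩ := hx
    exact ⟨g, rfl⟩
  have hmem : ∀ (T : Subgroup G) g, ι g ∈ T.map ι ↔ g ∈ T := fun T g => Subgroup.mem_map_iff_mem hι
  let ρ := A.nat.rep.comp e
  have hρ : Function.Surjective ρ := A.nat.surj.comp he
  have hkerρ : (∀ g : ↥A.G, A.nat.rep g = 1 ↔ (g : Equiv.Perm G) ∈ A.Q) →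
      ρ.ker = Cfsg.pCore p G := fun hk => by
    ext g
    rw [MonoidHom.mem_ker]
    exact (hk (e g)).trans (by rw [hQ]; exact hmem _ g)
  have hsurjG : ∀ x ∈ A.G, ∃ a, ι a = x := fun x hx => by
    rw [hG] at hx
    obtain ⟨a, -, rfl⟩ := hx
    exact ⟨a, rfl⟩
  have mkF : ∀ {X Y L : Subgroup (Equiv.Perm G)} (D : SectNat A.G A.S A.proj X Y L),
      (∀ g, D.rep (e g) = ρ g) → A.G ≤ Subgroup.normalizer (X : Set (Equiv.Perm G)) →
      A.G ≤ Subgroup.normalizer (Y : Set (Equiv.Perm G)) → Y ≤ X → X ≤ A.G →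
      Nonempty (NatFactor ρ (X.comap ι) (Y.comap ι)) := by
    intro X Y L D hD hXn hYn hYX hXG
    have hnorm : ∀ {T : Subgroup (Equiv.Perm G)}, A.G ≤ Subgroup.normalizer (T : Set (Equiv.Perm G)) →
        (T.comap ι).Normal := fun hT => ⟨fun x hx g => by
      rw [Subgroup.mem_comap, map_mul, map_mul, map_inv]
      exact conj_mem_of_le_normalizer' hT (hmemG g) hx⟩
    exact ⟨{ normX := hnorm hXn
             normY := hnorm hYn
             le := Subgroup.comap_mono hYX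
             crd := fun x => D.crd (ι x)
             crd_mul := fun {x y} hx hy => by
               rw [map_mul]; exact D.crd_mul hx hy
             crd_surj := fun u => by
               obtain ⟨x, hx, hxu⟩ := D.crd_surj u
               obtain ⟨a, rfl⟩ := hsurjG x (hXG hx)
               exact ⟨a, hx, hxu⟩
             crd_eq_zero := fun {x} hx => D.crd_eq_zero hx
             crd_conj := fun g {x} hx => by
               rw [map_mul, map_mul, map_inv, ← hD]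
               exact D.crd_conj (e g) hx
             eq_or_eq := fun Z hZ h1 h2 => by
               have hZn : A.G ≤ Subgroup.normalizer (Z.map ι : Set (Equiv.Perm G)) := by
                 rw [hG]
                 refine le_trans ?_ (Subgroup.le_normalizer_map ι)
                 rw [Subgroup.normalizer_eq_top]
               have hYZ : Y ≤ Z.map ι := fun y hy => by
                 obtain ⟨a, rfl⟩ := hsurjG y (hXG (hYX hy))
                 exact ⟨a, h1 hy, rfl⟩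
               rcases D.eq_or_eq hYZ (Subgroup.map_le_iff_le_comap.2 h2) hZn with h3 | h3
               · left; rw [← h3, Subgroup.comap_map_eq_self_of_injective hι]
               · right; rw [← h3, Subgroup.comap_map_eq_self_of_injective hι] }⟩
  have hiter : ∀ k, Cfsg.iterCommutator A.Q A.G k =
      (Cfsg.iterCommutator (Cfsg.pCore p G) ⊤ k).map ι := by
    intro k
    induction k with
    | zero => exact hQ
    | succ k ih => show ⁅_, _⁆ = (⁅_, _⁆ : Subgroup G).map ι; rw [Subgroup.map_commutator, ih, hG]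
  have hCtop : ⁅A.C.comap ι, (⊤ : Subgroup G)⁆ = ⊥ := le_bot_iff.1
    (Subgroup.commutator_le.2 fun c hc g _ => Subgroup.mem_bot.2 (hι (by
      rw [map_commutatorElement, map_one, commutatorElement_eq_one_iff_mul_comm]
      exact (A.centC _ (hmemG g) _ hc).symm)))
  have hQmem : ∀ x ∈ Cfsg.pCore p G, ι x ∈ A.Q := fun x hx => hQ.symm ▸ Subgroup.mem_map_of_mem ι hx
  have hle_comap : ∀ {T : Subgroup (Equiv.Perm G)}, T ≤ A.Q → T.comap ι ≤ Cfsg.pCore p G :=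
    fun {T} hT x hx => (hmem _ x).1 (hQ ▸ hT hx)
  have hSmem : ∀ s ∈ (S : Subgroup G), ι s ∈ A.S := fun s hs => hS.symm ▸ ⟨s, hs, rfl⟩
  have hVv : ∀ b : Equiv.Perm G, Cfsg.IsElementaryAbelian p (A.Vv b) := fun b =>
    Thompson.isElementaryAbelian_map _ A.V_elem
  obtain ⟨D⟩ := mkF A.nat (fun g => rfl) A.normV A.G_le_normalizer_C (A.C_le.trans A.Om_le) A.V_le_G
  obtain ⟨m, hsm, P, hc⟩ := A.exists_crit
  match m, hsm, P, hc with
  | 0, hsm, P, hc =>
    have cI := A.case_one hsm P hc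
    obtain ⟨t, ht, htQ, htV⟩ := cI.central
    have hker : ∀ g : ↥A.G, A.nat.rep g = 1 ↔ (g : Equiv.Perm G) ∈ A.Q := by
      refine A.eq_Q_of_kernel A.nat fun k hk m hm hcop => ?_
      have hVk : ∀ v ∈ A.V, (k : Equiv.Perm G) * v = v * k := fun v hv =>
        commute_of_stabilizes (A.S_pgroup.to_le (A.C_le.trans A.Om_le_S))
          (fun b hb => A.centC _ k.2 b hb) hm hcop
          ((A.nat.comm_mem_Y_iff A.normV k hv).2 (by rw [hk]; simp))
      have hQk : ∀ q ∈ A.Q, (k : Equiv.Perm G) * q = q * k := fun q hq =>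
        commute_of_stabilizes (A.S_pgroup.to_le A.V_le_S) hVk hm hcop
          (A.mem_of_coprime A.normV ht htQ htV k.2 hm hcop q hq)
      obtain ⟨i, hi⟩ := A.S_pgroup ⟨k, A.Q_le (A.charP_cond k k.2 hQk)⟩
      have h2 := pow_gcd_eq_one.2
        ⟨hm, show (k : Equiv.Perm G) ^ p ^ i = 1 by simpa using congrArg Subtype.val hi⟩
      rw [(Nat.Coprime.pow_right i hcop).gcd_eq_one, pow_one] at h2
      exact Subtype.ext h2
    obtain ⟨h0, -, hQ', hV', -, hS', hO'⟩ := A.translate P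
    set P' := P.smul h0 with hP'
    have hc' : A.Crit P' := fun h1 => hc (by
      have := cj_mono h0⁻¹ h1
      simp only [P', Amb.Path.smul, Amb.Vv, Amb.Qv, ← cj_mul, inv_mul_cancel_left] at this
      exact this)
    rw [← show P'.x 0 = h0 * P.x 0 from rfl] at hQ' hV'
    rw [← show P'.e 0 = h0 * P.e 0 from rfl] at hS'
    set Vy := A.Vv (P'.x 1)
    have hVyS : Vy ≤ A.S := hS' ▸ A.Vv_le_Se_first hsm P' hc'
    have hWQ : ∀ w ∈ Vy, ∀ x ∈ A.Q, ∃ v ∈ A.V, ⁅w, x⁆ = ⁅w, v⁆ := by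
      intro w hw x hx
      obtain ⟨v, hv, r, hr, e1⟩ := A.decomp hsm P' hc' (s := x) (hS'.symm ▸ A.Q_le hx)
      rw [hV'] at hv
      refine ⟨v, hv, ?_⟩
      rw [e1, commutator_mul_right w v r,
        commutatorElement_eq_one_iff_mul_comm.2 (A.V_Q_v hr hw).symm, mul_one, mul_inv_cancel, mul_one]
    refine ⟨ρ, hρ, hkerρ hker, Ext.one (A.C.comap ι) (A.V.comap ι) (Vy.comap ι) D hCtop
      (comap_core hι A hS hQ Vy hVyS (hVv _) fun s hs => ?_) ?_ fun w hw x hx => ?_⟩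
    · obtain ⟨w, hw, q, hq, e1⟩ := A.decomp_first hsm P' hc' (s := s) (by rw [hS']; exact hs)
      exact ⟨w, hw, q, hQ' ▸ hq, e1⟩
    · intro x hx
      have h1 := A.iter_le A.normV A.V_le ht htQ htV 1 (show ι x ∈ _ by rw [hiter]; exact ⟨x, hx, rfl⟩)
      rwa [cI.class_le, bot_sup_eq] at h1
    · obtain ⟨v, hv, e1⟩ := hWQ _ hw _ (hQmem x hx)
      obtain ⟨v', rfl⟩ := hsurjG v (A.V_le_G hv)
      exact ⟨v', hv, hι (by rw [map_commutatorElement, map_commutatorElement, e1])⟩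
  | 1, hsm, P, hc =>
    have cII := A.case_two hsm P hc
    obtain ⟨z, f, x, e', u, g, y, c, hGx, hQx, hVx, hCx, hSx, hOx⟩ := A.exists_cfg_base hsm P hc
    set W := A.Wat x with hW
    set WF := A.Wat x ⊓ A.Qv u with hWF
    set Wc := A.Wat x ⊓ A.Qv u ⊓ A.Qv z with hWc
    set Vz := A.Vv z
    set Vy := A.Vv y
    set R1 := ⁅A.Vv x, A.Vv y⁆ with hR1
    have hWn : A.G ≤ Subgroup.normalizer (W : Set (Equiv.Perm G)) := hGx ▸ A.Gv_le_normalizer_Wat x
    have hWcn : A.G ≤ Subgroup.normalizer (Wc : Set (Equiv.Perm G)) := hGx ▸ c.Wc_normal hsm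
    have hWQ : W ≤ A.Q := hQx ▸ A.Wat_le_Qv hsm x
    have hVWc : A.V ≤ Wc := hVx ▸ c.Vx_le_Wc hsm
    have hWcW : Wc ≤ W := inf_le_left.trans inf_le_left
    have hR0C : ⁅A.Vv z, A.Vv u⁆ ≤ A.C := hCx ▸ c.R0_le_Cx hsm
    have hR1O : R1 ≤ A.Om := hOx ▸ c.R1_le_Oe hsm
    have hVzQ : Vz ≤ A.Q := hQx ▸ c.Vz_le_Qx hsm
    have hVyS : Vy ≤ A.S := hSx ▸ c.Vy_le_Se hsm
    have hVzW : Vz ≤ W := A.Vv_le_Wat c.xf c.zf
    have hDy : ∀ d ∈ A.Qv u, ∀ w ∈ Vy, ⁅d, w⁆ ∈ R1 := fun d hd w hw => c.comm_D_Vy hsm hd hw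
    obtain ⟨t, ht, htQ'⟩ := SetLike.not_le_iff_exists.1 (c.not_yx hsm)
    have htQ : t ∉ A.Q := hQx ▸ htQ'
    have hdecQ : ∀ q ∈ A.Q, ∃ v ∈ Vz, ∃ d ∈ A.Qv x ⊓ A.Qv u, q = v * d := fun q hq =>
      c.decomp_Q hsm (by rw [hQx]; exact hq)
    have hQW : ∀ q ∈ A.Q, ⁅q, t⁆ ∈ W := fun q hq => by
      obtain ⟨v, hv, d, hd, rfl⟩ := hdecQ q hq
      rw [commutator_mul_left]
      refine W.mul_mem (conj_mem_of_le_normalizer' hWn (A.Q_le_G (hVzQ hv)) ?_)
        (c.comm_Vz_Vy_mem hsm hv ht).1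
      exact A.Vv_le_Wat c.xe c.xe (hVx.symm ▸ A.Om_le (hR1O (hDy d hd.2 t ht)))
    have hWcen : ∀ w ∈ Wc, ∀ k ∈ A.G, ⁅w, k⁆ ∈ A.V := fun w hw k hk =>
      hVx ▸ (c.Wc_central hsm hw).2 k (hGx.symm ▸ hk)
    obtain ⟨natW⟩ := exists_sectNat (p := p) (G := A.G) (S := A.S) (X := W) (Y := Wc) (L := WF)
      (π := A.proj) A.proj_surj A.S_le A.S_pgroup A.map_mem A.map_S inf_le_left inf_le_left
      (hWQ.trans A.Q_le_G) hWn hWcn
      (fun a ha b hb => hVWc (A.Om_le (A.C_le (hR0C (c.W_comm hsm a ha b hb)))))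
      (c.card_W hsm) (c.card_WF hsm)
      (fun s hs' w hw => hVWc (hVx ▸ commutator_mem_symm
        ((c.WF_le_centMod hsm hw).2 s (hSx.symm ▸ hs'))))
      (fun k hk w hw hkw => by
        refine c.mem_Wc hsm hw ?_
        have hn : A.G ≤ Subgroup.normalizer (A.V : Set (Equiv.Perm G)) := A.normV
        have hfix : ∀ a ∈ WF, ∀ s ∈ A.S, ⁅a, s⁆ ∈ A.V := fun a ha s hs' =>
          hVx ▸ (c.WF_le_centMod hsm ha).2 s (hSx.symm ▸ hs')
        set w₁ := (k : Equiv.Perm G) * w * (k : Equiv.Perm G)⁻¹ with hw₁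
        have hw₁G : w₁ ∈ A.G :=
          A.G.mul_mem (A.G.mul_mem k.2 (hWQ.trans A.Q_le_G hw.1)) (A.G.inv_mem k.2)
        have hk' : A.G ≤ centMod (Subgroup.zpowers w₁) A.V := by
          refine (A.gen k hk).ge.trans ?_
          have hz : ∀ s : Equiv.Perm G, s ∈ A.G → ⁅w₁, s⁆ ∈ A.V →
              s ∈ centMod (Subgroup.zpowers w₁) A.V := by
            intro s hsG hsc
            refine ⟨hn hsG, fun b hb => commutator_mem_symm ?_⟩
            have : Subgroup.zpowers w₁ ≤ centElt s A.V := by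
              rw [Subgroup.zpowers_le]
              exact ⟨hn hw₁G, hsc⟩
            exact (this hb).2
          refine sup_le (fun s hs' => hz s (A.S_le hs') (hfix _ hkw s hs')) ?_
          rintro _ ⟨s, hs', rfl⟩
          refine hz _ (A.G.mul_mem (A.G.mul_mem k.2 (A.S_le hs')) (A.G.inv_mem k.2)) ?_
          show ⁅w₁, (k : Equiv.Perm G) * s * (k : Equiv.Perm G)⁻¹⁆ ∈ A.V
          rw [hw₁, ← conj_commutator]
          exact conj_mem_of_le_normalizer' hn k.2 (hfix w hw s hs')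
        intro k' hk''
        rw [hGx] at hk''
        rw [hVx]
        have h1 := (hk' (A.G.mul_mem (A.G.mul_mem k.2 hk'') (A.G.inv_mem k.2))).2 _
          (Subgroup.mem_zpowers _)
        have h2 := conj_mem_of_le_normalizer' hn (A.G.inv_mem k.2) (commutator_mem_symm h1)
        rw [hw₁, conj_commutator] at h2
        simpa [mul_assoc] using h2)
      A.gen
    obtain ⟨k₀, hk₀⟩ := A.proj_surj (pslMap weyl)
    have hrep : A.nat.rep = natW.rep := A.nat.rep_eq (p := p) natW k₀ (A.gen k₀ (by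
      rw [inBorel_iff hk₀.symm]; simp [weyl]))
    obtain ⟨D'⟩ := mkF natW (fun g => by rw [← hrep]; rfl) hWn hWcn hWcW (hWQ.trans A.Q_le_G)
    obtain ⟨a, ha, haQ⟩ := SetLike.not_le_iff_exists.1 c.zu
    have haWc : a ∉ Wc := fun h1 => haQ h1.1.2
    have hp : p = 3 := cII.p_eq
    have hVymap : (Vy.comap ι).map ι = Vy := Subgroup.map_comap_eq_self fun v hv => by
      obtain ⟨b, -, rfl⟩ := hS.le (hVyS hv); exact ⟨b, rfl⟩
    have hVmap : (A.V.comap ι).map ι = A.V := Subgroup.map_comap_eq_self fun v hv => by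
      obtain ⟨b, rfl⟩ := hsurjG v (A.V_le_G hv); exact ⟨b, rfl⟩
    have hR1' : ∀ r : G, ι r ∈ R1 ↔ r ∈ ⁅A.V.comap ι, Vy.comap ι⁆ := fun r => by
      rw [← hmem ⁅A.V.comap ι, Vy.comap ι⁆ r, Subgroup.map_commutator, hVmap, hVymap, hR1, hVx]
    refine ⟨ρ, hρ, hkerρ cII.ker, Ext.two (A.C.comap ι) (A.V.comap ι) (Wc.comap ι) (W.comap ι)
      (Vy.comap ι) D D' hCtop (comap_core hι A hS hQ Vy hVyS (hVv _) fun s hs => ?_) ?_
      (Subgroup.comap_mono hVWc) ?_ (hle_comap hWQ) hp (fun w hw => hι ?_) ?_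
      (fun cw hcw w hw => ?_) (fun r hr s hs => hι ?_) (fun w hw q hq => ?_) (fun w hw hwQ => ?_) ?_⟩
    · obtain ⟨w, hw, q, hq, e1⟩ := c.decomp_S hsm (s := s) (by rw [hSx]; exact hs)
      exact ⟨w, hw, q, hQx ▸ hq, e1⟩
    · refine Subgroup.commutator_le.2 fun c' hc' g _ => ?_
      rw [Subgroup.mem_comap, map_commutatorElement]
      exact hWcen _ hc' _ (hmemG g)
    · intro x' hx'
      have h1 := A.iter_le hWn hWQ (hVyS ht) htQ hQW 2
        (show ι x' ∈ _ by rw [hiter]; exact ⟨x', hx', rfl⟩)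
      rwa [cII.class_le, bot_sup_eq] at h1
    · rw [map_pow, map_one, ← hp]
      exact A.comm_W_pow hsm c (by omega) hw
    · obtain ⟨a', rfl⟩ := hsurjG a (A.Q_le_G (hVzQ ha))
      refine ⟨a', hVzW ha, haWc, fun q hq => ?_⟩
      rw [Subgroup.mem_comap, map_commutatorElement]
      obtain ⟨v, hv, d, hd, e1⟩ := hdecQ _ (hQmem q hq)
      rw [e1, commutator_mul_left, commutatorElement_eq_one_iff_mul_comm.2 (A.Vv_comm hv ha), mul_one]
      exact conj_mem_of_le_normalizer' A.G_le_normalizer_C (A.Q_le_G (hVzQ hv))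
        (hR0C (c.comm_D_Vz hsm hd.1 ha))
    · rw [← hR1', map_commutatorElement]
      exact hDy _ hcw.1.2 _ hw
    · rw [map_mul, map_mul]
      exact A.Om_S _ (hSmem s hs) _ (hR1O ((hR1' r).2 hr))
    · obtain ⟨v, hv, d, hd, e1⟩ := hdecQ _ (hQmem q hq)
      obtain ⟨v', rfl⟩ := hsurjG v (A.Q_le_G (hVzQ hv))
      have hr : ⁅ι w, d⁆ ∈ R1 := commutator_mem_symm (hDy d hd.2 _ hw)
      have e2 : ι ⁅w, q⁆ = ι ⁅w, v'⁆ * ⁅ι w, d⁆ := by
        rw [map_commutatorElement, map_commutatorElement, e1, commutator_mul_right,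
          A.Om_S _ (A.Q_le (hVzQ hv)) _ (hR1O hr), mul_inv_cancel_right]
      refine ⟨v', hVzW hv, ⁅w, v'⁆⁻¹ * ⁅w, q⁆, (hR1' _).1 ?_, by group⟩
      rw [map_mul, map_inv, e2, inv_mul_cancel_left]
      exact hr
    · obtain ⟨a', rfl⟩ := hsurjG a (A.Q_le_G (hVzQ ha))
      refine ⟨a', hVzW ha, ?_⟩
      rw [Subgroup.mem_comap, map_commutatorElement, map_commutatorElement, ← hCx]
      exact c.double_comm hsm ha haQ hw fun h1 => hwQ ((hmem _ w).1 (hQ ▸ hQx ▸ h1))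
    · obtain ⟨a', rfl⟩ := hsurjG a (A.Q_le_G (hVzQ ha))
      have hcent : ∀ {b : Equiv.Perm G}, b ∈ Vz ∨ b ∈ A.Vv u → ∀ cw ∈ Wc, b * cw = cw * b := by
        rintro b (hb | hb) cw hcw
        · exact (A.V_Q_v hcw.2 hb).symm
        · exact (A.V_Q_v hcw.1.2 hb).symm
      set N : Subgroup ↥(A.Vv u) := (A.Oe e').subgroupOf (A.Vv u) with hN
      have hNc : Nat.card (↥(A.Vv u) ⧸ N) = Nat.card F := by
        have hle : A.Oe e' ≤ A.Vv u := A.Oe_le_Vv c.ue
        have h1 := Subgroup.card_eq_card_quotient_mul_card_subgroup N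
        rw [Nat.card_congr (Subgroup.subgroupOfEquivOfLe hle).toEquiv, A.card_Vv u e', mul_comm] at h1
        exact (Nat.eq_of_mul_eq_mul_right Nat.card_pos h1).symm
      let en := Finite.equivFinOfCardEq hNc
      have hu : ∀ i, ∃ b : G, ι b = ((en.symm i).out : Equiv.Perm G) := fun i =>
        hsurjG _ (A.Q_le_G (hWQ (A.Vv_le_Wat c.xe c.ue (en.symm i).out.2)))
      choose fb hfb using hu
      refine ⟨a', hVzW ha, fb, fun cw hcw => hι ?_, fun i => ⟨?_, fun cw hcw => hι ?_⟩,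
        fun i j hij => ?_⟩
      · rw [map_mul, map_mul]; exact hcent (Or.inl ha) _ hcw
      · rw [Subgroup.mem_comap, hfb]; exact A.Vv_le_Wat c.xe c.ue (en.symm i).out.2
      · rw [map_mul, map_mul, hfb]; exact hcent (Or.inr (en.symm i).out.2) _ hcw
      · have h1 : ⁅ι a', ι (fb i)⁆ = ⁅ι a', ι (fb j)⁆ := by
          rw [← map_commutatorElement, ← map_commutatorElement]; exact congrArg ι hij
        rw [hfb, hfb] at h1
        set b₁ := (en.symm i).out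
        set b₂ := (en.symm j).out
        have h2 : ι a' * ((b₁⁻¹ * b₂ : ↥(A.Vv u)) : Equiv.Perm G) =
            ((b₁⁻¹ * b₂ : ↥(A.Vv u)) : Equiv.Perm G) * ι a' := by
          simp only [commutatorElement_def, mul_assoc, mul_right_inj] at h1
          have h3 : (b₁ : Equiv.Perm G) * ((ι a')⁻¹ * (b₁ : Equiv.Perm G)⁻¹) =
              b₂ * ((ι a')⁻¹ * (b₂ : Equiv.Perm G)⁻¹) := h1
          rw [Subgroup.coe_mul, Subgroup.coe_inv]
          have h4 := congrArg (fun r => (b₁ : Equiv.Perm G)⁻¹ * r * b₂) h3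
          simp only [mul_assoc, inv_mul_cancel, inv_mul_cancel_left, mul_one] at h4
          have h5 := congrArg (fun r => ι a' * r * ι a') h4
          simp only [mul_assoc, inv_mul_cancel, mul_inv_cancel_left, mul_one] at h5
          simp only [mul_assoc]
          exact h5.symm
        have h6 : (b₁⁻¹ * b₂ : ↥(A.Vv u)) ∈ N := A.fix_v c.ue
          (A.Qv_le_Se c.xe (c.Vz_le_Qx hsm ha)) haQ (b₁⁻¹ * b₂).2 h2
        have h7 := QuotientGroup.eq.2 h6
        rw [QuotientGroup.out_eq', QuotientGroup.out_eq'] at h7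
        exact en.symm.injective h7
  | k + 2, hsm, P, hc => exact absurd (A.no_long hsm P hc) id

end Cfsg.Agent.Block82
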