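import Cfsg.Agent.Lib.Thompson.Block.PushExt
import Cfsg.Agent.Lib.Transfer.Residual
import Cfsg.Agent.LocalEven62.Frattini
import Cfsg.Agent.LAE65.BlockIrred

/-!
The residual of a group with a rank one pushing up configuration: general facts.
-/

set_option autoImplicit false
set_option linter.unusedSectionVars false
set_option linter.style.haveILetI false

namespace Cfsg.Agent.Block82

open Cfsg.Agent.PushUp62
open Cfsg.Agent.PLocalB (upper lower)
open scoped MatrixGroups commutatorElement IsMulCommutative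

variable {L : Type*} [Group L] {p : ℕ}

theorem normal_centMod {Y X : Subgroup L} [Y.Normal] [X.Normal] : (centMod Y X).Normal :=
  ⟨fun a ha g => ⟨by rw [Subgroup.normalizer_eq_top]; trivial, fun y hy => by
    have h := (inferInstance : X.Normal).conj_mem _
      (ha.2 _ (show g⁻¹ * y * g ∈ Y by
        simpa using (inferInstance : Y.Normal).conj_mem y hy g⁻¹)) g
    rwa [show g * ⁅a, g⁻¹ * y * g⁆ * g⁻¹ = ⁅g * a * g⁻¹, y⁆ by
      simp only [commutatorElement_def]; group] at h⟩⟩

theorem le_centMod_top {Y X : Subgroup L} [X.Normal] {T : Subgroup L}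
    (h : ∀ t ∈ T, ∀ y ∈ Y, ⁅t, y⁆ ∈ X) : T ≤ centMod Y X :=
  le_centMod_of_comm (by rw [Subgroup.normalizer_eq_top]; exact le_top) h

theorem comm_le_of_centMod {Y X T : Subgroup L} (h : T ≤ centMod Y X) : ⁅Y, T⁆ ≤ X := by
  rw [Subgroup.commutator_comm]; exact comm_le_of_le_centMod h

/-- The three subgroup lemma modulo a normal subgroup. -/
theorem three_mod {A B C : Subgroup L} (X : Subgroup L) [X.Normal] (h1 : ⁅⁅B, C⁆, A⁆ ≤ X)
    (h2 : ⁅⁅C, A⁆, B⁆ ≤ X) : ⁅⁅A, B⁆, C⁆ ≤ X := by
  rw [← QuotientGroup.ker_mk' X, ← Subgroup.map_eq_bot_iff, Subgroup.map_commutator,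
    Subgroup.map_commutator] at h1 h2 ⊢
  exact Subgroup.commutator_commutator_eq_bot_of_rotate h1 h2

theorem commute_of_comm_mem {X : Subgroup L} [X.Normal] {a b : L} (h : ⁅a, b⁆ ∈ X) :
    Commute (QuotientGroup.mk' X a) (QuotientGroup.mk' X b) := by
  rw [← commutatorElement_eq_one_iff_commute, ← map_commutatorElement]
  exact (QuotientGroup.eq_one_iff _).2 h

variable [Finite L] [hp : Fact p.Prime]

/-- Coprime action on a section. -/
theorem coprime_comm (X : Subgroup L) [X.Normal] {Y : Subgroup L} (hY : IsPGroup p ↥Y) {e x : L}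
    (he : (orderOf e).Coprime p) (hc : ∀ y ∈ Y, ⁅e, y⁆ ∈ X) (hx : ⁅e, x⁆ ∈ Y) : ⁅e, x⁆ ∈ X := by
  have h1 := commute_of_stabilizes (hY.map (QuotientGroup.mk' X)) (k := QuotientGroup.mk' X e)
    (x := QuotientGroup.mk' X x)
    (by rintro _ ⟨y, hy, rfl⟩; exact commute_of_comm_mem (hc y hy))
    (n := orderOf e) (by rw [← map_pow, pow_orderOf_eq_one, map_one]) he
    ⟨_, hx, map_commutatorElement _ _ _⟩
  rw [← QuotientGroup.eq_one_iff]
  show QuotientGroup.mk' X ⁅e, x⁆ = 1
  rw [map_commutatorElement, commutatorElement_eq_one_iff_mul_comm]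
  exact h1

theorem le_centMod_residual {X Y : Subgroup L} [X.Normal] (h : ⁅Y, pResidual p L⁆ ≤ X) :
    pResidual p L ≤ centMod Y X :=
  le_centMod_top fun _ ht _ hy => commutator_mem_symm (h (Subgroup.commutator_mem_commutator hy ht))

theorem comm_le_of_step (X : Subgroup L) [X.Normal] {N Y : Subgroup L} (hY : IsPGroup p ↥Y)
    (h1 : ⁅Y, pResidual p L⁆ ≤ X) (h2 : ⁅N, pResidual p L⁆ ≤ Y) : ⁅N, pResidual p L⁆ ≤ X := by
  refine comm_le_of_centMod (Transfer.pResidual_le_iff.2 fun e he => ?_)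
  have heE := Transfer.mem_pResidual_of_coprime he
  exact ⟨by rw [Subgroup.normalizer_eq_top]; trivial, fun x hx => coprime_comm X hY he
    (fun y hy => commutator_mem_symm (h1 (Subgroup.commutator_mem_commutator hy heE)))
    (commutator_mem_symm (h2 (Subgroup.commutator_mem_commutator hx heE)))⟩

theorem comm_idem {N : Subgroup L} [N.Normal] (hN : IsPGroup p ↥N) :
    ⁅⁅N, pResidual p L⁆, pResidual p L⁆ = ⁅N, pResidual p L⁆ := by
  haveI : (pResidual p L).Normal := Transfer.pResidual_normal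
  haveI : (⁅N, pResidual p L⁆ : Subgroup L).Normal := Subgroup.commutator_normal _ _
  haveI : (⁅⁅N, pResidual p L⁆, pResidual p L⁆ : Subgroup L).Normal := Subgroup.commutator_normal _ _
  refine le_antisymm (Subgroup.commutator_le_left _ _) ?_
  exact comm_le_of_step _ (hN.to_le (Subgroup.commutator_le_left _ _)) le_rfl le_rfl

theorem comm_le_of_iter : ∀ (k : ℕ) (X : Subgroup L), X.Normal → X ≤ pCore p L →
    Cfsg.iterCommutator (pCore p L) ⊤ k ≤ X → ⁅pCore p L, pResidual p L⁆ ≤ X := by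
  haveI : (pResidual p L).Normal := Transfer.pResidual_normal
  intro k
  induction k with
  | zero =>
    intro X hX _ h
    exact (Subgroup.commutator_le_left _ _).trans h
  | succ k ih =>
    intro X hX hXQ h
    haveI := hX
    haveI : (Cfsg.iterCommutator (pCore p L) (⊤ : Subgroup L) k).Normal := normal_iterCommutator _ k
    have hIQ : Cfsg.iterCommutator (pCore p L) (⊤ : Subgroup L) k ≤ pCore p L := by
      clear ih h
      induction k with
      | zero => exact le_rfl
      | succ k ihk =>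
        haveI := normal_iterCommutator (pCore p L) k
        exact (Subgroup.commutator_le_left _ _).trans (ihk inferInstance)
    have hYQ : Cfsg.iterCommutator (pCore p L) ⊤ k ⊔ X ≤ pCore p L := sup_le hIQ hXQ
    refine comm_le_of_step X (Thompson.isPGroup_pCore.to_le hYQ) ?_
      (ih _ inferInstance hYQ le_sup_left)
    refine comm_le_of_le_centMod (sup_le (le_centMod_top fun y hy e _ =>
      h (Subgroup.commutator_mem_commutator hy (Subgroup.mem_top e))) (le_centMod_top fun y hy e _ =>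
        ?_))
    rw [commutatorElement_def, mul_assoc, mul_assoc]
    refine X.mul_mem hy ?_
    rw [← mul_assoc]
    exact hX.conj_mem _ (X.inv_mem hy) e

variable {F : Type} [Field F] [Fintype F] [CharP F p]

theorem upper_pow_eq_one (τ : F) : upper τ ^ p = 1 ∧ lower τ ^ p = 1 := by
  rw [PLocalB.upper_pow, PLocalB.lower_pow, CharP.cast_eq_zero, zero_mul, PLocalB.upper_zero,
    PLocalB.lower_zero]
  exact ⟨rfl, rfl⟩

theorem eq_zero_of_fixed {v : Fin 2 → F}
    (h : ∀ g ∈ commutator SL(2, F), (g : Matrix (Fin 2) (Fin 2) F).mulVec v = v) : v = 0 := by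
  by_contra hv
  set c := commutator SL(2, F)
  let U : AddSubgroup (Fin 2 → F) :=
    { carrier := {w | ∀ g ∈ c, (g : Matrix (Fin 2) (Fin 2) F).mulVec w = w}
      zero_mem' := fun g _ => Matrix.mulVec_zero _
      add_mem' := fun {a b} ha hb g hg => by rw [Matrix.mulVec_add, ha g hg, hb g hg]
      neg_mem' := fun {a} ha g hg => by rw [Matrix.mulVec_neg, ha g hg] }
  have htop : U = ⊤ := LAE65.Block.sl2_derived_span U (v := v) h hv fun g hg w hw k hk => by
    rw [hw g hg]; exact hw k hk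
  have hc : ∀ g ∈ c, g = 1 := fun g hg => Subtype.ext (Matrix.ext_of_mulVec_single fun j => by
    rw [Matrix.SpecialLinearGroup.coe_one, Matrix.one_mulVec]
    exact (htop.ge (AddSubgroup.mem_top (Pi.single j 1)) : _) g hg)
  have := hc _ (Subgroup.commutator_mem_commutator (Subgroup.mem_top (upper (1 : F)))
    (Subgroup.mem_top (lower (1 : F))))
  rw [commutatorElement_eq_one_iff_mul_comm] at this
  have h00 := congrArg (fun g : SL(2, F) => g 0 0) this
  simp [Matrix.mul_apply, Fin.sum_univ_two] at h00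

/-- The situation: a module `U` for the residual. -/
structure Rk (S : Sylow p L) (ρ : L →* SL(2, F)) (U : Subgroup L) : Prop where
  surj : Function.Surjective ρ
  ker : ρ.ker = pCore p L
  normal : U.Normal
  elem : IsElementaryAbelian p U
  le : U ≤ pCore p L
  cen : ∀ x ∈ pCore p L, ∀ u ∈ U, x * u = u * x
  comm : ⁅U, pResidual p L⁆ = U
  ne : U ≠ ⊥

namespace Rk

variable {S : Sylow p L} {ρ : L →* SL(2, F)} {U : Subgroup L} (h : Rk S ρ U)
include h

theorem residual_normal : (pResidual p L).Normal := Transfer.pResidual_normal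

theorem ρ_eq_one {x : L} : ρ x = 1 ↔ x ∈ pCore p L := by rw [← h.ker, MonoidHom.mem_ker]

theorem U_le_core : U ≤ ⁅pCore p L, pResidual p L⁆ :=
  h.comm.ge.trans (Subgroup.commutator_mono h.le le_rfl)

theorem core_le : ⁅pCore p L, pResidual p L⁆ ≤ pResidual p L ⊓ pCore p L := by
  haveI := h.residual_normal
  exact le_inf (Subgroup.commutator_le_right _ _) (Subgroup.commutator_le_left _ _)

theorem isPGroup_core : IsPGroup p ↥⁅pCore p L, pResidual p L⁆ :=
  Thompson.isPGroup_pCore.to_le (h.core_le.trans inf_le_right)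

theorem core_comm :
    ⁅⁅pCore p L, pResidual p L⁆, pResidual p L⁆ = ⁅pCore p L, pResidual p L⁆ :=
  comm_idem Thompson.isPGroup_pCore

variable {Wt : Subgroup L}

theorem normalClosure_sup (hdec : ∀ s ∈ (S : Subgroup L), ∃ w ∈ Wt, ∃ x ∈ pCore p L, s = w * x) :
    Subgroup.normalClosure (Wt : Set L) ⊔ pCore p L = ⊤ := by
  set N := Subgroup.normalClosure (Wt : Set L)
  haveI : (N.map ρ).Normal := Subgroup.Normal.map inferInstance ρ h.surj
  have hp' : ∀ g : SL(2, F), g ^ p = 1 → g ∈ N.map ρ := by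
    intro g hg
    have hP : IsPGroup p ↥(Subgroup.zpowers g) := by
      rintro ⟨_, j, rfl⟩
      exact ⟨1, Subtype.ext (by
        simp only [pow_one, SubmonoidClass.coe_pow, OneMemClass.coe_one]
        rw [← zpow_natCast, ← zpow_mul, mul_comm, zpow_mul, zpow_natCast, hg, one_zpow])⟩
    obtain ⟨R, hR⟩ := hP.exists_le_sylow
    obtain ⟨k, hk⟩ := MulAction.exists_smul_eq SL(2, F) (S.mapSurjective h.surj) R
    have hgR := hR (Subgroup.mem_zpowers g)
    rw [← hk, LocalEven61.sylow_smul_coe] at hgR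
    obtain ⟨_, ⟨s, hs, rfl⟩, rfl⟩ := hgR
    show k * ρ s * k⁻¹ ∈ _
    refine (inferInstance : (N.map ρ).Normal).conj_mem _ ?_ k
    obtain ⟨w, hw, x, hx, rfl⟩ := hdec s hs
    exact ⟨w, Subgroup.subset_normalClosure hw, by rw [map_mul, h.ρ_eq_one.2 hx, mul_one]⟩
  have htop : N.map ρ = ⊤ := PushUp62.eq_top_of_upper_lower
    (fun τ => hp' _ (upper_pow_eq_one τ).1) (fun τ => hp' _ (upper_pow_eq_one τ).2)
  rw [eq_top_iff]
  intro g _
  obtain ⟨m, hm, hme⟩ := htop.ge (Subgroup.mem_top (ρ g))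
  rw [show g = m * (m⁻¹ * g) by group]
  exact Subgroup.mul_mem_sup hm (h.ρ_eq_one.1 (by rw [map_mul, map_inv, hme, inv_mul_cancel]))

theorem residual_sup_sylow : pResidual p L ⊔ (S : Subgroup L) = ⊤ := by
  rw [sup_comm]; exact Transfer.sylow_sup_pResidual_eq_top S

/-- The image of the residual. -/
theorem map_residual (hdec : ∀ s ∈ (S : Subgroup L), ∃ w ∈ Wt, ∃ x ∈ pCore p L, s = w * x)
    (hWt : IsMulCommutative ↥Wt) : (pResidual p L).map ρ = commutator SL(2, F) := by
  haveI := h.residual_normal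
  apply le_antisymm
  · have hab : IsPGroup p (Abelianization SL(2, F)) := by
      let K : Subgroup SL(2, F) :=
        ((powMonoidHom p).comp (Abelianization.of : SL(2, F) →* Abelianization SL(2, F))).ker
      have hK : ∀ g : SL(2, F), g ^ p = 1 → g ∈ K := fun g hg => by
        show (Abelianization.of g) ^ p = 1
        rw [← map_pow, hg, map_one]
      have htop : K = ⊤ := PushUp62.eq_top_of_upper_lower
        (fun τ => hK _ (upper_pow_eq_one τ).1) (fun τ => hK _ (upper_pow_eq_one τ).2)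
      intro a
      obtain ⟨g, rfl⟩ := QuotientGroup.mk'_surjective (commutator SL(2, F)) a
      refine ⟨1, ?_⟩
      rw [pow_one]
      exact (htop.ge (Subgroup.mem_top g) : g ∈ K)
    rintro _ ⟨g, hg, rfl⟩
    rw [← Abelianization.ker_of, MonoidHom.mem_ker]
    exact MonoidHom.mem_ker.1
      (Transfer.pResidual_le_ker ((Abelianization.of : SL(2, F) →* _).comp ρ) hab hg)
  · haveI : ((pResidual p L).map ρ).Normal := Subgroup.Normal.map inferInstance ρ h.surj
    rw [commutator_def, Subgroup.commutator_le]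
    intro a _ b _
    have hrep : ∀ c : SL(2, F), ∃ w ∈ Wt, QuotientGroup.mk' ((pResidual p L).map ρ) (ρ w) =
        QuotientGroup.mk' ((pResidual p L).map ρ) c := by
      intro c
      obtain ⟨g, rfl⟩ := h.surj c
      obtain ⟨e, he, s, hs, rfl⟩ := (Subgroup.mem_sup_of_normal_left (t := (S : Subgroup L))).1
        ((residual_sup_sylow h).ge (Subgroup.mem_top g))
      obtain ⟨w, hw, x, hx, rfl⟩ := hdec s hs
      refine ⟨w, hw, ?_⟩
      rw [map_mul ρ, map_mul ρ, h.ρ_eq_one.2 hx, mul_one, map_mul,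
        show QuotientGroup.mk' ((pResidual p L).map ρ) (ρ e) = 1 from
          (QuotientGroup.eq_one_iff _).2 ⟨e, he, rfl⟩, one_mul]
    obtain ⟨u, hu, hua⟩ := hrep a
    obtain ⟨v, hv, hvb⟩ := hrep b
    rw [← QuotientGroup.eq_one_iff]
    show QuotientGroup.mk' _ ⁅a, b⁆ = 1
    rw [map_commutatorElement, ← hua, ← hvb, ← map_commutatorElement, ← map_commutatorElement,
      commutatorElement_eq_one_iff_mul_comm.2 (Thompson.elemAb_comm hWt hu hv), map_one, map_one]

/-- The residual meets `O_p` in the commutator. -/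
theorem inf_core (hdec : ∀ s ∈ (S : Subgroup L), ∃ w ∈ Wt, ∃ x ∈ pCore p L, s = w * x)
    (hWtS : Wt ≤ (S : Subgroup L)) (hWt : IsMulCommutative ↥Wt)
    (hWQ : ∀ w ∈ Wt, ∀ x ∈ pCore p L, ⁅w, x⁆ ∈ ⁅pCore p L, pResidual p L⁆) :
    pResidual p L ⊓ pCore p L = ⁅pCore p L, pResidual p L⁆ := by
  classical
  haveI := h.residual_normal
  set P := ⁅pCore p L, pResidual p L⁆ with hP
  haveI : P.Normal := Subgroup.commutator_normal _ _
  refine le_antisymm ?_ h.core_le
  set N := Subgroup.normalClosure (Wt : Set L) with hN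
  haveI := normal_centMod (Y := pCore p L) (X := P)
  have hNc : N ≤ centMod (pCore p L) P := Subgroup.normalClosure_le_normal (le_centMod_top hWQ)
  have hEN : pResidual p L ≤ N := by
    refine Transfer.pResidual_le_of_isPGroup_quotient ?_
    have hsurj : Function.Surjective ((QuotientGroup.mk' N).comp (pCore p L).subtype) := by
      intro y
      obtain ⟨g, rfl⟩ := QuotientGroup.mk'_surjective N y
      obtain ⟨n, hn, x, hx, rfl⟩ := (Subgroup.mem_sup_of_normal_left (t := pCore p L)).1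
        ((h.normalClosure_sup hdec).ge (Subgroup.mem_top g))
      exact ⟨⟨x, hx⟩, by
        rw [map_mul, show QuotientGroup.mk' N n = 1 from (QuotientGroup.eq_one_iff _).2 hn,
          one_mul]; rfl⟩
    exact (Thompson.isPGroup_pCore (p := p) (G := L)).of_surjective _ hsurj
  set E := pResidual p L with hE
  set E' := ↥E ⧸ P.subgroupOf E
  let mk : ↥E →* E' := QuotientGroup.mk' _
  set RE := ((S : Subgroup L) ⊓ E).subgroupOf E with hRE
  have hREp : IsPGroup p ↥RE := (S.2.to_le inf_le_left).comap_subtype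
  have hidx : ¬ p ∣ RE.index := by
    intro hdvd
    have h1 : RE.index = (S : Subgroup L).relIndex (S ⊔ E) := by
      show ((S : Subgroup L) ⊓ E).relIndex E = _
      have e1 := Subgroup.relIndex_mul_relIndex ((S : Subgroup L) ⊓ E) E (S ⊔ E) inf_le_right le_sup_right
      have e2 := Subgroup.relIndex_mul_relIndex ((S : Subgroup L) ⊓ E) S (S ⊔ E) inf_le_left le_sup_left
      rw [Subgroup.inf_relIndex_left, ← e1, sup_comm (S : Subgroup L) E,
        Subgroup.relIndex_sup_left, sup_comm E (S : Subgroup L), mul_comm (E.relIndex S)] at e2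
      exact (Nat.eq_of_mul_eq_mul_right (Nat.pos_of_ne_zero Subgroup.index_ne_zero_of_finite) e2).symm
    rw [h1] at hdvd
    exact S.not_dvd_index (hdvd.trans (Subgroup.relIndex_dvd_index_of_le le_sup_left))
  set R' := RE.map mk with hR'
  have hR'p : IsPGroup p ↥R' := hREp.map mk
  have hidx' : ¬ p ∣ R'.index := fun hdvd =>
    hidx (hdvd.trans (Subgroup.index_map_dvd RE (QuotientGroup.mk'_surjective _)))
  haveI : IsMulCommutative ↥R' := ⟨⟨fun a b => Subtype.ext (by
    obtain ⟨_, ⟨x, ⟨hxS, hxE⟩, rfl⟩⟩ := a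
    obtain ⟨_, ⟨y, ⟨hyS, hyE⟩, rfl⟩⟩ := b
    refine commute_of_comm_mem (show ⁅(x : L), (y : L)⁆ ∈ P from ?_)
    obtain ⟨u, hu, a, ha, hxa⟩ := hdec _ hxS
    obtain ⟨v, hv, c, hc, hyc⟩ := hdec _ hyS
    have hcent : ∀ {n z : L}, n ∈ N → z ∈ pCore p L → ⁅n, z⁆ ∈ P := fun hn hz => (hNc hn).2 _ hz
    rw [show ((x : ↥E) : L) = u * a from hxa, show ((y : ↥E) : L) = v * c from hyc]
    rw [← QuotientGroup.eq_one_iff]
    show QuotientGroup.mk' P ⁅u * a, v * c⁆ = 1
    rw [map_commutatorElement, map_mul, map_mul, commutatorElement_eq_one_iff_commute]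
    have haN : a ∈ N := by
      rw [show a = u⁻¹ * (x : L) by rw [show ((x : ↥E) : L) = u * a from hxa]; group]
      exact N.mul_mem (N.inv_mem (Subgroup.subset_normalClosure hu)) (hEN hxE)
    exact Commute.mul_left (Commute.mul_right (Commute.map (Thompson.elemAb_comm hWt hu hv) _)
        (commute_of_comm_mem (hcent (Subgroup.subset_normalClosure hu) hc)))
      (Commute.mul_right (commute_of_comm_mem (hcent (Subgroup.subset_normalClosure hv) ha)).symm
        (commute_of_comm_mem (hcent haN hc))))⟩⟩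
  intro z hz
  set zE : ↥E := ⟨z, hz.1⟩
  have hzc : ∀ g : E', g * mk zE = mk zE * g := fun g => by
    obtain ⟨g, rfl⟩ := QuotientGroup.mk'_surjective _ g
    refine commute_of_comm_mem (show ⁅(g : L), z⁆ ∈ P from ?_)
    exact commutator_mem_symm (Subgroup.commutator_mem_commutator hz.2 g.2)
  have hkey : ∀ (k : ℕ) (g₀ : E'), g₀⁻¹ * mk zE ^ k * g₀ ∈ R' →
      g₀⁻¹ * mk zE ^ k * g₀ = mk zE ^ k := fun k g₀ _ => by
    rw [mul_assoc, (show Commute g₀ (mk zE) from hzc g₀).pow_right k |>.eq.symm,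
      inv_mul_cancel_left]
  set f : E' →* ↥R' := MonoidHom.transfer (MonoidHom.id ↥R') with hf
  have h1 : (mk zE) ^ R'.index = 1 := by
    have e1 := MonoidHom.transfer_eq_pow (MonoidHom.id ↥R') (mk zE) hkey
    have e2 : f (mk zE) = 1 := DFunLike.congr_fun (show f.comp mk = 1 from MonoidHom.ext fun x =>
      Transfer.eq_one_of_pResidual_eq_top Transfer.pResidual_pResidual (f.comp mk) hR'p x) zE
    rw [hf, e1] at e2
    exact congrArg Subtype.val e2
  obtain ⟨i, hi⟩ := (Thompson.isPGroup_pCore (p := p) (G := L)) ⟨z, hz.2⟩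
  have h2 : (mk zE) ^ p ^ i = 1 := by
    rw [← map_pow, show zE ^ p ^ i = 1 from Subtype.ext (by simpa [zE] using congrArg Subtype.val hi),
      map_one]
  have h3 := pow_gcd_eq_one.2 ⟨h1, h2⟩
  rw [(Nat.Coprime.pow_right i
    (((Fact.out : p.Prime).coprime_iff_not_dvd.2 hidx').symm)).gcd_eq_one, pow_one] at h3
  exact (QuotientGroup.eq_one_iff zE).1 h3

omit h in
theorem fixed_eq_zero (hE : (pResidual p L).map ρ = commutator SL(2, F)) {v : Fin 2 → F}
    (hv : ∀ e ∈ pResidual p L, (ρ e : Matrix (Fin 2) (Fin 2) F).mulVec v = v) : v = 0 :=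
  eq_zero_of_fixed fun g hg => by
    rw [← hE] at hg
    obtain ⟨e, he, rfl⟩ := hg
    exact hv e he

/-- The relation of the module with the natural factor. -/
theorem natural {C V : Subgroup L} (D : NatFactor ρ V C) (hC : ⁅C, (⊤ : Subgroup L)⁆ = ⊥)
    (hUV : U ≤ V) : U ⊔ C = V ∧ ⁅V, pResidual p L⁆ ≤ U := by
  haveI := D.normY
  haveI := h.normal
  have hcz : ∀ c ∈ C, ∀ g : L, ⁅c, g⁆ = 1 := fun c hc g =>
    Subgroup.mem_bot.1 (hC ▸ Subgroup.commutator_mem_commutator hc (Subgroup.mem_top g))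
  refine ⟨(D.eq_or_eq _ inferInstance le_sup_right (sup_le hUV D.le)).resolve_left fun e => ?_, ?_⟩
  · apply h.ne
    rw [← h.comm, eq_bot_iff, Subgroup.commutator_le]
    exact fun u hu g _ => Subgroup.mem_bot.2 (hcz u (e.le (Subgroup.mem_sup_left hu)) g)
  · have hV : U ⊔ C = V := (D.eq_or_eq _ inferInstance le_sup_right (sup_le hUV D.le)).resolve_left
      fun e => h.ne (by
        rw [← h.comm, eq_bot_iff, Subgroup.commutator_le]
        exact fun u hu g _ => Subgroup.mem_bot.2 (hcz u (e.le (Subgroup.mem_sup_left hu)) g))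
    rw [← hV]
    refine comm_le_of_le_centMod (sup_le (le_centMod_top fun u hu e he => h.comm.le
      (Subgroup.commutator_mem_commutator hu he)) (le_centMod_top fun c hc e _ => ?_))
    rw [hcz c hc e]
    exact U.one_mem

theorem crd_fixed_iff {C V : Subgroup L} (D : NatFactor ρ V C) (hC : ⁅C, (⊤ : Subgroup L)⁆ = ⊥)
    (hUV : U ≤ V) (hE : (pResidual p L).map ρ = commutator SL(2, F)) {u : L} (hu : u ∈ U) :
    u ∈ C ↔ ∀ e ∈ pResidual p L, e * u = u * e := by
  refine ⟨fun hc e _ => ?_, fun hc => (D.crd_eq_zero (hUV hu)).1 (fixed_eq_zero hE fun e he => ?_)⟩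
  · exact (commutatorElement_eq_one_iff_mul_comm.1 (Subgroup.mem_bot.1
      (hC ▸ Subgroup.commutator_mem_commutator hc (Subgroup.mem_top e)))).symm
  · rw [← D.crd_conj e (hUV hu), mul_inv_eq_iff_eq_mul.2 (hc e he)]

theorem centralizing {C V : Subgroup L} (D : NatFactor ρ V C) (hC : ⁅C, (⊤ : Subgroup L)⁆ = ⊥)
    (hUV : U ≤ V) {x : L} (hx : ∀ u ∈ U, x * u = u * x) : x ∈ pCore p L := by
  haveI := D.normY
  refine h.ρ_eq_one.1 (Subtype.ext (Matrix.ext_of_mulVec_single fun j => ?_))
  obtain ⟨v, hv, hvj⟩ := D.crd_surj (Pi.single j 1)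
  obtain ⟨u, hu, c, hc, rfl⟩ := (Subgroup.mem_sup_of_normal_right (s := U) (t := C)).1
    ((h.natural D hC hUV).1.ge hv)
  rw [Matrix.SpecialLinearGroup.coe_one, Matrix.one_mulVec, ← hvj, ← D.crd_conj x hv]
  have hxc : x * c = c * x := (commutatorElement_eq_one_iff_mul_comm.1 (Subgroup.mem_bot.1
      (hC ▸ Subgroup.commutator_mem_commutator hc (Subgroup.mem_top x)))).symm
  rw [← mul_assoc, hx u hu, mul_assoc u, hxc, ← mul_assoc, mul_inv_cancel_right]

end Rk

end Cfsg.Agent.Block82
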