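import Cfsg.Agent.Lib.Thompson.Block.RankBase
import Cfsg.Agent.LAE62.SL2Three

/-!
The residual of a group with a rank one pushing up configuration is a block.
-/

set_option autoImplicit false
set_option linter.unusedSectionVars false
set_option linter.style.haveILetI false

namespace Cfsg.Agent.Block82

open Cfsg.Agent.PushUp62
open Cfsg.Agent.PLocalB (upper lower)
open scoped MatrixGroups commutatorElement

variable {L : Type*} [Group L] {p : ℕ} {F : Type} [Field F] [Fintype F]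

/-- The centre of the residual, inside it. -/
abbrev zE (p : ℕ) (L : Type*) [Group L] : Subgroup L :=
  pResidual p L ⊓ Subgroup.centralizer ((pResidual p L : Subgroup L) : Set L)

/-- The core of the residual. -/
abbrev coE (p : ℕ) (L : Type*) [Group L] : Subgroup L := ⁅pCore p L, pResidual p L⁆

/-- Coordinates of a normal subgroup on which the group acts through `ρ`. -/
structure Crd (ρ : L →* SL(2, F)) (X Y : Subgroup L) : Prop where
  ex : ∃ ψ : L → (Fin 2 → F), (∀ x ∈ X, ∀ y ∈ X, ψ (x * y) = ψ x + ψ y) ∧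
    (∀ v, ∃ x ∈ X, ψ x = v) ∧ (∀ x ∈ X, (ψ x = 0 ↔ x ∈ Y)) ∧
    ∀ (g : L), ∀ x ∈ X, ψ (g * x * g⁻¹) = (ρ g : Matrix (Fin 2) (Fin 2) F).mulVec (ψ x)

/-- The exceptional case. -/
structure Exc3 (p : ℕ) (S : Sylow p L) (ρ : L →* SL(2, F)) (U : Subgroup L) : Prop where
  p_eq : p = 3
  omega : omegaOneCenter p (coE p L) = U ⊔ zE p L
  der : ⁅coE p L, coE p L⁆ = zE p L
  frat : (frattini ↥(coE p L)).map (coE p L).subtype = zE p L
  card : Nat.card ↥(zE p L) = Nat.card F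
  zcen : zE p L ≤ Subgroup.center L
  crd : Crd ρ (coE p L) (U ⊔ zE p L)
  nonquad : ∀ s ∈ (S : Subgroup L), s ∉ pCore p L → ∃ a ∈ coE p L, ⁅⁅a, s⁆, s⁆ ∉ zE p L

/-- The residual is a block. -/
structure Blk (p : ℕ) (S : Sylow p L) (ρ : L →* SL(2, F)) (U : Subgroup L) : Prop where
  rho_E : (pResidual p L).map ρ = commutator SL(2, F)
  inf_eq : pResidual p L ⊓ pCore p L = coE p L
  crd : Crd ρ U (U ⊓ Subgroup.centralizer ((pResidual p L : Subgroup L) : Set L))
  cent : ∀ x : L, (∀ u ∈ U, x * u = u * x) → x ∈ pCore p L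
  wt : ∃ Wt : Subgroup L, Wt ≤ (S : Subgroup L) ∧ IsElementaryAbelian p Wt ∧
    (∀ s ∈ (S : Subgroup L), ∃ w ∈ Wt, ∃ x ∈ pCore p L, s = w * x) ∧
    ∀ w ∈ Wt, ∀ x ∈ pCore p L, ⁅w, x⁆ ∈ coE p L
  cases : coE p L = U ∨ Exc3 p S ρ U

variable [Finite L] [hp : Fact p.Prime] [CharP F p] {S : Sylow p L} {ρ : L →* SL(2, F)}
  {U : Subgroup L}

theorem Rk.crd_U (h : Rk S ρ U) {C V : Subgroup L} (D : NatFactor ρ V C)
    (hC : ⁅C, (⊤ : Subgroup L)⁆ = ⊥) (hUV : U ≤ V)
    (hE : (pResidual p L).map ρ = commutator SL(2, F)) :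
    Crd ρ U (U ⊓ Subgroup.centralizer ((pResidual p L : Subgroup L) : Set L)) := by
  haveI := D.normY
  refine ⟨D.crd, fun x hx y hy => D.crd_mul (hUV hx) (hUV hy), fun v => ?_, fun x hx => ?_,
    fun g x hx => D.crd_conj g (hUV hx)⟩
  · obtain ⟨x, hx, rfl⟩ := D.crd_surj v
    obtain ⟨u, hu, c, hc, rfl⟩ := (Subgroup.mem_sup_of_normal_right (s := U) (t := C)).1
      ((h.natural D hC hUV).1.ge hx)
    exact ⟨u, hu, by rw [D.crd_mul (hUV hu) (D.le hc), (D.crd_eq_zero (D.le hc)).2 hc, add_zero]⟩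
  · rw [D.crd_eq_zero (hUV hx), h.crd_fixed_iff D hC hUV hE hx]
    exact ⟨fun hc => ⟨hx, Subgroup.mem_centralizer_iff.2 hc⟩,
      fun hc => Subgroup.mem_centralizer_iff.1 hc.2⟩

theorem blk_one (h : Rk S ρ U) {C V Wt : Subgroup L} (D : NatFactor ρ V C)
    (hC : ⁅C, (⊤ : Subgroup L)⁆ = ⊥) (hcore : PushCore p S V Wt)
    (hQ : Cfsg.iterCommutator (Cfsg.pCore p L) ⊤ 2 ≤ V)
    (hWQ : ∀ w ∈ Wt, ∀ x ∈ Cfsg.pCore p L, ∃ v ∈ V, ⁅w, x⁆ = ⁅w, v⁆) :
    Blk p S ρ U := by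
  haveI := h.normal
  haveI := D.normY
  have hQV : coE p L ≤ V := comm_le_of_iter 2 V D.normX hcore.V_le hQ
  have hUV : U ≤ V := h.U_le_core.trans hQV
  obtain ⟨hV, hVE⟩ := h.natural D hC hUV
  have hP : coE p L = U := le_antisymm
    (h.core_comm.ge.trans ((Subgroup.commutator_mono hQV le_rfl).trans hVE)) h.U_le_core
  have hWU : ∀ w ∈ Wt, ∀ x ∈ pCore p L, ⁅w, x⁆ ∈ coE p L := fun w hw x hx => by
    obtain ⟨v, hv, e⟩ := hWQ w hw x hx
    obtain ⟨u, hu, c, hc, rfl⟩ := (Subgroup.mem_sup_of_normal_right (s := U) (t := C)).1 (hV.ge hv)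
    rw [hP, e, commutator_mul_right, show ⁅w, c⁆ = 1 by
      rw [← commutatorElement_inv c w, show ⁅c, w⁆ = 1 from Subgroup.mem_bot.1
        (hC ▸ Subgroup.commutator_mem_commutator hc (Subgroup.mem_top w)), inv_one],
      mul_one, mul_inv_cancel, mul_one, commutatorElement_def, mul_assoc, mul_assoc, ← mul_assoc w,
      ← mul_assoc]
    exact U.mul_mem (h.normal.conj_mem u hu w) (U.inv_mem hu)
  have hE := h.map_residual hcore.decomp hcore.Wt_elem.1
  exact ⟨hE, h.inf_core hcore.decomp hcore.Wt_le hcore.Wt_elem.1 hWU, h.crd_U D hC hUV hE,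
    fun x hx => h.centralizing D hC hUV hx,
    ⟨Wt, hcore.Wt_le, hcore.Wt_elem, hcore.decomp, hWU⟩, Or.inl hP⟩

theorem conj_comm_eq {U : Subgroup L} (hU : U.Normal) (hUc : ∀ a ∈ U, ∀ b ∈ U, a * b = b * a)
    {u e : L} (hu : u ∈ U) : ⁅u⁻¹, e⁆ = ⁅u, e⁆⁻¹ := by
  have h1 : ⁅u, e⁆⁻¹ ∈ U := U.inv_mem (by
    rw [commutatorElement_def, mul_assoc, mul_assoc, ← mul_assoc e]
    exact U.mul_mem hu (hU.conj_mem _ (U.inv_mem hu) e))
  rw [show ⁅u⁻¹, e⁆ = u⁻¹ * ⁅u, e⁆⁻¹ * u by simp only [commutatorElement_def]; group,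
    hUc _ (U.inv_mem hu) _ h1, inv_mul_cancel_right]

/-- The bilinear alternating invariant forms have small image. -/
theorem form_range {Z : Type*} [CommGroup Z] (hZ : ∀ z : Z, z ^ 3 = 1)
    (β : (Fin 2 → F) → (Fin 2 → F) → Z) (hl : ∀ u u' v, β (u + u') v = β u v * β u' v)
    (hr : ∀ u v v', β u (v + v') = β u v * β u v') (halt : ∀ u v, β v u = (β u v)⁻¹)
    (hinv : ∀ (g : SL(2, F)) u v, β ((g : Matrix (Fin 2) (Fin 2) F).mulVec u)
      ((g : Matrix (Fin 2) (Fin 2) F).mulVec v) = β u v) (u v : Fin 2 → F) :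
    ∃ c : F, β u v = β ![1, 0] ![0, c] := by
  have hz : ∀ z : Z, z * z = 1 → z = 1 := fun z h2 => by
    have := hZ z
    rwa [pow_succ, pow_two, h2, one_mul] at this
  have hzl : ∀ v, β 0 v = 1 := fun v => by
    have := hl 0 0 v
    rwa [add_zero, left_eq_mul] at this
  have hzr : ∀ u, β u 0 = 1 := fun u => by rw [halt, hzl, inv_one]
  have hnl : ∀ u v, β (-u) v = (β u v)⁻¹ := fun u v => eq_inv_of_mul_eq_one_left (by
    rw [← hl, neg_add_cancel, hzl])
  have hnr : ∀ u v, β u (-v) = (β u v)⁻¹ := fun u v => eq_inv_of_mul_eq_one_left (by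
    rw [← hr, neg_add_cancel, hzr])
  have h11 : ∀ a b : F, β ![a, 0] ![b, 0] = 1 := by
    intro a b
    have key : ∀ s : F, β ![s * a, 0] ![0, b] * β ![0, a] ![s * b, 0] *
        β ![s * a, 0] ![s * b, 0] = 1 := by
      intro s
      have e := hinv (upper s) ![0, a] ![0, b]
      have eu : ∀ x : F, (upper s : Matrix (Fin 2) (Fin 2) F).mulVec ![0, x] =
          ![0, x] + ![s * x, 0] := fun x => by
        ext i; fin_cases i <;> simp [Matrix.mulVec, dotProduct, Fin.sum_univ_two]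
      rw [eu, eu, hl, hr, hr, mul_assoc, mul_eq_left] at e
      rw [← e]
      ac_rfl
    have h1 := key 1
    have h2 := key (-1)
    simp only [one_mul] at h1
    simp only [neg_mul, one_mul] at h2
    rw [show ![-a, 0] = -![a, 0] by ext i; fin_cases i <;> simp,
      show ![-b, 0] = -![b, 0] by ext i; fin_cases i <;> simp, hnl, hnr, hnl, hnr, inv_inv] at h2
    apply hz
    calc β ![a, 0] ![b, 0] * β ![a, 0] ![b, 0]
        = (β ![a, 0] ![0, b] * β ![0, a] ![b, 0] * β ![a, 0] ![b, 0]) *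
          ((β ![a, 0] ![0, b])⁻¹ * (β ![0, a] ![b, 0])⁻¹ * β ![a, 0] ![b, 0]) := by
          rw [mul_mul_mul_comm, mul_mul_mul_comm (β ![a, 0] ![0, b]), mul_inv_cancel, one_mul,
            mul_inv_cancel, one_mul]
      _ = 1 := by rw [h1, h2, one_mul]
  have h22 : ∀ a b : F, β ![0, a] ![0, b] = 1 := fun a b => by
    have e := hinv LAE62.iMat ![0, a] ![0, b]
    have ew : ∀ x : F, ((LAE62.iMat : SL(2, F)) : Matrix (Fin 2) (Fin 2) F).mulVec ![0, x] = ![x, 0] := fun x => by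
      ext i; fin_cases i <;> simp [LAE62.iMat_coe, Matrix.mulVec, dotProduct, Fin.sum_univ_two]
    rw [ew, ew, h11] at e
    exact e.symm
  have h12 : ∀ a b : F, β ![a, 0] ![0, b] = β ![1, 0] ![0, a * b] := by
    intro a b
    rcases eq_or_ne a 0 with ha | ha
    · subst ha
      rw [show (![0, 0] : Fin 2 → F) = 0 by ext i; fin_cases i <;> simp, hzl, zero_mul,
        show (![0, 0] : Fin 2 → F) = 0 by ext i; fin_cases i <;> simp, hzr]
    · let t : SL(2, F) := ⟨!![a⁻¹, 0; 0, a], by simp [Matrix.det_fin_two, ha]⟩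
      have e := hinv t ![a, 0] ![0, b]
      have e1 : (t : Matrix (Fin 2) (Fin 2) F).mulVec ![a, 0] = ![1, 0] := by
        ext i; fin_cases i <;> simp [t, Matrix.mulVec, dotProduct, Fin.sum_univ_two, ha]
      have e2 : (t : Matrix (Fin 2) (Fin 2) F).mulVec ![0, b] = ![0, a * b] := by
        ext i; fin_cases i <;> simp [t, Matrix.mulVec, dotProduct, Fin.sum_univ_two]
      rw [e1, e2] at e
      exact e.symm
  refine ⟨u 0 * v 1 - v 0 * u 1, ?_⟩
  have hdec : ∀ w : Fin 2 → F, w = ![w 0, 0] + ![0, w 1] := fun w => by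
    ext i; fin_cases i <;> simp
  have hmid : ∀ c d : F, β ![1, 0] ![0, c - d] = β ![1, 0] ![0, c] * (β ![1, 0] ![0, d])⁻¹ := fun c d => by
    rw [← hnr, ← hr]
    congr 1
    ext i; fin_cases i <;> simp [sub_eq_add_neg]
  conv_lhs => rw [hdec u, hdec v]
  rw [hl, hr, hr, h11, h22, one_mul, mul_one, halt ![v 0, 0] ![0, u 1], h12 (u 0), h12 (v 0), hmid]

end Cfsg.Agent.Block82
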