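import Cfsg.Agent.Lib.Thompson.Block.RankOne

/-!
The exceptional case of rank one pushing up gives an exceptional block.
-/

set_option autoImplicit false
set_option linter.unusedSectionVars false
set_option linter.style.haveILetI false

namespace Cfsg.Agent.Block82

open Cfsg.Agent.PushUp62
open scoped MatrixGroups commutatorElement IsMulCommutative

variable {L : Type*} [Group L] [Finite L] {p : ℕ} [hp : Fact p.Prime]
  {F : Type} [Field F] [Fintype F] [CharP F p] {S : Sylow p L} {ρ : L →* SL(2, F)}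
  {U : Subgroup L}

theorem le_sup_elim {P X A : Subgroup L} [A.Normal] (h : A ≤ X) {w : L} (hw : w ∈ P ⊔ A) :
    ∃ a ∈ P, ∃ c ∈ A, c ∈ X ∧ w = a * c := by
  obtain ⟨a, ha, c, hc, rfl⟩ := (Subgroup.mem_sup_of_normal_right (s := P) (t := A)).1 hw
  exact ⟨a, ha, c, hc, h hc, rfl⟩

set_option maxHeartbeats 1000000 in
theorem blk_two (h : Rk S ρ U) {C V Wc W Wt : Subgroup L} (D : NatFactor ρ V C)
    (D' : NatFactor ρ W Wc) (hC : ⁅C, (⊤ : Subgroup L)⁆ = ⊥) (hcore : PushCore p S V Wt)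
    (hWc : ⁅Wc, (⊤ : Subgroup L)⁆ ≤ V)
    (hQ : Cfsg.iterCommutator (Cfsg.pCore p L) ⊤ 3 ≤ W) (hWle : W ≤ Cfsg.pCore p L)
    (hp3 : p = 3) (hW3 : ∀ w ∈ W, w ^ 3 = 1)
    (hX : ∃ a ∈ W, a ∉ Wc ∧ ∀ x ∈ Cfsg.pCore p L, ⁅x, a⁆ ∈ C)
    (hWcWt : ∀ c ∈ Wc, ∀ w ∈ Wt, ⁅c, w⁆ ∈ ⁅V, Wt⁆)
    (hVWtS : ∀ r ∈ ⁅V, Wt⁆, ∀ s ∈ (S : Subgroup L), s * r = r * s)
    (hdec : ∀ w ∈ Wt, ∀ x ∈ Cfsg.pCore p L, ∃ a ∈ W, ∃ r ∈ ⁅V, Wt⁆, ⁅w, x⁆ = ⁅w, a⁆ * r)
    (hdbl : ∀ w ∈ Wt, w ∉ Cfsg.pCore p L → ∃ a ∈ W, ⁅⁅a, w⁆, w⁆ ∉ C)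
    (hcount : ∃ a ∈ W, ∃ f : Fin (Nat.card F) → L, (∀ c ∈ Wc, a * c = c * a) ∧
      (∀ i, f i ∈ W ∧ ∀ c ∈ Wc, f i * c = c * f i) ∧ Function.Injective fun i => ⁅a, f i⁆) :
    Blk p S ρ U := by
  classical
  haveI := h.normal
  haveI := D.normX
  haveI := D.normY
  haveI := D'.normX
  haveI := D'.normY
  haveI hEn := h.residual_normal
  set E := pResidual p L
  set Q := pCore p L
  set P := coE p L
  haveI : P.Normal := Subgroup.commutator_normal _ _
  obtain ⟨a₀, ha₀, f, ha₀c, hf, hinj⟩ := hcount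
  have hq : 1 < Nat.card F := Finite.one_lt_card
  have hcz : ∀ c ∈ C, ∀ g : L, c * g = g * c := fun c hc g =>
    commutatorElement_eq_one_iff_mul_comm.1 (Subgroup.mem_bot.1
      (hC ▸ Subgroup.commutator_mem_commutator hc (Subgroup.mem_top g)))
  have hPW : P ≤ W := comm_le_of_iter 3 W D'.normX hWle hQ
  have hUP : U ≤ P := h.U_le_core
  have hPidem : ⁅P, E⁆ = P := h.core_comm
  -- `U ≤ Wc`
  have hUWc : U ≤ Wc := by
    by_contra hne
    have hW : U ⊔ Wc = W := (D'.eq_or_eq _ inferInstance le_sup_right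
      (sup_le (hUP.trans hPW) D'.le)).resolve_left fun e => hne (le_sup_left.trans e.le)
    have hUW : ∀ u ∈ U, ∀ w ∈ W, u * w = w * u := fun u hu w hw => (h.cen w (hWle hw) u hu).symm
    have hconst : ∀ b ∈ W, ⁅a₀, b⁆ = 1 := by
      intro b hb
      rw [← hW] at hb
      obtain ⟨u, hu, c, hc, rfl⟩ := (Subgroup.mem_sup_of_normal_right (s := U) (t := Wc)).1 hb
      rw [commutatorElement_eq_one_iff_mul_comm, ← mul_assoc, ← hUW u hu a₀ ha₀, mul_assoc,
        ha₀c c hc, mul_assoc]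
    have := hinj (a₁ := ⟨0, by omega⟩) (a₂ := ⟨1, hq⟩)
      (by show ⁅a₀, f _⁆ = ⁅a₀, f _⁆; rw [hconst _ (hf _).1, hconst _ (hf _).1])
    simp at this
  have hUV : U ≤ V := h.comm.ge.trans ((Subgroup.commutator_mono hUWc le_top).trans hWc)
  obtain ⟨hV, hVE⟩ := h.natural D hC hUV
  have hρE := h.map_residual hcore.decomp hcore.Wt_elem.1
  have hWcE : ⁅Wc, E⁆ ≤ U := comm_le_of_step U (Thompson.isPGroup_pCore.to_le hcore.V_le) hVE
    ((Subgroup.commutator_mono le_rfl le_top).trans hWc)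
  -- `W = P Wc`
  have hW : P ⊔ Wc = W := (D'.eq_or_eq _ inferInstance le_sup_right
    (sup_le hPW D'.le)).resolve_left fun e => by
      obtain ⟨w, hw, hwv⟩ := D'.crd_surj ![1, 0]
      have h0 : D'.crd w = 0 := Rk.fixed_eq_zero hρE fun g hg => by
        have hc : ⁅w, g⁆ ∈ Wc := e.le (Subgroup.mem_sup_left
          (Subgroup.commutator_mem_commutator (hWle hw) hg))
        have hc' : g * w * g⁻¹ = w * (w⁻¹ * (g * w * g⁻¹)) := by group
        have hc'' : w⁻¹ * (g * w * g⁻¹) ∈ Wc := by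
          have := (D'.normY).conj_mem _ (Wc.inv_mem hc) w⁻¹
          rwa [show w⁻¹ * ⁅w, g⁆⁻¹ * w⁻¹⁻¹ = w⁻¹ * (g * w * g⁻¹) by
            simp only [commutatorElement_def]; group] at this
        rw [← D'.crd_conj g hw, hc', D'.crd_mul hw (D'.le hc''),
          (D'.crd_eq_zero (D'.le hc'')).2 hc'', add_zero]
      rw [hwv] at h0
      simpa using congrFun h0 0
  have hdW : ∀ w ∈ W, ∃ x ∈ P, ∃ c ∈ Wc, w = x * c := fun w hw => by
    obtain ⟨x, hx, c, hc, e⟩ := (Subgroup.mem_sup_of_normal_right (s := P) (t := Wc)).1 (hW.ge hw)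
    exact ⟨x, hx, c, hc, e.symm⟩
  -- `[Q, P] ≤ C`
  have hQPC : ∀ x ∈ Q, ∀ a ∈ P, ⁅x, a⁆ ∈ C := by
    haveI := normal_centMod (Y := Q) (X := C)
    set X := W ⊓ centMod Q C with hXdef
    have hUX : U ≤ X := le_inf (hUP.trans hPW) (le_centMod_top fun u hu x hx => by
      rw [commutatorElement_eq_one_iff_mul_comm.2 (h.cen x hx u hu).symm]; exact C.one_mem)
    obtain ⟨a, ha, haWc, haQ⟩ := hX
    have haX : a ∈ X := ⟨ha, ⟨by rw [Subgroup.normalizer_eq_top]; trivial,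
      fun x hx => commutator_mem_symm (haQ x hx)⟩⟩
    have hXW : X ⊔ Wc = W := (D'.eq_or_eq _ inferInstance le_sup_right
      (sup_le inf_le_left D'.le)).resolve_left fun e => haWc (e.le (Subgroup.mem_sup_left haX))
    have hPX : P ≤ X := hPidem.ge.trans ((Subgroup.commutator_mono (hPW.trans hXW.ge) le_rfl).trans
      (comm_le_of_le_centMod (sup_le
        (le_centMod_top fun t ht e _ => by
          rw [commutatorElement_def, mul_assoc, mul_assoc, ← mul_assoc e]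
          exact X.mul_mem ht ((inferInstance : X.Normal).conj_mem _ (X.inv_mem ht) e))
        (le_centMod_top fun c hc e he => hUX (hWcE (Subgroup.commutator_mem_commutator hc he))))))
    exact fun x hx a' ha' => commutator_mem_symm ((hPX ha').2.2 x hx)
  have hPQ : P ≤ Q := hPW.trans hWle
  have hCbot : ∀ (T : Subgroup L), T ≤ C → ⁅T, E⁆ = ⊥ := fun T hT =>
    le_bot_iff.1 ((Subgroup.commutator_mono hT le_top).trans hC.le)
  -- `[P, Wc] = 1`
  have hPWc : ⁅P, Wc⁆ = ⊥ := by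
    refine le_bot_iff.1 (le_trans (Subgroup.commutator_mono hPidem.ge le_rfl) ?_)
    haveI : (⊥ : Subgroup L).Normal := inferInstance
    refine three_mod ⊥ ?_ ?_
    · refine Subgroup.commutator_le.2 fun u hu a ha => Subgroup.mem_bot.2 ?_
      rw [Subgroup.commutator_comm] at hu
      exact commutatorElement_eq_one_iff_mul_comm.2 (h.cen a (hPQ ha) u (hWcE hu)).symm
    · refine (hCbot _ (Subgroup.commutator_le.2 fun c hc a ha => hQPC c (hWle (D'.le hc)) a ha)).le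
  have hPc : ∀ a ∈ P, ∀ c ∈ Wc, a * c = c * a := fun a ha c hc =>
    commutatorElement_eq_one_iff_mul_comm.1
      (Subgroup.mem_bot.1 (hPWc ▸ Subgroup.commutator_mem_commutator ha hc))
  set Z0 := ⁅P, P⁆ with hZ0
  have hZ0C : Z0 ≤ C := Subgroup.commutator_le.2 fun a ha b hb => hQPC a (hPQ ha) b hb
  haveI : Z0.Normal := Subgroup.commutator_normal _ _
  have hZ0P : Z0 ≤ P := Subgroup.commutator_le_left _ _
  have hPQZ : ⁅P, Q⁆ ≤ Z0 := by
    refine le_trans (Subgroup.commutator_mono hPidem.ge le_rfl) (three_mod Z0 ?_ ?_)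
    · rw [Subgroup.commutator_comm E Q]
    · exact (hCbot _ (Subgroup.commutator_le.2 hQPC)).le.trans bot_le
  -- the central involution modulo the kernel
  have h3F : (3 : F) = 0 := by
    have := CharP.cast_eq_zero F p
    rw [hp3] at this
    exact_mod_cast this
  obtain ⟨e₀, he₀, hρe₀⟩ : ∃ e ∈ E, ρ e = -1 := hρE.ge (LAE62.neg_one_mem h3F)
  have hcom : ∀ g : L, ⁅e₀, g⁆ ∈ Q := fun g => h.ρ_eq_one.1 (by
    rw [map_commutatorElement, hρe₀, commutatorElement_eq_one_iff_mul_comm]; simp)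
  have hflip : ∀ g : L, ∃ x ∈ Q, e₀ * g * e₀⁻¹ = g * x := fun g => by
    refine ⟨g⁻¹ * (⁅e₀, g⁆ * g), ?_, by rw [commutatorElement_def]; group⟩
    simpa [mul_assoc] using Thompson.instPCoreNormal.conj_mem _ (hcom g) g⁻¹
  have hUab : ∀ a ∈ U, ∀ b ∈ U, a * b = b * a := fun a ha b hb =>
    Thompson.elemAb_comm h.elem.1 ha hb
  have hUC : ∀ u ∈ U, u ∈ C → u = 1 := by
    have hinv : ∀ u ∈ U, e₀ * u * e₀⁻¹ = u⁻¹ := by
      let I : Subgroup L :=
        { carrier := {u | u ∈ U ∧ e₀ * u * e₀⁻¹ = u⁻¹}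
          one_mem' := ⟨U.one_mem, by simp⟩
          mul_mem' := fun {a b} ha hb => ⟨U.mul_mem ha.1 hb.1, by
            rw [show e₀ * (a * b) * e₀⁻¹ = e₀ * a * e₀⁻¹ * (e₀ * b * e₀⁻¹) by group, ha.2, hb.2,
              mul_inv_rev, hUab _ (U.inv_mem ha.1) _ (U.inv_mem hb.1)]⟩
          inv_mem' := fun {a} ha => ⟨U.inv_mem ha.1, by
            rw [show e₀ * a⁻¹ * e₀⁻¹ = (e₀ * a * e₀⁻¹)⁻¹ by group, ha.2]⟩ }
      have hle : U ≤ I := h.comm.ge.trans (Subgroup.commutator_le.2 fun u hu g hg => by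
        refine ⟨h.comm.le (Subgroup.commutator_mem_commutator hu hg), ?_⟩
        set c := u * (e₀ * u * e₀⁻¹)
        have hu' : e₀ * u * e₀⁻¹ ∈ U := h.normal.conj_mem u hu e₀
        have hc : c ∈ C := by
          rw [← D.crd_eq_zero (hUV (U.mul_mem hu hu')), D.crd_mul (hUV hu) (hUV hu'),
            D.crd_conj e₀ (hUV hu), hρe₀]
          rw [Matrix.SpecialLinearGroup.coe_neg, Matrix.SpecialLinearGroup.coe_one, Matrix.neg_mulVec,
            Matrix.one_mulVec, add_neg_cancel]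
        obtain ⟨x, hx, hgx⟩ := hflip g
        rw [show e₀ * ⁅u, g⁆ * e₀⁻¹ = ⁅e₀ * u * e₀⁻¹, e₀ * g * e₀⁻¹⁆ by
          simp only [commutatorElement_def]; group, hgx,
          show e₀ * u * e₀⁻¹ = u⁻¹ * c by simp only [c]; group]
        have h1 : ⁅u⁻¹ * c, g * x⁆ = ⁅u⁻¹, g * x⁆ := by
          rw [commutator_mul_left, commutatorElement_eq_one_iff_mul_comm.2 (hcz c hc _), mul_one,
            mul_inv_cancel, one_mul]
        have h2 : ⁅u⁻¹, g * x⁆ = ⁅u⁻¹, g⁆ := by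
          rw [commutator_mul_right, commutatorElement_eq_one_iff_mul_comm.2
            (h.cen x hx _ (U.inv_mem hu)).symm, mul_one, mul_inv_cancel, mul_one]
        rw [h1, h2, conj_comm_eq h.normal hUab hu])
      exact fun u hu => (hle hu).2
    intro u hu hc
    have h1 := hinv u hu
    rw [← hcz u hc, mul_inv_cancel_right, eq_inv_iff_mul_eq_one] at h1
    have h2 := hW3 u (hPW (hUP hu))
    rwa [pow_succ, pow_two, h1, one_mul] at h2
  -- `P ∩ Wc = U Z0`
  set UZ := U ⊔ Z0 with hUZ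
  have hUZP : UZ ≤ P ⊓ Wc := le_inf (sup_le hUP hZ0P) (sup_le hUWc fun z hz => by
    have hzW : z ∈ W := hPW (hZ0P hz)
    rw [← D'.crd_eq_zero hzW]
    refine Rk.fixed_eq_zero hρE fun g _ => ?_
    rw [← D'.crd_conj g hzW, ← hcz z (hZ0C hz) g, mul_inv_cancel_right])
  haveI : UZ.Normal := Subgroup.sup_normal _ _
  have hPWcUZ : P ⊓ Wc ≤ UZ := by
    set mk := QuotientGroup.mk' UZ
    have hab : ∀ a ∈ P, ∀ b ∈ P, Commute (mk a) (mk b) := fun a ha b hb =>
      commute_of_comm_mem (Subgroup.mem_sup_right (Subgroup.commutator_mem_commutator ha hb))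
    have hPx : ∀ a ∈ P, ∀ x ∈ Q, Commute (mk a) (mk x) := fun a ha x hx =>
      commute_of_comm_mem (Subgroup.mem_sup_right (hPQZ (Subgroup.commutator_mem_commutator ha hx)))
    have hWcE' : ∀ c ∈ Wc, ∀ g ∈ E, Commute (mk c) (mk g) := fun c hc g hg =>
      commute_of_comm_mem (Subgroup.mem_sup_left (hWcE (Subgroup.commutator_mem_commutator hc hg)))
    let I : Subgroup L :=
      { carrier := {a | a ∈ P ∧ mk (e₀ * a * e₀⁻¹) = (mk a)⁻¹}
        one_mem' := ⟨P.one_mem, by simp⟩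
        mul_mem' := fun {a b} ha hb => ⟨P.mul_mem ha.1 hb.1, by
          rw [show e₀ * (a * b) * e₀⁻¹ = e₀ * a * e₀⁻¹ * (e₀ * b * e₀⁻¹) by group, map_mul, ha.2,
            hb.2, map_mul mk a b, mul_inv_rev, ((hab a ha.1 b hb.1).inv_inv).eq]⟩
        inv_mem' := fun {a} ha => ⟨P.inv_mem ha.1, by
          rw [show e₀ * a⁻¹ * e₀⁻¹ = (e₀ * a * e₀⁻¹)⁻¹ by group, map_inv, ha.2, map_inv]⟩ }
    have hle : P ≤ I := hPidem.ge.trans (Subgroup.commutator_le.2 fun y hy g hg => by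
      refine ⟨hPidem.le (Subgroup.commutator_mem_commutator hy hg), ?_⟩
      have hy' : e₀ * y * e₀⁻¹ ∈ P := (inferInstance : P.Normal).conj_mem y hy e₀
      obtain ⟨c, hc, hcP, hyc⟩ : ∃ c ∈ Wc, c ∈ P ∧ e₀ * y * e₀⁻¹ = y⁻¹ * c := by
        refine ⟨y * (e₀ * y * e₀⁻¹), ?_, P.mul_mem hy hy', by group⟩
        rw [← D'.crd_eq_zero (hPW (P.mul_mem hy hy')), D'.crd_mul (hPW hy) (hPW hy'),
          D'.crd_conj e₀ (hPW hy), hρe₀]
        rw [Matrix.SpecialLinearGroup.coe_neg, Matrix.SpecialLinearGroup.coe_one, Matrix.neg_mulVec,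
          Matrix.one_mulVec, add_neg_cancel]
      obtain ⟨x, hx, hgx⟩ := hflip g
      have hg' : ⁅y, g⁆ ∈ P := hPidem.le (Subgroup.commutator_mem_commutator hy hg)
      rw [show e₀ * ⁅y, g⁆ * e₀⁻¹ = ⁅e₀ * y * e₀⁻¹, e₀ * g * e₀⁻¹⁆ by
        simp only [commutatorElement_def]; group, hgx,
        hyc, map_commutatorElement,
        map_mul, map_mul, commutator_mul_left, commutator_mul_right,
        commutatorElement_eq_one_iff_commute.2 ((hWcE' c hc g hg)),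
        commutatorElement_eq_one_iff_commute.2 (hPx c hcP x hx),
        commutator_mul_right, commutatorElement_eq_one_iff_commute.2
          (hPx y⁻¹ (P.inv_mem hy) x hx)]
      simp only [mul_one, mul_inv_cancel, one_mul]
      rw [← map_commutatorElement, show ⁅y⁻¹, g⁆ = y⁻¹ * ⁅y, g⁆⁻¹ * y by
        simp only [commutatorElement_def]; group, map_mul, map_mul, map_inv mk ⁅y, g⁆,
        ((hab y⁻¹ (P.inv_mem hy) ⁅y, g⁆ hg').inv_right).eq, mul_assoc, ← map_mul,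
        inv_mul_cancel, map_one, mul_one])
    intro a ha
    rw [← QuotientGroup.eq_one_iff]
    show mk a = 1
    have h1 := (hle ha.1).2
    rw [map_mul, map_mul, ← (hWcE' a ha.2 e₀ he₀).eq, map_inv, mul_inv_cancel_right,
      eq_inv_iff_mul_eq_one] at h1
    have h2 : mk a ^ 3 = 1 := by rw [← map_pow, hW3 a (hPW ha.1), map_one]
    rwa [pow_succ, pow_two, h1, one_mul] at h2
  have hUZeq : P ⊓ Wc = UZ := le_antisymm hPWcUZ hUZP
  -- central elements
  have hUZc : ∀ a ∈ UZ, ∀ b ∈ P, a * b = b * a := fun a ha b hb =>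
    (hPc b hb a (hUZP ha).2).symm
  have hexp : ∀ a ∈ P, a ^ p = 1 := fun a ha => hp3 ▸ hW3 a (hPW ha)
  have hcZ : ∀ a ∈ W, (∀ c ∈ Wc, a * c = c * a) → ∀ x ∈ P, ∀ c ∈ Wc, a = x * c →
      ∀ d ∈ Wc, c * d = d * c := by
    intro a _ hac x hx c hc e d hd
    have h1 := hac d hd
    rw [e, mul_assoc, ← mul_assoc d x c, ← hPc x hx d hd, mul_assoc] at h1
    exact mul_left_cancel h1
  have hval : ∀ i, ∃ z ∈ Z0, z = ⁅a₀, f i⁆ := by
    intro i
    obtain ⟨x, hx, c, hc, ea⟩ := hdW a₀ ha₀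
    obtain ⟨y, hy, d, hd, eb⟩ := hdW (f i) (hf i).1
    have hcd := hcZ a₀ ha₀ ha₀c x hx c hc ea d hd
    refine ⟨⁅x, y⁆, Subgroup.commutator_mem_commutator hx hy, ?_⟩
    have c1 : ⁅c, y * d⁆ = 1 := by
      rw [commutatorElement_eq_one_iff_mul_comm, ← mul_assoc, ← hPc y hy c hc, mul_assoc, hcd,
        mul_assoc]
    have c2 : ⁅x, y * d⁆ = ⁅x, y⁆ := by
      rw [commutator_mul_right, commutatorElement_eq_one_iff_mul_comm.2 (hPc x hx d hd), mul_one,
        mul_inv_cancel, mul_one]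
    rw [ea, eb, commutator_mul_left, c1, c2, mul_one, mul_inv_cancel, one_mul]
  have hcard_ge : Nat.card F ≤ Nat.card ↥Z0 := by
    rw [← Nat.card_fin (Nat.card F)]
    refine Nat.card_le_card_of_injective (fun i => (⟨_, (hval i).choose_spec.1⟩ : ↥Z0))
      fun i j e => hinj ?_
    have e' := congrArg Subtype.val e
    simp only [(hval i).choose_spec.2, (hval j).choose_spec.2] at e'
    exact e'
  have hZ0ne : Z0 ≠ ⊥ := fun e => by rw [e, Subgroup.card_bot] at hcard_ge; omega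
  have hcenP : ∀ a ∈ P, (∀ b ∈ P, a * b = b * a) → a ∈ UZ := by
    intro a ha hac
    by_contra hne
    have haWc : a ∉ Wc := fun h' => hne (hPWcUZ ⟨ha, h'⟩)
    have hW' : (P ⊓ Subgroup.centralizer (P : Set L)) ⊔ Wc = W :=
      (D'.eq_or_eq _ inferInstance le_sup_right (sup_le (inf_le_left.trans hPW) D'.le)).resolve_left
        fun e => haWc (e.le (Subgroup.mem_sup_left
          ⟨ha, Subgroup.mem_centralizer_iff.2 fun b hb => (hac b hb).symm⟩))
    have hPC : P ≤ Subgroup.centralizer (P : Set L) := hPW.trans (hW'.ge.trans (sup_le inf_le_right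
      fun c hc => Subgroup.mem_centralizer_iff.2 fun b hb => hPc b hb c hc))
    exact hZ0ne (le_bot_iff.1 (Subgroup.commutator_le.2 fun x hx y hy => Subgroup.mem_bot.2
      (commutatorElement_eq_one_iff_mul_comm.2 (Subgroup.mem_centralizer_iff.1 (hPC hy) x hx))))
  have hWtQ : ∀ w ∈ Wt, ∀ x ∈ Q, ⁅w, x⁆ ∈ P := by
    have hVWt : ⁅V, Wt⁆ ≤ P := by
      refine le_trans ?_ hUP
      rw [← hV]
      refine comm_le_of_le_centMod (sup_le (le_centMod_top fun u hu w _ => ?_)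
        (le_centMod_top fun c hc w _ => ?_))
      · rw [commutatorElement_def, mul_assoc, mul_assoc, ← mul_assoc w]
        exact U.mul_mem hu (h.normal.conj_mem _ (U.inv_mem hu) w)
      · rw [commutatorElement_eq_one_iff_mul_comm.2 (hcz c hc w)]; exact U.one_mem
    intro w hw x hx
    obtain ⟨a, ha, r, hr, e⟩ := hdec w hw x hx
    obtain ⟨y, hy, c, hc, rfl⟩ := hdW a ha
    rw [e, commutator_mul_right]
    refine P.mul_mem (P.mul_mem ?_ ?_) (hVWt hr)
    · rw [commutatorElement_def]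
      exact P.mul_mem ((inferInstance : P.Normal).conj_mem y hy w) (P.inv_mem hy)
    · exact (inferInstance : P.Normal).conj_mem _
        (commutator_mem_symm (hVWt (hWcWt c hc w hw))) y
  have hEQ := h.inf_core hcore.decomp hcore.Wt_le hcore.Wt_elem.1 hWtQ
  have hzE : zE p L = Z0 := by
    refine le_antisymm (fun x hx => ?_) (le_inf (hZ0P.trans (h.core_le.trans inf_le_left))
      fun z hz => Subgroup.mem_centralizer_iff.2 fun g _ => (hcz z (hZ0C hz) g).symm)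
    have hUE : U ≤ E := hUP.trans (h.core_le.trans inf_le_left)
    have hxc : ∀ g ∈ E, g * x = x * g := Subgroup.mem_centralizer_iff.1 hx.2
    have hxP : x ∈ P := hEQ.le ⟨hx.1, h.centralizing D hC hUV fun u hu => (hxc u (hUE hu)).symm⟩
    have hxUZ := hcenP x hxP fun b hb => (hxc b (h.core_le hb).1).symm
    obtain ⟨u, hu, z, hz, rfl⟩ := (Subgroup.mem_sup_of_normal_right (s := U) (t := Z0)).1 hxUZ
    have huC : u ∈ C := (h.crd_fixed_iff D hC hUV hρE hu).2 fun g hg => by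
      have := hxc g hg
      rw [← mul_assoc, mul_assoc u, hcz z (hZ0C hz) g, ← mul_assoc] at this
      exact mul_right_cancel this
    rw [hUC u hu huC, one_mul]
    exact hz
  -- coordinates on the core
  have hcrdP : Crd ρ P UZ := by
    refine ⟨D'.crd, fun x hx y hy => D'.crd_mul (hPW hx) (hPW hy), fun v => ?_, fun x hx => ?_,
      fun g x hx => D'.crd_conj g (hPW hx)⟩
    · obtain ⟨w, hw, rfl⟩ := D'.crd_surj v
      obtain ⟨x, hx, c, hc, rfl⟩ := hdW w hw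
      exact ⟨x, hx, by
        rw [D'.crd_mul (hPW hx) (D'.le hc), (D'.crd_eq_zero (D'.le hc)).2 hc, add_zero]⟩
    · rw [D'.crd_eq_zero (hPW hx)]
      exact ⟨fun hc => hPWcUZ ⟨hx, hc⟩, fun hc => (hUZP hc).2⟩
  -- the upper bound
  have hcard_le : Nat.card ↥Z0 ≤ Nat.card F := by
    obtain ⟨ψ, hψm, hψs, hψ0, hψc⟩ := hcrdP.ex
    choose ℓ hℓ hℓv using hψs
    haveI : IsMulCommutative ↥Z0 := ⟨⟨fun a b => Subtype.ext (hcz a (hZ0C a.2) b)⟩⟩
    have hβ : ∀ a ∈ P, ∀ b ∈ P, ⁅a, b⁆ = ⁅ℓ (ψ a), ℓ (ψ b)⁆ := by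
      have key : ∀ a ∈ P, ∃ c ∈ UZ, a = ℓ (ψ a) * c := fun a ha => by
        refine ⟨(ℓ (ψ a))⁻¹ * a, (hψ0 _ (P.mul_mem (P.inv_mem (hℓ _)) ha)).1 ?_, by group⟩
        have h1 := hψm _ (P.inv_mem (hℓ (ψ a))) _ (hℓ (ψ a))
        rw [inv_mul_cancel, (hψ0 1 P.one_mem).2 UZ.one_mem, hℓv] at h1
        rw [hψm _ (P.inv_mem (hℓ _)) _ ha, ← h1]
      intro a ha b hb
      obtain ⟨c, hc, ea⟩ := key a ha
      obtain ⟨d, hd, eb⟩ := key b hb
      have c1 : ⁅c, b⁆ = 1 := commutatorElement_eq_one_iff_mul_comm.2 (hUZc c hc b hb)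
      have c2 : ⁅ℓ (ψ a), d⁆ = 1 :=
        commutatorElement_eq_one_iff_mul_comm.2 (hUZc d hd _ (hℓ _)).symm
      nth_rewrite 1 [ea]
      rw [commutator_mul_left, c1, mul_one, mul_inv_cancel, one_mul]
      nth_rewrite 1 [eb]
      rw [commutator_mul_right, c2, mul_one, mul_inv_cancel, mul_one]
    let β : (Fin 2 → F) → (Fin 2 → F) → ↥Z0 := fun u v =>
      ⟨⁅ℓ u, ℓ v⁆, Subgroup.commutator_mem_commutator (hℓ u) (hℓ v)⟩
    have hℓm : ∀ u v, ψ (ℓ u * ℓ v) = u + v := fun u v => by rw [hψm _ (hℓ u) _ (hℓ v), hℓv, hℓv]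
    have hrange := form_range (F := F) (Z := ↥Z0)
      (fun z => Subtype.ext (hW3 z (hPW (hZ0P z.2)))) β
      (fun u u' v => Subtype.ext (by
        show ⁅ℓ (u + u'), ℓ v⁆ = ⁅ℓ u, ℓ v⁆ * ⁅ℓ u', ℓ v⁆
        have := hβ _ (P.mul_mem (hℓ u) (hℓ u')) _ (hℓ v)
        rw [hℓm, hℓv] at this
        rw [← this, commutator_mul_left, ← hcz _ (hZ0C (Subgroup.commutator_mem_commutator (hℓ u') (hℓ v))) (ℓ u),
          mul_inv_cancel_right]
        exact hcz _ (hZ0C (Subgroup.commutator_mem_commutator (hℓ u') (hℓ v))) _))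
      (fun u v v' => Subtype.ext (by
        show ⁅ℓ u, ℓ (v + v')⁆ = ⁅ℓ u, ℓ v⁆ * ⁅ℓ u, ℓ v'⁆
        have := hβ _ (hℓ u) _ (P.mul_mem (hℓ v) (hℓ v'))
        rw [hℓm, hℓv] at this
        rw [← this, commutator_mul_right,
          ← hcz _ (hZ0C (Subgroup.commutator_mem_commutator (hℓ u) (hℓ v'))) (ℓ v),
          mul_inv_cancel_right]))
      (fun u v => Subtype.ext (by
        show ⁅ℓ v, ℓ u⁆ = ⁅ℓ u, ℓ v⁆⁻¹
        rw [commutatorElement_inv]))
      (fun A u v => Subtype.ext (by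
        obtain ⟨g, rfl⟩ := h.surj A
        show ⁅ℓ ((ρ g : Matrix (Fin 2) (Fin 2) F).mulVec u), ℓ ((ρ g : Matrix (Fin 2) (Fin 2) F).mulVec v)⁆
          = ⁅ℓ u, ℓ v⁆
        have := hβ _ ((inferInstance : P.Normal).conj_mem _ (hℓ u) g) _
          ((inferInstance : P.Normal).conj_mem _ (hℓ v) g)
        rw [hψc g _ (hℓ u), hψc g _ (hℓ v), hℓv, hℓv] at this
        rw [← this, ← conj_commutator,
          ← hcz _ (hZ0C (Subgroup.commutator_mem_commutator (hℓ u) (hℓ v))) g,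
          mul_inv_cancel_right]))
    let Φ : Multiplicative F →* L :=
      { toFun := fun c => (β ![1, 0] ![0, c.toAdd] : L)
        map_one' := by
          show ⁅ℓ _, ℓ ![0, 0]⁆ = 1
          have h0 : ℓ ![0, 0] ∈ UZ := (hψ0 _ (hℓ _)).1 (by
            rw [hℓv]; ext i; fin_cases i <;> simp)
          exact commutatorElement_eq_one_iff_mul_comm.2 (hUZc _ h0 _ (hℓ _)).symm
        map_mul' := fun c d => by
          have h1 : (![0, (c * d).toAdd] : Fin 2 → F) = ![0, c.toAdd] + ![0, d.toAdd] := by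
            ext i; fin_cases i <;> simp
          show ⁅ℓ _, ℓ _⁆ = ⁅ℓ _, ℓ _⁆ * ⁅ℓ _, ℓ _⁆
          rw [h1]
          have := hβ _ (hℓ ![1, 0]) _ (P.mul_mem (hℓ ![0, c.toAdd]) (hℓ ![0, d.toAdd]))
          rw [hℓm, hℓv] at this
          rw [← this, commutator_mul_right,
            ← hcz _ (hZ0C (Subgroup.commutator_mem_commutator (hℓ ![1, 0]) (hℓ ![0, d.toAdd]))),
            mul_inv_cancel_right] }
    have hZle : Z0 ≤ Φ.range := Subgroup.commutator_le.2 fun a ha b hb => by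
      obtain ⟨c, hc⟩ := hrange (ψ a) (ψ b)
      exact ⟨Multiplicative.ofAdd c, ((congrArg Subtype.val hc).symm.trans (hβ a ha b hb).symm : _)⟩
    refine (Subgroup.card_le_of_le hZle).trans ?_
    exact (Nat.card_le_card_of_surjective _ Φ.rangeRestrict_surjective).trans
      (Nat.card_congr Multiplicative.toAdd).le
  refine ⟨hρE, hEQ, h.crd_U D hC hUV hρE, fun x hx => h.centralizing D hC hUV hx,
    ⟨Wt, hcore.Wt_le, hcore.Wt_elem, hcore.decomp, hWtQ⟩, Or.inr ⟨hp3, ?_, hzE.symm, ?_, ?_,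
      fun z hz => Subgroup.mem_center_iff.2 fun g => (hcz z (hZ0C (hzE.le hz)) g).symm,
      hzE.symm ▸ hcrdP, fun s hs hsQ => ?_⟩⟩
  · rw [hzE]
    refine le_antisymm (fun x hx => ?_) fun x hx => Thompson.mem_omegaOne
      ⟨(hUZP hx).1, Subgroup.mem_centralizer_iff.2 fun b hb => (hUZc x hx b hb).symm⟩
      (hexp x (hUZP hx).1)
    have hx' := Thompson.omegaOne_le _ _ hx
    exact hcenP x hx'.1 fun b hb => (Subgroup.mem_centralizer_iff.1 hx'.2 b hb).symm
  · rw [hzE]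
    refine le_antisymm (LocalEven62.frattini_map_le_of h.isPGroup_core le_rfl fun x hx => ?_)
      (LocalEven62.commutator_le_frattini_map h.isPGroup_core)
    rw [hexp x hx]; exact Z0.one_mem
  · rw [hzE]; exact le_antisymm hcard_le hcard_ge
  · rw [hzE]
    obtain ⟨w, hw, x, hx, rfl⟩ := hcore.decomp s hs
    have hwQ : w ∉ Q := fun h' => hsQ (Q.mul_mem h' hx)
    obtain ⟨a, ha, hne⟩ := hdbl w hw hwQ
    obtain ⟨y, hy, c, hc, rfl⟩ := hdW a ha
    refine ⟨y, hy, fun hmem => hne (hZ0C ?_)⟩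
    have hwS := hcore.Wt_le hw
    set r := ⁅c, w⁆ with hr
    have hr' : r ∈ ⁅V, Wt⁆ := hWcWt c hc w hw
    have hrs : ∀ t ∈ (S : Subgroup L), Commute t r := fun t ht => hVWtS r hr' t ht
    have hyS : y ∈ (S : Subgroup L) := Thompson.pCore_le_sylow S (hPQ hy)
    have hywS : ⁅y, w⁆ ∈ (S : Subgroup L) :=
      mul_mem (mul_mem (mul_mem hyS hwS) (inv_mem hyS)) (inv_mem hwS)
    have e1 : ⁅y * c, w⁆ = r * ⁅y, w⁆ := by
      rw [commutator_mul_left, ← hr, (hrs y hyS).eq, mul_inv_cancel_right]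
    have e2 : ⁅⁅y * c, w⁆, w⁆ = ⁅⁅y, w⁆, w⁆ := by
      rw [e1, commutator_mul_left, commutatorElement_eq_one_iff_commute.2 (hrs w hwS).symm, mul_one]
      have h2 : Commute r ⁅⁅y, w⁆, w⁆ := (hrs _ (mul_mem (mul_mem (mul_mem hywS hwS) (inv_mem hywS))
        (inv_mem hwS))).symm
      rw [h2.eq, mul_inv_cancel_right]
    rw [e2]
    rw [← QuotientGroup.eq_one_iff]
    have h3 : QuotientGroup.mk' Z0 ⁅⁅y, w * x⁆, w * x⁆ = 1 := (QuotientGroup.eq_one_iff _).2 hmem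
    have hPx : ∀ b ∈ P, Commute (QuotientGroup.mk' Z0 b) (QuotientGroup.mk' Z0 x) := fun b hb =>
      commute_of_comm_mem (hPQZ (Subgroup.commutator_mem_commutator hb hx))
    have hyw : ⁅y, w⁆ ∈ P := by
      rw [commutatorElement_def, mul_assoc, mul_assoc, ← mul_assoc w]
      exact P.mul_mem hy ((inferInstance : P.Normal).conj_mem _ (P.inv_mem hy) w)
    rw [map_commutatorElement, map_commutatorElement, map_mul, commutator_mul_right,
      commutator_mul_right, commutatorElement_eq_one_iff_commute.2 (hPx y hy), mul_one,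
      mul_inv_cancel, mul_one, ← map_commutatorElement (QuotientGroup.mk' Z0) y w,
      commutatorElement_eq_one_iff_commute.2 (hPx _ hyw), mul_one, mul_inv_cancel, mul_one,
      ← map_commutatorElement] at h3
    exact h3

theorem exists_blk {n : ℕ} {K : Subgroup L} [K.Normal]
    (hs : LocalEven61.PUSetup S K F n)
    (hd : ∀ T : Subgroup ↥(S : Subgroup L), T ≠ ⊥ → T.Characteristic →
      ¬ (T.map (S : Subgroup L).subtype).Normal)
    (hn : U.Normal) (hel : IsElementaryAbelian p U) (hle : U ≤ pCore p L)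
    (hcen : ∀ x ∈ pCore p L, ∀ u ∈ U, x * u = u * x) (hcomm : ⁅U, pResidual p L⁆ = U)
    (hne : U ≠ ⊥) : ∃ ρ : L →* SL(2, F), Function.Surjective ρ ∧ ρ.ker = pCore p L ∧ Blk p S ρ U := by
  obtain ⟨ρ, hρ, hker, hout⟩ := pushing_up_ext hs hd
  have h : Rk S ρ U := ⟨hρ, hker, hn, hel, hle, hcen, hcomm, hne⟩
  refine ⟨ρ, hρ, hker, ?_⟩
  cases hout with
  | one C V Wt D hC hcore hQ hWQ => exact blk_one h D hC hcore hQ hWQ
  | two C V Wc W Wt D D' hC hcore hWc hVW hQ hWle hp3 hW3 hX hWcWt hVWtS hdec hdbl hcount =>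
    exact blk_two h D D' hC hcore hWc hQ hWle hp3 hW3 hX hWcWt hVWtS hdec hdbl hcount

end Cfsg.Agent.Block82
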