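import Cfsg.Agent.Lib.Thompson.Block.Basic
import Cfsg.Agent.Lib.Thompson.Block.Line
import Cfsg.Agent.Lib.Thompson.Block.RankTwo

/-!
The rank one subgroup attached to a member, and its pushing up configuration.
-/

set_option autoImplicit false
set_option linter.style.haveILetI false
set_option linter.unusedSectionVars false

open Cfsg
open scoped commutatorElement MatrixGroups

namespace Cfsg.Agent.Block82

open Cfsg.Agent.FFPM

variable {p : ℕ} {G : Type*} [Group G] [Finite G] [hp : Fact p.Prime]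

/-- A rank one subgroup for a member. -/
structure IsRoot (T : Sylow p G) (q : ℕ) (A : Subgroup (Bar p G)) (L : Subgroup G) : Prop where
  mem : A ∈ mems (Mod p G) q (Tbar T) 1
  B_le : baumannSubgroupOf p (T : Subgroup G) ≤ L
  map_eq : L.map (pr p) = sSup (line (Mod p G) q (Tbar T) 1 A) ⊔ oth (Mod p G) q (Tbar T) A
  min : ∀ X : Subgroup G, baumannSubgroupOf p (T : Subgroup G) ≤ X → X ≤ L →
    X.map (pr p) = L.map (pr p) → X = L
  sylow : ∀ P : Subgroup G, IsPGroup p ↥P → baumannSubgroupOf p (T : Subgroup G) ≤ P → P ≤ L →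
    P ≤ baumannSubgroupOf p (T : Subgroup G)

namespace Ctx

variable {T : Sylow p G} {M : Subgroup G} {q : ℕ} (h : Ctx T M q)
include h

local notation "𝐁" => baumannSubgroupOf p (T : Subgroup G)

theorem B_isPGroup : IsPGroup p ↥(𝐁) := T.isPGroup'.to_le (LAE65.Block.baumann_le _)

theorem om_le_inf_core : Om p G ≤ 𝐁 ⊓ pCore p G := le_sup_left.trans h.Y_le_inf_core

theorem exists_root {A : Subgroup (Bar p G)} (hA : A ∈ mems (Mod p G) q (Tbar T) 1) :
    ∃ L, IsRoot T q A L := by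
  obtain ⟨Y₀, hY₀, hne⟩ := h.conf.exists_other hA
  obtain ⟨Z, hZ, hZY, hZA⟩ := h.conf.exists_third hA (Y := A) hY₀
  obtain ⟨x, -, hx⟩ := h.conf.orbit_line hA hZ (h.conf.self_mem_line hA) hY₀ hZA (Ne.symm hZY)
  obtain ⟨g, rfl⟩ := pr_surjective x
  set JA := thompsonSubgroupOf p (T : Subgroup G) ⊓ A.comap (pr p) with hJA
  have hJAmap : JA.map (pr p) = A := by
    refine le_antisymm ?_ fun a ha => ?_
    · rintro _ ⟨j, hj, rfl⟩; exact hj.2
    · obtain ⟨j, hj, rfl⟩ := h.map_J.ge (h.conf.mem_le_roots hA ha)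
      exact ⟨j, ⟨hj, ha⟩, rfl⟩
  set K := FFSL2.cj g JA with hK
  have hKmap : K.map (pr p) = Y₀ := by
    rw [hx, ← hJAmap, hK, FFSL2.cj, FFSL2.cj, Subgroup.map_map, Subgroup.map_map]
    congr 1
  set S := sSup (line (Mod p G) q (Tbar T) 1 A)
  set O := oth (Mod p G) q (Tbar T) A
  set L₀ := 𝐁 ⊔ K with hL₀
  have hmap₀ : L₀.map (pr p) = S ⊔ O := by
    rw [hL₀, Subgroup.map_sup, h.map_B, hKmap]
    refine le_antisymm (sup_le (h.conf.roots_le_line hA) ((le_sSup hY₀).trans le_sup_left))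
      (sup_le ?_ ((h.conf.oth_le_roots hA).trans le_sup_left))
    rw [show S = A ⊔ Y₀ from h.conf.sSup_line hA (h.conf.self_mem_line hA) hY₀ hne]
    exact sup_le ((h.conf.mem_le_roots hA).trans le_sup_left) le_sup_right
  have hcY : L₀ ⊓ cen p G ≤ Subgroup.centralizer (h.Y : Set G) := by
    intro c hc
    refine Subgroup.mem_centralizer_iff.2 ?_
    have hcs : h.Y ≤ Subgroup.centralizer {c} := by
      refine sup_le (fun o ho => Subgroup.mem_centralizer_singleton_iff.2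
        (Subgroup.mem_centralizer_iff.1 hc.2 o ho)) fun z1 hz1 => ?_
      haveI := h.Y_normal
      have hz' : g⁻¹ * z1 * g ∈ h.Y := by
        simpa using h.Y_normal.conj_mem z1 (Subgroup.mem_sup_right hz1) g⁻¹
      obtain ⟨o, ho, z, hz, e⟩ := (Subgroup.mem_sup_of_normal_left (t := h.zJ)).1 hz'
      set o₁ := g * o⁻¹ * g⁻¹ with ho₁
      have ho₁' : o₁ ∈ Om p G := (om_normal p G).conj_mem _ (inv_mem ho) g
      have hw : o₁ * z1 = g * z * g⁻¹ := by
        calc o₁ * z1 = g * (o⁻¹ * (g⁻¹ * z1 * g)) * g⁻¹ := by rw [ho₁]; group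
          _ = g * z * g⁻¹ := by rw [← e, inv_mul_cancel_left]
      obtain ⟨u, hu, hou⟩ := h.conf.exists_sub_mem_point hA hY₀ hne (vc ho₁')
      set w := cv (vc ho₁' - u) with hw'
      have hsplit : o₁ = w * cv u := by
        rw [hw', ← cv_add, sub_add_cancel, cv_vc]
      have hzs : cv u * z1 ∈ Subgroup.centralizer (L₀ : Set G) := by
        rw [Subgroup.mem_centralizer_iff]
        have hle : L₀ ≤ Subgroup.centralizer {cv u * z1} := sup_le
          (fun b hb => Subgroup.mem_centralizer_singleton_iff.2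
            (Subgroup.mem_centralizer_iff.1 hb.2 _ (mul_mem (h.fix_roots_le_zJ hu) hz1)).symm)
          fun k hk => Subgroup.mem_centralizer_singleton_iff.2 (by
            have h1 : k * w = w * k := by
              rw [← hKmap, mem_fix_map] at hou
              exact Subgroup.mem_centralizer_iff.1 hou k hk
            have h2 : k * (o₁ * z1) = o₁ * z1 * k := by
              rw [hw]
              have h3 : g⁻¹ * k * g * z = z * (g⁻¹ * k * g) := by
                have hj : g⁻¹ * k * g ∈ JA := FFSL2.mem_cj.1 hk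
                exact Subgroup.mem_centralizer_iff.1 (Thompson.omegaOne_le p _ hz).2 _ hj.1
              calc k * (g * z * g⁻¹) = g * (g⁻¹ * k * g * z) * g⁻¹ := by group
                _ = g * (z * (g⁻¹ * k * g)) * g⁻¹ := by rw [h3]
                _ = g * z * g⁻¹ * k := by group
            rw [hsplit, mul_assoc, ← mul_assoc k, h1, mul_assoc, mul_assoc] at h2
            exact mul_left_cancel h2)
        exact fun x hx => Subgroup.mem_centralizer_singleton_iff.1 (hle hx)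
      have hcz : c * (cv u * z1) = cv u * z1 * c := Subgroup.mem_centralizer_iff.1 hzs c hc.1
      have hcu : cv u * c = c * cv u := Subgroup.mem_centralizer_iff.1 hc.2 _ (cv_mem u)
      refine Subgroup.mem_centralizer_singleton_iff.2 ?_
      rw [← mul_assoc, ← hcu, mul_assoc, mul_assoc] at hcz
      exact (mul_left_cancel hcz).symm
    exact fun y hy => Subgroup.mem_centralizer_singleton_iff.1 (hcs hy)
  have hsyl : ∀ P : Subgroup G, IsPGroup p ↥P → 𝐁 ≤ P → P ≤ L₀ → P ≤ 𝐁 := by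
    intro P hP hBP hPL x hx
    have hPm : pr p x ∈ S ⊔ O := hmap₀.le ⟨x, hPL hx, rfl⟩
    obtain ⟨s, hs, d, hd, e⟩ := mem_sup_of_com (h.conf.com_oth hA) hPm
    have hR : roots (Mod p G) q (Tbar T) ≤ P.map (pr p) := h.map_B.ge.trans (Subgroup.map_mono hBP)
    have hsR : s ∈ P.map (pr p) := by
      rw [show s = pr p x * d⁻¹ by rw [e, mul_inv_cancel_right]]
      exact mul_mem ⟨x, hx, rfl⟩ (inv_mem (hR (h.conf.oth_le_roots hA hd)))
    have hsA := h.conf.mem_of_pgroup hA (hP.map _) ((h.conf.mem_le_roots hA).trans hR) hs hsR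
    obtain ⟨b, hb, eb⟩ := h.map_B.ge (show pr p x ∈ roots (Mod p G) q (Tbar T) from
      e ▸ mul_mem (h.conf.mem_le_roots hA hsA) (h.conf.oth_le_roots hA hd))
    have hc : b⁻¹ * x ∈ P ⊓ cen p G :=
      ⟨P.mul_mem (P.inv_mem (hBP hb)) hx, pr_eq_one.1 (by rw [map_mul, map_inv, eb, inv_mul_cancel])⟩
    have hcB : b⁻¹ * x ∈ 𝐁 ⊓ pCore p G := by
      rw [h.inf_core]
      exact ⟨h.pgroup_le_cen (hP.to_le inf_le_left) inf_le_right hc,
        hcY ⟨hPL hc.1, hc.2⟩⟩
    rw [show x = b * (b⁻¹ * x) by group]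
    exact mul_mem hb hcB.1
  obtain ⟨L, ⟨hBL, hLL, hLmap⟩, hmin⟩ := Set.exists_min_image
    {X : Subgroup G | 𝐁 ≤ X ∧ X ≤ L₀ ∧ X.map (pr p) = S ⊔ O} (fun X => Nat.card ↥X)
    (Set.toFinite _) ⟨L₀, le_sup_left, le_rfl, hmap₀⟩
  exact ⟨L, hA, hBL, hLmap, fun X hBX hXL hXm => Subgroup.eq_of_le_of_card_ge hXL
    (hmin X ⟨hBX, hXL.trans hLL, hXm.trans hLmap⟩), fun P hP hBP hPL => hsyl P hP hBP (hPL.trans hLL)⟩

end Ctx

namespace IsRoot

variable {T : Sylow p G} {M : Subgroup G} {q : ℕ} {A : Subgroup (Bar p G)} {L : Subgroup G}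
  (hL : IsRoot T q A L) (h : Ctx T M q)
include hL h

local notation "𝐁" => baumannSubgroupOf p (T : Subgroup G)

theorem sup_top : L ⊔ (T : Subgroup G) = ⊤ := by
  refine h.sup_eq_top le_sup_right ?_
  rw [Subgroup.map_sup, hL.map_eq, eq_top_iff, ← h.conf.line_sup_sylow hL.mem]
  exact sup_le_sup_right le_sup_left _

theorem unique_max :
    ∃! M₁ : Subgroup ↥L, IsCoatom M₁ ∧ (𝐁).subgroupOf L ≤ M₁ := by
  set S := sSup (line (Mod p G) q (Tbar T) 1 A)
  set O := oth (Mod p G) q (Tbar T) A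
  obtain ⟨Y₀, hY₀, hne⟩ := h.conf.exists_other hL.mem
  set NA : Subgroup G := L ⊓ (Subgroup.normalizer (A : Set (Bar p G))).comap (pr p)
  have hO : ∀ d ∈ O, d ∈ Subgroup.normalizer (A : Set (Bar p G)) := fun d hd =>
    PushUp62.mem_normalizer_of_cj_eq (com_mem_cj_eq fun a ha =>
      (h.conf.com_oth hL.mem a (le_sSup (s := line (Mod p G) q (Tbar T) 1 A)
        (h.conf.self_mem_line hL.mem) ha) d hd).symm)
  have hBN : 𝐁 ≤ NA := fun b hb => by
    refine ⟨hL.B_le hb, ?_⟩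
    show pr p b ∈ Subgroup.normalizer (A : Set (Bar p G))
    have := h.map_B.le ⟨b, hb, rfl⟩
    rw [h.conf.roots_eq_oth hL.mem] at this
    exact (sup_le Subgroup.le_normalizer hO : A ⊔ O ≤ _) this
  have hne' : ¬ L ≤ NA := fun hle => by
    obtain ⟨Z, hZ, hZY, hZA⟩ := h.conf.exists_third hL.mem (Y := A) hY₀
    obtain ⟨z, hz, e⟩ := h.conf.orbit_line hL.mem hZ (h.conf.self_mem_line hL.mem) hY₀ hZA
      (Ne.symm hZY)
    obtain ⟨l, hl, rfl⟩ := hL.map_eq.ge (Subgroup.mem_sup_left (le_sSup hZ hz))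
    exact hne (by rw [e, FFPM.cj_eq_of_mem_normalizer (hle hl).2])
  have key : ∀ X : Subgroup G, 𝐁 ≤ X → X ≤ L → X ≠ L → X ≤ NA := by
    intro X hBX hXL hXne x hx
    have hR : roots (Mod p G) q (Tbar T) ≤ X.map (pr p) := h.map_B.ge.trans (Subgroup.map_mono hBX)
    have hXS : X.map (pr p) ≤ S ⊔ O := (Subgroup.map_mono hXL).trans hL.map_eq.le
    rcases h.conf.line_dichotomy hL.mem (K := X.map (pr p) ⊓ S) inf_le_right
      (le_inf ((h.conf.mem_le_roots hL.mem).trans hR)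
        (le_sSup (s := line (Mod p G) q (Tbar T) 1 A) (h.conf.self_mem_line hL.mem))) with hfix | htop
    · refine ⟨hXL hx, ?_⟩
      show pr p x ∈ Subgroup.normalizer (A : Set (Bar p G))
      obtain ⟨s, hs, d, hd, e⟩ := mem_sup_of_com (h.conf.com_oth hL.mem) (hXS ⟨x, hx, rfl⟩)
      have hsX : s ∈ X.map (pr p) := by
        rw [show s = pr p x * d⁻¹ by rw [e, mul_inv_cancel_right]]
        exact mul_mem ⟨x, hx, rfl⟩ (inv_mem (hR (h.conf.oth_le_roots hL.mem hd)))
      rw [e]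
      exact mul_mem (PushUp62.mem_normalizer_of_cj_eq (hfix s ⟨hsX, hs⟩)) (hO d hd)
    · refine absurd (hL.min X hBX hXL (le_antisymm (Subgroup.map_mono hXL) ?_)) hXne
      rw [hL.map_eq]
      exact sup_le (htop.ge.trans inf_le_left) ((h.conf.oth_le_roots hL.mem).trans hR)
  have hmap : ∀ X : Subgroup ↥L, (𝐁).subgroupOf L ≤ X → X ≠ ⊤ → X ≤ NA.subgroupOf L := by
    intro X hBX hXt x hx
    refine key (X.map L.subtype) ?_ (Subgroup.map_subtype_le _) ?_ ⟨x, hx, rfl⟩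
    · intro b hb; exact ⟨⟨b, hL.B_le hb⟩, hBX hb, rfl⟩
    · intro e
      refine hXt (Subgroup.map_injective L.subtype_injective ?_)
      rw [e, ← MonoidHom.range_eq_map, Subgroup.range_subtype]
  have hNt : NA.subgroupOf L ≠ ⊤ := fun e => hne' fun l hl =>
    (show (⟨l, hl⟩ : ↥L) ∈ NA.subgroupOf L from e.ge (Subgroup.mem_top _))
  have hBN' : (𝐁).subgroupOf L ≤ NA.subgroupOf L := fun b hb => hBN hb
  refine ⟨NA.subgroupOf L, ⟨⟨hNt, fun X hX => ?_⟩, hBN'⟩, fun X ⟨hX, hBX⟩ => ?_⟩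
  · by_contra hXt
    exact not_le_of_gt hX (hmap X (hBN'.trans hX.le) hXt)
  · exact (eq_or_lt_of_le (hmap X hBX hX.1)).elim id fun h' => absurd (hX.2 _ h') hNt

theorem inf_core_le : (𝐁 ⊓ pCore p G).subgroupOf L ≤ pCore p ↥L :=
  le_sSup ⟨(h.inf_core_normal).subgroupOf L,
    ((h.B_isPGroup).to_le inf_le_left).comap_subtype⟩

theorem charP : Subgroup.centralizer (pCore p ↥L : Set ↥L) ≤ pCore p ↥L := fun x hx => by
  refine hL.inf_core_le h (Subgroup.mem_subgroupOf.2 (h.centralizer_inf_core ?_))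
  refine Subgroup.mem_centralizer_iff.2 fun y hy => ?_
  have hyL : y ∈ L := hL.B_le hy.1
  exact congrArg Subtype.val (Subgroup.mem_centralizer_iff.1 hx ⟨y, hyL⟩
    (hL.inf_core_le h (Subgroup.mem_subgroupOf.2 hy)))

theorem exists_sylow : ∃ S : Sylow p ↥L, (S : Subgroup ↥L) = (𝐁).subgroupOf L := by
  obtain ⟨S, hS⟩ := ((h.B_isPGroup).comap_subtype (K := L)).exists_le_sylow
  refine ⟨S, le_antisymm (fun x hx => ?_) hS⟩
  refine hL.sylow ((S : Subgroup ↥L).map L.subtype) (S.2.map _) ?_ (Subgroup.map_subtype_le _)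
    ⟨x, hx, rfl⟩
  exact fun b hb => ⟨⟨b, hL.B_le hb⟩, hS hb, rfl⟩

theorem not_char_normal {S : Sylow p ↥L} (hS : (S : Subgroup ↥L) = (𝐁).subgroupOf L)
    (T₀ : Subgroup ↥(S : Subgroup ↥L)) (hne : T₀ ≠ ⊥) (hchar : T₀.Characteristic) :
    ¬ (T₀.map (S : Subgroup ↥L).subtype).Normal := by
  intro hn
  let e : ↥(S : Subgroup ↥L) ≃* ↥(𝐁) :=
    (MulEquiv.subgroupCongr hS).trans (Subgroup.subgroupOfEquivOfLe hL.B_le)
  set C := T₀.map ((L.subtype).comp (S : Subgroup ↥L).subtype) with hC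
  have hinj : Function.Injective ((L.subtype).comp (S : Subgroup ↥L).subtype) :=
    L.subtype_injective.comp (S : Subgroup ↥L).subtype_injective
  have hCB : C ≤ 𝐁 := by rintro _ ⟨x, -, rfl⟩; exact (e x).2
  have hCne : C ≠ ⊥ := fun e' => hne ((Subgroup.map_eq_bot_iff_of_injective _ hinj).1 e')
  have hCeq : C.subgroupOf 𝐁 = T₀.map e.toMonoidHom := by
    ext y
    constructor
    · rintro ⟨x, hx, hxy⟩; exact ⟨x, hx, Subtype.ext hxy⟩
    · rintro ⟨x, hx, rfl⟩; exact ⟨x, hx, rfl⟩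
  have hCchar : (C.subgroupOf 𝐁).Characteristic := by
    rw [hCeq]
    refine Subgroup.characteristic_iff_le_comap.2 fun φ y hy => ?_
    obtain ⟨x, hx, rfl⟩ := hy
    have hx' : x ∈ T₀.comap ((e.trans φ).trans e.symm).toMonoidHom := by
      rw [hchar.fixed]; exact hx
    exact ⟨_, hx', by simp⟩
  refine h.hchar C hCB hCne hCchar (Subgroup.normalizer_eq_top_iff.1 (eq_top_iff.2 ?_))
  rw [← hL.sup_top h]
  refine sup_le ?_ (Subgroup.le_normalizer.trans ((LAE65.Block.le_normalizer_baumann _).trans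
    (normalizer_le_of_char hCB hCchar)))
  have h1 : C = (T₀.map (S : Subgroup ↥L).subtype).map L.subtype := by
    rw [hC, Subgroup.map_map]
  rw [h1]
  refine le_trans ?_ (Subgroup.le_normalizer_map _)
  rw [Subgroup.normalizer_eq_top, ← MonoidHom.range_eq_map, Subgroup.range_subtype]

theorem exists_setup : ∃ (F : Type) (_ : Field F) (_ : Fintype F), Fintype.card F = q ∧ CharP F p ∧
    ∃ (S : Sylow p ↥L) (K : Subgroup ↥L) (_ : K.Normal) (n : ℕ),
      (S : Subgroup ↥L) = (𝐁).subgroupOf L ∧ LocalEven61.PUSetup S K F n ∧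
      ∀ T₀ : Subgroup ↥(S : Subgroup ↥L), T₀ ≠ ⊥ → T₀.Characteristic →
        ¬ (T₀.map (S : Subgroup ↥L).subtype).Normal := by
  obtain ⟨F, i1, i2, hq, hchF, φ, hφ⟩ := h.conf.exists_psl hL.mem
  obtain ⟨S, hS⟩ := hL.exists_sylow h
  let ι : ↥L →* ↥(sSup (line (Mod p G) q (Tbar T) 1 A) ⊔ oth (Mod p G) q (Tbar T) A) :=
    ((pr p).comp L.subtype).codRestrict _ fun x => hL.map_eq.le ⟨x, x.2, rfl⟩
  have hι : Function.Surjective ι := fun y => by
    obtain ⟨x, hx, e⟩ := hL.map_eq.ge y.2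
    exact ⟨⟨x, hx⟩, Subtype.ext e⟩
  obtain ⟨n, -, hn⟩ := FiniteField.card F p
  refine ⟨F, i1, i2, hq, hchF, S, (φ.comp ι).ker, inferInstance, (n : ℕ), hS,
    ⟨hL.charP h, ?_, n.pos, hn,
      ⟨QuotientGroup.quotientKerEquivOfSurjective (φ.comp ι) (hφ.comp hι)⟩⟩,
    fun T₀ => hL.not_char_normal h hS T₀⟩
  rw [hS]
  exact hL.unique_max h

end IsRoot

end Cfsg.Agent.Block82
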