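import Cfsg.Agent.Lib.Thompson.Block.Root
import Cfsg.Agent.Lib.LargeExtraspecial.Basic
import Cfsg.Agent.LocalEven62.Action

/-!
The residual of a rank one subgroup is a block.
-/

set_option autoImplicit false
set_option linter.style.haveILetI false
set_option linter.unusedSectionVars false

open Cfsg
open scoped commutatorElement MatrixGroups

namespace Cfsg.Agent.Block82

open Cfsg.Agent.FFPM

section Transport

variable {p : ℕ} {G : Type*} [Group G] {L : Subgroup G}

theorem pResidualOf_le_iff {X : Subgroup G} :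
    pResidualOf p L ≤ X ↔ ∀ x ∈ L, (orderOf x).Coprime p → x ∈ X :=
  LocalEven62.resOf_le_iff

theorem pResidualOf_idem : pResidualOf p (pResidualOf p L) = pResidualOf p L :=
  le_antisymm (LocalEven62.resOf_le _) (pResidualOf_le_iff.2 fun _ hx hc =>
    LocalEven62.mem_resOf (LocalEven62.mem_resOf hx hc) hc)

variable [Finite G] [hp : Fact p.Prime]

theorem map_omegaOneCenter (X : Subgroup ↥L) :
    omegaOneCenter p (X.map L.subtype) = (omegaOneCenter p X).map L.subtype := by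
  rw [omegaOneCenter, omegaOneCenter, Thompson.map_omegaOne _ _ L.subtype_injective.injOn,
    LocalEven64.map_self_centralizer L.subtype_injective]

theorem pCoreOf_residual :
    pCoreOf p (pResidualOf p L) = (pResidual p ↥L ⊓ pCore p ↥L).map L.subtype := by
  set E := pResidualOf p L
  haveI hEn : (pResidual p ↥L).Normal := Transfer.pResidual_normal
  refine le_antisymm ?_ ?_
  · intro x hx
    have hxE : x ∈ E := LocalEven62.pCoreOf_le E hx
    have hxL : x ∈ L := LocalEven62.resOf_le L hxE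
    refine ⟨⟨x, hxL⟩, ⟨?_, ?_⟩, rfl⟩
    · obtain ⟨y, hy, e⟩ := hxE
      have : y = ⟨x, hxL⟩ := Subtype.ext e
      exact this ▸ hy
    · have hn : ((pCoreOf p E).subgroupOf L).Normal := by
        refine (Subgroup.normal_subgroupOf_iff_le_normalizer
          ((LocalEven62.pCoreOf_le E).trans (LocalEven62.resOf_le L))).2 ?_
        exact (Subgroup.le_normalizer.trans (LocalEven62.normalizer_le_normalizer_resOf L)).trans
          (LocalEven62.normalizer_le_normalizer_pCoreOf E)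
      exact le_sSup (s := {N : Subgroup ↥L | N.Normal ∧ IsPGroup p ↥N})
        ⟨hn, (LocalEven62.isPGroup_pCoreOf E).comap_subtype⟩ hx
  · refine LocalEven62.le_pCoreOf ((Thompson.isPGroup_pCore.to_le inf_le_right).map _)
      (Subgroup.map_mono inf_le_left) ?_
    refine (LocalEven62.resOf_le L).trans (le_trans ?_ (Subgroup.le_normalizer_map _))
    rw [Subgroup.normalizer_eq_top, ← MonoidHom.range_eq_map, Subgroup.range_subtype]

theorem map_zE : (zE p ↥L).map L.subtype =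
    pResidualOf p L ⊓ Subgroup.centralizer (pResidualOf p L : Set G) := by
  ext x
  constructor
  · rintro ⟨z, ⟨hz1, hz2⟩, rfl⟩
    refine ⟨⟨z, hz1, rfl⟩, Subgroup.mem_centralizer_iff.2 ?_⟩
    rintro _ ⟨e, he, rfl⟩
    exact congrArg Subtype.val (Subgroup.mem_centralizer_iff.1 hz2 e he)
  · rintro ⟨⟨z, hz, rfl⟩, hc⟩
    exact ⟨z, ⟨hz, Subgroup.mem_centralizer_iff.2 fun e he =>
      Subtype.ext (Subgroup.mem_centralizer_iff.1 hc e ⟨e, he, rfl⟩)⟩, rfl⟩

theorem map_frattini (X : Subgroup ↥L) :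
    ((frattini ↥X).map X.subtype).map L.subtype =
      (frattini ↥(X.map L.subtype)).map (X.map L.subtype).subtype := by
  rw [← LargeExtraspecial.frattini_equiv (X.equivMapOfInjective L.subtype L.subtype_injective),
    Subgroup.map_map, Subgroup.map_map]
  rfl

variable {F : Type} [Field F] [Fintype F] {ρ : ↥L →* SL(2, F)}

theorem Crd.acts {X Y : Subgroup ↥L} (hc : Crd ρ X Y) (hX : X.Normal) (hY : Y ≤ X)
    (hE : (pResidual p ↥L).map ρ = commutator SL(2, F)) :
    ActsAsSL2OnSection F (commutator SL(2, F)) (pResidualOf p L) (X.map L.subtype)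
      (Y.map L.subtype) := by
  obtain ⟨ψ, hm, hs, hz, hcj⟩ := hc.ex
  have hEL : pResidualOf p L ≤ L := LocalEven62.resOf_le L
  have hψ1 : ψ 1 = 0 := by
    have := hm 1 X.one_mem 1 X.one_mem
    rwa [one_mul, left_eq_add] at this
  refine ⟨hEL.trans (le_trans ?_ (Subgroup.le_normalizer_map _)), Subgroup.map_mono hY, ?_⟩
  · rw [Subgroup.normalizer_eq_top, ← MonoidHom.range_eq_map, Subgroup.range_subtype]
  have hmem : ∀ u : ↥(X.map L.subtype), (⟨(u : G), Subgroup.map_subtype_le _ u.2⟩ : ↥L) ∈ X := by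
    rintro ⟨_, ⟨x, hx, rfl⟩⟩
    exact hx
  refine ⟨ρ.comp (Subgroup.inclusion hEL),
    { toFun := fun u => Multiplicative.ofAdd (ψ ⟨(u : G), Subgroup.map_subtype_le _ u.2⟩)
      map_one' := hψ1 ▸ rfl
      map_mul' := fun u v => by
        rw [← ofAdd_add, ← hm _ (hmem u) _ (hmem v)]
        rfl }, ?_, ?_, ?_, ?_⟩
  · ext g
    rw [MonoidHom.mem_range, ← hE]
    constructor
    · rintro ⟨⟨e, he⟩, rfl⟩
      obtain ⟨e', he', rfl⟩ := he
      exact ⟨e', he', rfl⟩
    · rintro ⟨e, he, rfl⟩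
      exact ⟨⟨(e : G), ⟨e, he, rfl⟩⟩, rfl⟩
  · intro v
    obtain ⟨x, hx, hxv⟩ := hs (Multiplicative.toAdd v)
    exact ⟨⟨(x : G), ⟨x, hx, rfl⟩⟩, by
      show Multiplicative.ofAdd (ψ x) = v
      rw [hxv, ofAdd_toAdd]⟩
  · intro u
    show Multiplicative.ofAdd (ψ _) = 1 ↔ _
    rw [ofAdd_eq_one, hz _ (hmem u)]
    exact ⟨fun hy => ⟨_, hy, rfl⟩, by
      rintro ⟨y, hy, e⟩
      have h' : y = (⟨(u : G), Subgroup.map_subtype_le _ u.2⟩ : ↥L) := Subtype.ext e
      exact h' ▸ hy⟩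
  · intro e u
    refine ⟨⟨(e : G) * u * (e : G)⁻¹, ⟨_, hX.conj_mem _ (hmem u) (Subgroup.inclusion hEL e), rfl⟩⟩,
      rfl, ?_⟩
    show ψ _ = _
    exact hcj (Subgroup.inclusion hEL e) _ (hmem u)

theorem Crd.extend {U Z : Subgroup ↥L} [hZn : Z.Normal] [hUn : U.Normal] {Y : Subgroup ↥L}
    (hc : Crd ρ U Y) (hzc : ∀ z ∈ Z, ∀ x : ↥L, z * x = x * z) (hYZ : U ⊓ Z ≤ Y) :
    Crd ρ (U ⊔ Z) (Y ⊓ U ⊔ Z) := by
  classical
  obtain ⟨ψ, hm, hs, hz, hcj⟩ := hc.ex
  have hψ1 : ψ 1 = 0 := by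
    have := hm 1 U.one_mem 1 U.one_mem
    rwa [one_mul, left_eq_add] at this
  have hdec : ∀ w ∈ U ⊔ Z, ∃ u ∈ U, ∃ z ∈ Z, w = u * z := fun w hw => by
    obtain ⟨u, hu, z, hz', e⟩ := (Subgroup.mem_sup_of_normal_right (t := Z)).1 hw
    exact ⟨u, hu, z, hz', e.symm⟩
  choose! uf huf zf hzf huz using hdec
  have huniq : ∀ w ∈ U ⊔ Z, ∀ u ∈ U, ∀ z ∈ Z, w = u * z → ψ (uf w) = ψ u := by
    intro w hw u hu z hz' e
    have e2 : u * z = uf w * zf w := e.symm.trans (huz w hw)
    have h1 : u⁻¹ * uf w ∈ U ⊓ Z := ⟨U.mul_mem (U.inv_mem hu) (huf w hw), by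
      have e1 : u⁻¹ * uf w = z * (zf w)⁻¹ := by
        rw [eq_mul_inv_iff_mul_eq, mul_assoc, ← e2, inv_mul_cancel_left]
      rw [e1]; exact Z.mul_mem hz' (Z.inv_mem (hzf w hw))⟩
    rw [show uf w = u * (u⁻¹ * uf w) by group, hm _ hu _ h1.1, (hz _ h1.1).2 (hYZ h1), add_zero]
  refine ⟨fun w => ψ (uf w), fun x hx y hy => ?_, fun v => ?_, fun x hx => ?_, fun g x hx => ?_⟩
  · show ψ (uf (x * y)) = ψ (uf x) + ψ (uf y)
    rw [← hm _ (huf x hx) _ (huf y hy)]
    refine huniq _ (mul_mem hx hy) _ (mul_mem (huf x hx) (huf y hy)) (zf x * zf y)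
      (mul_mem (hzf x hx) (hzf y hy)) ?_
    nth_rewrite 1 [huz x hx, huz y hy]
    rw [mul_assoc, ← mul_assoc (zf x), hzc _ (hzf x hx) (uf y)]
    simp only [mul_assoc]
  · obtain ⟨u, hu, rfl⟩ := hs v
    exact ⟨u, Subgroup.mem_sup_left hu,
      huniq u (Subgroup.mem_sup_left hu) u hu 1 Z.one_mem (mul_one u).symm⟩
  · show ψ (uf x) = 0 ↔ _
    rw [hz _ (huf x hx)]
    constructor
    · intro hy
      rw [huz x hx]
      exact Subgroup.mul_mem_sup ⟨hy, huf x hx⟩ (hzf x hx)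
    · intro hxy
      obtain ⟨y, hy, z, hz', e⟩ := (Subgroup.mem_sup_of_normal_right (t := Z)).1 hxy
      rw [← hz _ (huf x hx), huniq x hx y hy.2 z hz' e.symm, hz _ hy.2]
      exact hy.1
  · show ψ (uf (g * x * g⁻¹)) = _
    rw [← hcj g _ (huf x hx)]
    refine huniq _ ?_ _ (hUn.conj_mem _ (huf x hx) g) (zf x) (hzf x hx) ?_
    · haveI : (U ⊔ Z).Normal := Subgroup.sup_normal _ _
      exact (inferInstance : (U ⊔ Z).Normal).conj_mem x hx g
    · conv_lhs => rw [huz x hx]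
      rw [show g * (uf x * zf x) * g⁻¹ = g * uf x * g⁻¹ * (g * zf x * g⁻¹) by group,
        ← hzc _ (hzf x hx) g, mul_inv_cancel_right]

end Transport

variable {p : ℕ} {G : Type*} [Group G] [Finite G] [hp : Fact p.Prime]

namespace IsRoot

variable {T : Sylow p G} {M : Subgroup G} {q : ℕ} {A : Subgroup (Bar p G)} {L : Subgroup G}
  (hL : IsRoot T q A L) (h : Ctx T M q)
include hL h

local notation "𝐁" => baumannSubgroupOf p (T : Subgroup G)
local notation "𝐄" => pResidualOf p L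
local notation "𝐔" => (⁅Om p G, pResidualOf p L⁆ : Subgroup G)

theorem om_le_L : Om p G ≤ L := (h.om_le_inf_core.trans inf_le_left).trans hL.B_le

theorem U_le_om : 𝐔 ≤ Om p G := by
  rw [← Subgroup.le_normalizer_iff_commutator_le_left, Subgroup.normalizer_eq_top]
  exact le_top

theorem map_E_le : (𝐄).map (pr p) ≤ sSup (line (Mod p G) q (Tbar T) 1 A) := by
  set S := sSup (line (Mod p G) q (Tbar T) 1 A)
  rw [Subgroup.map_le_iff_le_comap]
  refine pResidualOf_le_iff.2 fun x hx hcop => ?_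
  obtain ⟨s, hs, d, hd, e⟩ := mem_sup_of_com (h.conf.com_oth hL.mem) (hL.map_eq.le ⟨x, hx, rfl⟩)
  show pr p x ∈ S
  obtain ⟨k, hk⟩ := h.conf.oth_pow hL.mem hd
  have h1 : (pr p x) ^ orderOf x = 1 := by rw [← map_pow, pow_orderOf_eq_one, map_one]
  have hc : Commute s d := h.conf.com_oth hL.mem s hs d hd
  have h2 : (pr p x) ^ p ^ k ∈ S := by
    rw [e, hc.mul_pow, hk, mul_one]; exact pow_mem hs _
  obtain ⟨u, v, huv⟩ := Nat.isCoprime_iff_coprime.2 (Nat.Coprime.pow_right k hcop)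
  have h3 : pr p x = ((pr p x) ^ orderOf x) ^ u * ((pr p x) ^ p ^ k) ^ v := by
    rw [← zpow_natCast (pr p x) (orderOf x), ← zpow_natCast (pr p x) (p ^ k), ← zpow_mul, ← zpow_mul,
      ← zpow_add, mul_comm (orderOf x : ℤ), mul_comm ((p ^ k : ℕ) : ℤ), huv, zpow_one]
  rw [h3, h1, one_zpow, one_mul]
  exact zpow_mem h2 v

theorem core_map_le {x : ↥L} (hx : x ∈ pCore p ↥L) :
    pr p (x : G) ∈ oth (Mod p G) q (Tbar T) A := by
  obtain ⟨S, hS⟩ := hL.exists_sylow h
  obtain ⟨Y₀, hY₀, hne⟩ := h.conf.exists_other hL.mem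
  obtain ⟨Z, hZ, hZY, hZA⟩ := h.conf.exists_third hL.mem (Y := A) hY₀
  obtain ⟨z, hz, ez⟩ := h.conf.orbit_line hL.mem hZ (h.conf.self_mem_line hL.mem) hY₀ hZA
    (Ne.symm hZY)
  set O := oth (Mod p G) q (Tbar T) A
  have hB : ∀ y : ↥L, y ∈ pCore p ↥L → pr p (y : G) ∈ A ⊔ O := fun y hy => by
    rw [← h.conf.roots_eq_oth hL.mem]
    exact h.map_B.le ⟨y, hS.le (Thompson.pCore_le_sylow S hy), rfl⟩
  obtain ⟨l, hl, rfl⟩ := hL.map_eq.ge (Subgroup.mem_sup_left (le_sSup hZ hz))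
  have h1 := hB x hx
  have h2 : pr p (x : G) ∈ Y₀ ⊔ O := by
    have hy := hB _ (Thompson.instPCoreNormal.conj_mem x hx (⟨l, hl⟩ : ↥L)⁻¹)
    simp only [Subgroup.coe_mul, Subgroup.coe_inv, inv_inv, map_mul, map_inv] at hy
    have hlS : pr p l ∈ sSup (line (Mod p G) q (Tbar T) 1 A) := le_sSup hZ hz
    have hO : FFSL2.cj (pr p l) O = O := com_mem_cj_eq fun d hd =>
      h.conf.com_oth hL.mem _ hlS d hd
    have hy' : pr p (x : G) ∈ FFSL2.cj (pr p l) (A ⊔ O) := FFSL2.mem_cj.2 hy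
    rwa [FFSL2.cj, Subgroup.map_sup, ← FFSL2.cj, ← FFSL2.cj, ← ez, hO] at hy'
  refine h.conf.inf_le_oth hL.mem hY₀ hne h1 h2 ?_
  rw [ez]
  exact ((Tbar T).isPGroup'.to_le ((h.conf.mem_le_roots hL.mem).trans h.conf.roots_le)).map _

theorem E_le : 𝐄 ≤ L := LocalEven62.resOf_le L

theorem not_le_cen : ¬ 𝐄 ≤ cen p G := by
  intro hle
  obtain ⟨S, hS⟩ := hL.exists_sylow h
  haveI := Transfer.pResidual_normal (p := p) (G := ↥L)
  obtain ⟨Y₀, hY₀, hne⟩ := h.conf.exists_other hL.mem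
  refine h.conf.not_com_line hL.mem (h.conf.self_mem_line hL.mem) hY₀ hne ?_
  have hmap : L.map (pr p) ≤ roots (Mod p G) q (Tbar T) := by
    rintro _ ⟨l, hl, rfl⟩
    obtain ⟨e, he, s, hs, e1⟩ := (Subgroup.mem_sup_of_normal_left (t := (S : Subgroup ↥L))).1
      (((sup_comm _ _).trans (Transfer.sylow_sup_pResidual_eq_top S)).ge
        (Subgroup.mem_top (⟨l, hl⟩ : ↥L)))
    have h1 : pr p (e : G) = 1 := pr_eq_one.2 (hle ⟨e, he, rfl⟩)
    have h2 : l = (e : G) * s := congrArg Subtype.val e1.symm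
    rw [h2, map_mul, h1, one_mul]
    exact h.map_B.le ⟨_, hS.le hs, rfl⟩
  rw [hL.map_eq] at hmap
  exact h.conf.com_roots.mono ((le_sSup (h.conf.self_mem_line hL.mem)).trans (le_sup_left.trans hmap))
    ((le_sSup hY₀).trans (le_sup_left.trans hmap))

theorem U_ne : (𝐔) ≠ ⊥ := fun e => hL.not_le_cen h
  (Subgroup.le_centralizer_iff.1 (Subgroup.commutator_eq_bot_iff_le_centralizer.1 e))

theorem U_comm : ⁅𝐔, 𝐄⁆ = 𝐔 :=
  LAE65.Block.commutator_commutator_eq pResidualOf_idem (om_elemAb p G)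
    (by rw [Subgroup.normalizer_eq_top]; exact le_top)

theorem U_map : (𝐔).subgroupOf L = ⁅(Om p G).subgroupOf L, pResidual p ↥L⁆ := by
  refine Subgroup.map_injective L.subtype_injective ?_
  rw [Subgroup.map_commutator, Subgroup.map_subgroupOf_eq_of_le (hL.om_le_L h),
    Subgroup.map_subgroupOf_eq_of_le ((hL.U_le_om h).trans (hL.om_le_L h))]
  rfl

theorem O_fix_U {x : ↥L} (hx : x ∈ pCore p ↥L) {u : G} (hu : u ∈ 𝐔) : (x : G) * u = u * x := by
  suffices hle : 𝐔 ≤ Subgroup.centralizer {(x : G)} from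
    (Subgroup.mem_centralizer_singleton_iff.1 (hle hu)).symm
  refine Subgroup.commutator_le.2 fun o ho e he => Subgroup.mem_centralizer_singleton_iff.2 ?_
  have hv := h.conf.line_orth hL.mem (hL.map_E_le h ⟨e, he, rfl⟩) (vc ho) _ (hL.core_map_le h hx)
  rw [smul_eq_iff, sub_eq_add_neg, cv_add, cv_smul, cv_neg, cv_vc] at hv
  have h1 : (e * o * e⁻¹ * o⁻¹) = ⁅o, e⁆⁻¹ := by rw [commutatorElement_def]; group
  rw [h1] at hv
  have h2 : Commute (x : G) ⁅o, e⁆ := by simpa using (show Commute (x : G) ⁅o, e⁆⁻¹ from hv).inv_right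
  exact h2.eq.symm

theorem exists_blk : ∃ (F : Type) (_ : Field F) (_ : Fintype F), Fintype.card F = q ∧ CharP F p ∧
    ∃ (S : Sylow p ↥L) (ρ : ↥L →* SL(2, F)),
      (S : Subgroup ↥L) = (𝐁).subgroupOf L ∧ Function.Surjective ρ ∧ ρ.ker = pCore p ↥L ∧
        Blk p S ρ ((𝐔).subgroupOf L) := by
  obtain ⟨F, i1, i2, hq, hchF, S, K, hKn, n, hS, hsetup, hd⟩ := hL.exists_setup h
  refine ⟨F, i1, i2, hq, hchF, S, ?_⟩
  have hUL : 𝐔 ≤ L := (hL.U_le_om h).trans (hL.om_le_L h)
  have hEn : (pResidual p ↥L).Normal := Transfer.pResidual_normal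
  have hOn : ((Om p G).subgroupOf L).Normal := (om_normal p G).subgroupOf L
  obtain ⟨ρ, hρ, hker, hblk⟩ := Block82.exists_blk (U := (𝐔).subgroupOf L) hsetup hd
    (hL.U_map h ▸ Subgroup.commutator_normal _ _)
    ⟨⟨⟨fun a b => Subtype.ext (Subtype.ext (Thompson.elemAb_comm (om_elemAb p G).1
      (hL.U_le_om h a.2) (hL.U_le_om h b.2)))⟩⟩,
      fun a ha => Subtype.ext (by simpa using (om_elemAb p G).2 _ (hL.U_le_om h ha))⟩
    (fun x hx => hL.inf_core_le h (h.om_le_inf_core (hL.U_le_om h hx)))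
    (fun x hx u hu => Subtype.ext (hL.O_fix_U h hx hu))
    (by
      refine Subgroup.map_injective L.subtype_injective ?_
      rw [Subgroup.map_commutator, Subgroup.map_subgroupOf_eq_of_le hUL]
      exact hL.U_comm h)
    (fun e => hL.U_ne h (by
      rw [← Subgroup.map_subgroupOf_eq_of_le hUL, e, Subgroup.map_bot]))
  exact ⟨ρ, hS, hρ, hker, hblk⟩

theorem E_not_le_M : ¬ 𝐄 ≤ M := by
  intro hle
  refine h.coatom.1 (eq_top_iff.2 ?_)
  rw [← hL.sup_top h]
  refine sup_le ?_ h.le_M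
  obtain ⟨S, hS⟩ := hL.exists_sylow h
  intro l hl
  haveI := Transfer.pResidual_normal (p := p) (G := ↥L)
  obtain ⟨e, he, s, hs, e1⟩ := (Subgroup.mem_sup_of_normal_left (t := (S : Subgroup ↥L))).1
    (((sup_comm _ _).trans (Transfer.sylow_sup_pResidual_eq_top S)).ge
      (Subgroup.mem_top (⟨l, hl⟩ : ↥L)))
  have h2 : l = (e : G) * s := congrArg Subtype.val e1.symm
  rw [h2]
  exact mul_mem (hle ⟨e, he, rfl⟩) (h.le_M ((LAE65.Block.baumann_le _) (hS.le hs)))

theorem normalizer_E : L ≤ Subgroup.normalizer (𝐄 : Set G) :=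
  Subgroup.le_normalizer.trans (LocalEven62.normalizer_le_normalizer_resOf L)

theorem E_comm_B : ⁅𝐄, 𝐁⁆ = 𝐄 := by
  obtain ⟨F, i1, i2, hq, hchF, S, ρ, hS, hρ, hker, hb⟩ := hL.exists_blk h
  obtain ⟨Wt, hWtS, hWte, hdec, -⟩ := hb.wt
  haveI hEn := Transfer.pResidual_normal (p := p) (G := ↥L)
  refine le_antisymm (Subgroup.le_normalizer_iff_commutator_le_left.1
    (hL.B_le.trans (hL.normalizer_E h))) ?_
  set E₀ := pResidual p ↥L
  set X := ⁅E₀, (S : Subgroup ↥L)⁆
  have hXn1 : E₀ ≤ Subgroup.normalizer (X : Set ↥L) := Subgroup.normalizer_commutator_ge_left _ _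
  have hXn2 : (S : Subgroup ↥L) ≤ Subgroup.normalizer (X : Set ↥L) :=
    Subgroup.normalizer_commutator_ge_right _ _
  have htop : E₀ ⊔ (S : Subgroup ↥L) = ⊤ := (sup_comm _ _).trans (Transfer.sylow_sup_pResidual_eq_top S)
  haveI hXn : X.Normal := Subgroup.normalizer_eq_top_iff.1 (eq_top_iff.2 (htop ▸ sup_le hXn1 hXn2))
  haveI hXS : (X ⊔ (S : Subgroup ↥L)).Normal := by
    refine Subgroup.normalizer_eq_top_iff.1 (eq_top_iff.2 (htop ▸ sup_le ?_ ?_))
    · refine PushUp62.le_normalizer_of_conj fun e he y hy => ?_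
      obtain ⟨a, ha, b, hb', rfl⟩ := (Subgroup.mem_sup_of_normal_left (t := (S : Subgroup ↥L))).1 hy
      rw [show e * (a * b) * e⁻¹ = e * a * e⁻¹ * (⁅e, b⁆ * b) by
        rw [commutatorElement_def]; group]
      exact mul_mem (Subgroup.mem_sup_left (hXn.conj_mem a ha e))
        (mul_mem (Subgroup.mem_sup_left (Subgroup.commutator_mem_commutator he hb'))
          (Subgroup.mem_sup_right hb'))
    · exact le_sup_right.trans Subgroup.le_normalizer
  have hall : X ⊔ (S : Subgroup ↥L) = ⊤ := by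
    rw [eq_top_iff]
    have hrk : Rk S ρ ((𝐔).subgroupOf L) → (⊤ : Subgroup ↥L) ≤ X ⊔ (S : Subgroup ↥L) := fun hr => by
      rw [← hr.normalClosure_sup hdec]
      exact sup_le (Subgroup.normalClosure_le_normal (hWtS.trans le_sup_right))
        ((Thompson.pCore_le_sylow S).trans le_sup_right)
    refine hrk ⟨hρ, hker, ?_, ?_, ?_, ?_, ?_, ?_⟩
    · haveI : ((Om p G).subgroupOf L).Normal := (om_normal p G).subgroupOf L
      exact hL.U_map h ▸ Subgroup.commutator_normal _ _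
    · exact ⟨⟨⟨fun a b => Subtype.ext (Subtype.ext (Thompson.elemAb_comm (om_elemAb p G).1
        (hL.U_le_om h a.2) (hL.U_le_om h b.2)))⟩⟩,
        fun a ha => Subtype.ext (by simpa using (om_elemAb p G).2 _ (hL.U_le_om h ha))⟩
    · exact fun x hx => hL.inf_core_le h (h.om_le_inf_core (hL.U_le_om h hx))
    · exact fun x hx u hu => Subtype.ext (hL.O_fix_U h hx hu)
    · refine Subgroup.map_injective L.subtype_injective ?_
      rw [Subgroup.map_commutator, Subgroup.map_subgroupOf_eq_of_le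
        ((hL.U_le_om h).trans (hL.om_le_L h))]
      exact hL.U_comm h
    · exact fun e => hL.U_ne h (by
        rw [← Subgroup.map_subgroupOf_eq_of_le ((hL.U_le_om h).trans (hL.om_le_L h)), e,
          Subgroup.map_bot])
  have hEX : E₀ ≤ X := by
    intro e he
    rw [← QuotientGroup.eq_one_iff]
    have hrange : IsPGroup p ↥(E₀.map (QuotientGroup.mk' X)) := by
      refine (S.2.map (QuotientGroup.mk' X)).to_le ?_
      rintro _ ⟨a, -, rfl⟩
      obtain ⟨x, hx, s, hs, rfl⟩ := (Subgroup.mem_sup_of_normal_left (t := (S : Subgroup ↥L))).1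
        (hall.ge (Subgroup.mem_top a))
      exact ⟨s, hs, by rw [map_mul, show QuotientGroup.mk' X x = 1 from
        (QuotientGroup.eq_one_iff x).2 hx, one_mul]⟩
    let f : ↥E₀ →* ↥(E₀.map (QuotientGroup.mk' X)) :=
      ((QuotientGroup.mk' X).comp E₀.subtype).codRestrict _ fun a => ⟨a, a.2, rfl⟩
    exact congrArg Subtype.val
      (Transfer.eq_one_of_pResidual_eq_top Transfer.pResidual_pResidual f hrange ⟨e, he⟩)
  intro x hx
  obtain ⟨e, he, rfl⟩ := hx
  have h3 : ((X.map L.subtype) : Subgroup G) ≤ ⁅𝐄, 𝐁⁆ := by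
    rw [Subgroup.map_commutator]
    refine Subgroup.commutator_mono le_rfl ?_
    rintro _ ⟨s, hs, rfl⟩
    exact hS.le hs
  exact h3 ⟨e, hEX he, rfl⟩

/-- The residual is a block. -/
theorem isBlock : IsBaumannBlock p (T : Subgroup G) 𝐄 := by
  obtain ⟨F, i1, i2, hq, hchF, S, ρ, hS, hρ, hker, hb⟩ := hL.exists_blk h
  obtain ⟨n, -, hn⟩ := FiniteField.card F p
  haveI hEn := Transfer.pResidual_normal (p := p) (G := ↥L)
  haveI hPn : (coE p ↥L).Normal := Subgroup.commutator_normal _ _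
  have hUL : 𝐔 ≤ L := (hL.U_le_om h).trans (hL.om_le_L h)
  have hOn : ((Om p G).subgroupOf L).Normal := (om_normal p G).subgroupOf L
  haveI hUn : ((𝐔).subgroupOf L).Normal := hL.U_map h ▸ Subgroup.commutator_normal _ _
  have hP : pCoreOf p 𝐄 = (coE p ↥L).map L.subtype := by rw [pCoreOf_residual, hb.inf_eq]
  refine ⟨pResidualOf_idem, hL.E_comm_B h, ?_, fun e => hL.E_not_le_M h ?_, Or.inl ?_⟩
  · rw [hP]
    show ⁅_, Subgroup.map L.subtype _⁆ = _
    rw [← Subgroup.map_commutator]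
    exact congrArg _ (comm_idem Thompson.isPGroup_pCore)
  · exact ((Subgroup.commutator_eq_bot_iff_le_centralizer.1 e).trans le_sup_left).trans h.cStar_le
  · refine ⟨F, i1, i2, (n : ℕ), hn, ?_, ?_, ?_⟩
    · have hEL : 𝐄 ≤ L := LocalEven62.resOf_le L
      let f : ↥(𝐄) →* ↥(commutator SL(2, F)) :=
        (ρ.comp (Subgroup.inclusion hEL)).codRestrict _ fun e => by
          obtain ⟨_, e', he', rfl⟩ := e
          exact hb.rho_E ▸ ⟨e', he', rfl⟩
      have hf : Function.Surjective f := fun ⟨g, hg⟩ => by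
        rw [← hb.rho_E] at hg
        obtain ⟨e, he, rfl⟩ := hg
        exact ⟨⟨(e : G), ⟨e, he, rfl⟩⟩, rfl⟩
      have hfk : f.ker = pCore p ↥(𝐄) := by
        refine Subgroup.map_injective (𝐄).subtype_injective ?_
        show _ = pCoreOf p 𝐄
        rw [pCoreOf_residual]
        ext x
        constructor
        · rintro ⟨⟨_, e, he, rfl⟩, hk, rfl⟩
          exact ⟨e, ⟨he, hker.le (congrArg Subtype.val (MonoidHom.mem_ker.1 hk) : ρ e = 1)⟩, rfl⟩
        · rintro ⟨e, ⟨he, hec⟩, rfl⟩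
          exact ⟨⟨(e : G), ⟨e, he, rfl⟩⟩, MonoidHom.mem_ker.2 (Subtype.ext (hker.ge hec : ρ e = 1)),
            rfl⟩
      exact ⟨(QuotientGroup.quotientMulEquivOfEq hfk.symm).trans
        (QuotientGroup.quotientKerEquivOfSurjective f hf)⟩
    · rcases hb.cases with hc | hc
      · have hW : omegaOneCenter p (pCoreOf p 𝐄) = ((𝐔).subgroupOf L).map L.subtype := by
          rw [hP, hc, map_omegaOneCenter]
          congr 1
          refine le_antisymm (LAE65.Block.omegaOneCenter_le _) fun x hx =>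
            Thompson.mem_omegaOne ⟨hx, Subgroup.mem_centralizer_iff.2 fun y hy => ?_⟩ ?_
          · exact Subtype.ext (Thompson.elemAb_comm (om_elemAb p G).1 (hL.U_le_om h hy)
              (hL.U_le_om h hx))
          · exact Subtype.ext (by simpa using (om_elemAb p G).2 _ (hL.U_le_om h hx))
        rw [hW]
        convert hb.crd.acts hUn inf_le_left hb.rho_E using 1
        ext x
        constructor
        · rintro ⟨⟨u, hu, rfl⟩, hxc⟩
          exact ⟨u, ⟨hu, Subgroup.mem_centralizer_iff.2 fun e he => Subtype.ext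
            (Subgroup.mem_centralizer_iff.1 hxc e ⟨e, he, rfl⟩)⟩, rfl⟩
        · rintro ⟨u, ⟨hu, hu'⟩, rfl⟩
          refine ⟨⟨u, hu, rfl⟩, Subgroup.mem_centralizer_iff.2 ?_⟩
          rintro _ ⟨e, he, rfl⟩
          exact congrArg Subtype.val (Subgroup.mem_centralizer_iff.1 hu' e he)
      · set U₀ := (𝐔).subgroupOf L
        haveI hzn : (zE p ↥L).Normal := hc.der ▸ Subgroup.commutator_normal _ _
        have hPE : coE p ↥L ≤ pResidual p ↥L := hb.inf_eq.ge.trans inf_le_left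
        have hUE : U₀ ⊔ zE p ↥L ≤ pResidual p ↥L := hc.omega.ge.trans
          ((LAE65.Block.omegaOneCenter_le _).trans hPE)
        rw [hP, map_omegaOneCenter, hc.omega]
        have hY : (U₀ ⊔ zE p ↥L) ⊓ Subgroup.centralizer ((pResidual p ↥L : Subgroup ↥L) : Set ↥L) =
            zE p ↥L :=
          le_antisymm (fun x hx => ⟨hUE hx.1, hx.2⟩) fun x hx => ⟨Subgroup.mem_sup_right hx, hx.2⟩
        have hY' : U₀ ⊓ Subgroup.centralizer ((pResidual p ↥L : Subgroup ↥L) : Set ↥L) ⊓ U₀ ⊔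
            zE p ↥L = zE p ↥L := by
          refine sup_eq_right.2 fun x hx => ?_
          exact ⟨hUE (Subgroup.mem_sup_left hx.2), hx.1.2⟩
        have hext := Crd.extend (Z := zE p ↥L) hb.crd
          (fun z hz x => by
            have h1 : z ∈ Subgroup.center ↥L := hc.zcen hz
            exact ((Subgroup.mem_center_iff.1 h1) x).symm)
          (fun x hx => ⟨hx.1, hx.2.2⟩)
        rw [hY'] at hext
        convert hext.acts (Subgroup.sup_normal _ _) le_sup_right hb.rho_E using 1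
        ext x
        constructor
        · rintro ⟨⟨u, hu, rfl⟩, hxc⟩
          exact ⟨u, hY.le ⟨hu, Subgroup.mem_centralizer_iff.2 fun e he => Subtype.ext
            (Subgroup.mem_centralizer_iff.1 hxc e ⟨e, he, rfl⟩)⟩, rfl⟩
        · rintro ⟨u, hu₀, rfl⟩
          obtain ⟨hu, hu'⟩ := hY.ge hu₀
          refine ⟨⟨u, hu, rfl⟩, Subgroup.mem_centralizer_iff.2 ?_⟩
          rintro _ ⟨e, he, rfl⟩
          exact congrArg Subtype.val (Subgroup.mem_centralizer_iff.1 hu' e he)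
    · rcases hb.cases with hc | hc
      · left
        rw [hP, hc, map_omegaOneCenter]
        congr 1
        refine le_antisymm ?_ (LAE65.Block.omegaOneCenter_le _)
        intro x hx
        refine Thompson.mem_omegaOne ⟨hx, Subgroup.mem_centralizer_iff.2 fun y hy => ?_⟩ ?_
        · exact Subtype.ext (Thompson.elemAb_comm (om_elemAb p G).1 (hL.U_le_om h hy)
            (hL.U_le_om h hx))
        · exact Subtype.ext (by simpa using (om_elemAb p G).2 _ (hL.U_le_om h hx))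
      · right
        set U₀ := (𝐔).subgroupOf L
        haveI hzn : (zE p ↥L).Normal := hc.der ▸ Subgroup.commutator_normal _ _
        have hPE : coE p ↥L ≤ pResidual p ↥L := hb.inf_eq.ge.trans inf_le_left
        have hUE : U₀ ⊔ zE p ↥L ≤ pResidual p ↥L := hc.omega.ge.trans
          ((LAE65.Block.omegaOneCenter_le _).trans hPE)
        have hW : omegaOneCenter p (pCoreOf p 𝐄) = (U₀ ⊔ zE p ↥L).map L.subtype := by
          rw [hP, map_omegaOneCenter, hc.omega]
        have hZ : omegaOneCenter p (pCoreOf p 𝐄) ⊓ Subgroup.centralizer (𝐄 : Set G) =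
            (zE p ↥L).map L.subtype := by
          rw [map_zE, hW]
          ext x
          refine ⟨fun hx => ?_, fun hx => ?_⟩
          · obtain ⟨y, hy, rfl⟩ := hx.1
            exact ⟨⟨y, hUE hy, rfl⟩, hx.2⟩
          · refine ⟨?_, hx.2⟩
            obtain ⟨y, hy, rfl⟩ := (map_zE (p := p) (L := L)).ge hx
            exact ⟨y, Subgroup.mem_sup_right hy, rfl⟩
        refine ⟨hc.p_eq, ?_, ?_, ?_, ?_, ?_, ?_⟩
        · rw [hW, hP]
          exact hc.crd.acts hPn (hc.omega.ge.trans (LAE65.Block.omegaOneCenter_le _)) hb.rho_E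
        · rw [hZ, hP, ← Subgroup.map_commutator, hc.der]
        · rw [hZ, hP, ← map_frattini, hc.frat]
        · rw [hZ, map_zE]
        · rw [← map_zE, Subgroup.card_map_of_injective L.subtype_injective, hc.card,
            Nat.card_eq_fintype_card, hn, hc.p_eq]
        · intro b hbB hbC hle
          have hbL : b ∈ L := hL.B_le hbB
          have hbS : (⟨b, hbL⟩ : ↥L) ∈ (S : Subgroup ↥L) := hS.ge hbB
          have hbQ : (⟨b, hbL⟩ : ↥L) ∉ pCore p ↥L := fun hQ => hbC (by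
            rw [hW, Subgroup.mem_centralizer_iff]
            have hle' : U₀ ⊔ zE p ↥L ≤ Subgroup.centralizer {(⟨b, hbL⟩ : ↥L)} := sup_le
              (fun u hu => Subgroup.mem_centralizer_singleton_iff.2
                (Subtype.ext (hL.O_fix_U h hQ hu)).symm)
              fun z hz => Subgroup.mem_centralizer_singleton_iff.2
                ((Subgroup.mem_center_iff.1 (hc.zcen hz)) _).symm
            rintro _ ⟨y, hy, rfl⟩
            exact congrArg Subtype.val (Subgroup.mem_centralizer_singleton_iff.1 (hle' hy)))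
          obtain ⟨a, ha, hne⟩ := hc.nonquad _ hbS hbQ
          refine hne ?_
          have h1 : ⁅⁅(a : G), b⁆, b⁆ ∈ ⁅⁅pCoreOf p 𝐄, Subgroup.zpowers b⁆, Subgroup.zpowers b⁆ :=
            Subgroup.commutator_mem_commutator (Subgroup.commutator_mem_commutator
              (hP ▸ ⟨a, ha, rfl⟩) (Subgroup.mem_zpowers b)) (Subgroup.mem_zpowers b)
          obtain ⟨z, hz, hze⟩ := (map_zE (p := p) (L := L)).ge (hle h1)
          have : z = ⁅⁅a, (⟨b, hbL⟩ : ↥L)⁆, (⟨b, hbL⟩ : ↥L)⁆ := Subtype.ext hze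
          exact this ▸ hz

end IsRoot

end Cfsg.Agent.Block82
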