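import Cfsg.Prelude
import Cfsg.Agent.Lib.Thompson.FFPM.Roots
import Cfsg.Agent.Lib.Thompson.FFPM.Offender
import Cfsg.Agent.Lib.Thompson.WSubgroup
import Cfsg.Agent.Lib.Thompson.Alperin
import Cfsg.Agent.Lib.Thompson.Cores
import Cfsg.Agent.LAE65.BlockCenter

/-!
Setup for pushing up in a `p`-minimal group of characteristic `p`: the module `Ω₁(Z(O_p(G)))`, the
faithful quotient, and its configuration of least offenders.
-/

set_option autoImplicit false
set_option linter.style.haveILetI false
set_option linter.unusedSectionVars false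

open Cfsg
open scoped commutatorElement

namespace Cfsg.Agent.Block82

open Cfsg.Agent.FFPM

variable (p : ℕ) (G : Type*) [Group G]

/-- `Ω₁(Z(O_p(G)))`. -/
abbrev Om : Subgroup G := omegaOneCenter p (pCore p G)

/-- The kernel of the action. -/
abbrev cen : Subgroup G := Subgroup.centralizer (Om p G : Set G)

theorem comm_inf_centralizer (Q : Subgroup G) :
    IsMulCommutative ↥(Q ⊓ Subgroup.centralizer (Q : Set G)) :=
  ⟨⟨fun a b => Subtype.ext (Subgroup.mem_centralizer_iff.1 b.2.2 a a.2.1)⟩⟩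

theorem om_elemAb : IsElementaryAbelian p (Om p G) :=
  Thompson.isElementaryAbelian_omegaOne (comm_inf_centralizer G _)

instance om_normal : (Om p G).Normal :=
  haveI : (pCore p G).Normal := Thompson.instPCoreNormal
  haveI := Subgroup.normal_centralizer (H := pCore p G)
  Thompson.omegaOne_normal _

instance cen_normal : (cen p G).Normal := Subgroup.normal_centralizer

instance addCommGroupMod : AddCommGroup (Additive ↥(Om p G)) :=
  { (inferInstance : AddGroup (Additive ↥(Om p G))) with
    add_comm := fun a b => Subtype.ext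
      (Thompson.elemAb_comm (om_elemAb p G).1 (Additive.toMul a).2 (Additive.toMul b).2) }

/-- The module. -/
abbrev Mod : Type _ := Additive ↥(Om p G)

/-- The faithful quotient. -/
abbrev Bar : Type _ := G ⧸ cen p G

variable {p G}

/-- The group element of a vector. -/
def cv (v : Mod p G) : G := ((Additive.toMul v : ↥(Om p G)) : G)

theorem cv_injective : Function.Injective (cv (p := p) (G := G)) := fun _ _ h =>
  Additive.toMul.injective (Subtype.ext h)

theorem cv_add (u w : Mod p G) : cv (u + w) = cv u * cv w := rfl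

theorem cv_neg (u : Mod p G) : cv (-u) = (cv u)⁻¹ := rfl

theorem cv_zero : cv (0 : Mod p G) = 1 := rfl

theorem cv_mem (u : Mod p G) : cv u ∈ Om p G := (Additive.toMul u).2

/-- The vector of an element of `Ω₁(Z(O_p(G)))`. -/
def vc {x : G} (hx : x ∈ Om p G) : Mod p G := Additive.ofMul ⟨x, hx⟩

theorem cv_vc {x : G} (hx : x ∈ Om p G) : cv (vc hx) = x := rfl

/-- Conjugation on the module. -/
def conjMod : G →* AddMonoid.End (Mod p G) where
  toFun g := MonoidHom.toAdditive ((MulAut.conjNormal g : MulAut ↥(Om p G)) : ↥(Om p G) →* ↥(Om p G))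
  map_one' := AddMonoidHom.ext fun v => cv_injective (by
    show ((MulAut.conjNormal (1 : G) (Additive.toMul v) : ↥(Om p G)) : G) = cv v
    rw [map_one]; rfl)
  map_mul' a b := AddMonoidHom.ext fun v => cv_injective (by
    show ((MulAut.conjNormal (a * b) (Additive.toMul v) : ↥(Om p G)) : G) =
      ((MulAut.conjNormal a (MulAut.conjNormal b (Additive.toMul v)) : ↥(Om p G)) : G)
    rw [map_mul]; rfl)

/-- The action of the quotient. -/
def actMod : Bar p G →* AddMonoid.End (Mod p G) :=
  QuotientGroup.lift (cen p G) conjMod fun g hg => AddMonoidHom.ext fun v => cv_injective (by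
    show ((MulAut.conjNormal g (Additive.toMul v) : ↥(Om p G)) : G) = cv v
    rw [MulAut.conjNormal_apply, mul_inv_eq_iff_eq_mul]
    exact (Subgroup.mem_centralizer_iff.1 hg _ (cv_mem v)).symm)

instance distribMod : DistribMulAction (Bar p G) (Mod p G) where
  smul g v := actMod g v
  one_smul v := by show actMod 1 v = v; rw [map_one]; rfl
  mul_smul a b v := by show actMod (a * b) v = actMod a (actMod b v); rw [map_mul]; rfl
  smul_zero g := map_zero (actMod g)
  smul_add g v w := map_add (actMod g) v w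

variable (p) in
/-- The projection. -/
abbrev pr : G →* Bar p G := QuotientGroup.mk' (cen p G)

theorem pr_surjective : Function.Surjective (pr (G := G) p) := QuotientGroup.mk'_surjective _

theorem pr_eq_one {g : G} : pr p g = 1 ↔ g ∈ cen p G := QuotientGroup.eq_one_iff g

theorem cv_smul (g : G) (v : Mod p G) : cv (pr p g • v) = g * cv v * g⁻¹ := by
  show ((MulAut.conjNormal g (Additive.toMul v) : ↥(Om p G)) : G) = _
  rw [MulAut.conjNormal_apply]
  rfl

theorem smul_eq_iff {g : G} {v : Mod p G} : pr p g • v = v ↔ g * cv v = cv v * g := by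
  rw [← cv_injective.eq_iff, cv_smul, mul_inv_eq_iff_eq_mul]

variable [Finite G]

theorem mem_fix_map {K : Subgroup G} {v : Mod p G} :
    v ∈ (FFSL2.fix (K.map (pr p)) : AddSubgroup (Mod p G)) ↔ cv v ∈ Subgroup.centralizer (K : Set G) := by
  rw [Subgroup.mem_centralizer_iff, FFSL2.mem_fix]
  exact ⟨fun h x hx => smul_eq_iff.1 (h _ ⟨x, hx, rfl⟩),
    by rintro h _ ⟨x, hx, rfl⟩; exact smul_eq_iff.2 (h x hx)⟩

variable [Fact p.Prime]

/-- The image of the Sylow subgroup. -/
noncomputable def Tbar (T : Sylow p G) : Sylow p (Bar p G) := T.mapSurjective pr_surjective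

theorem Tbar_eq (T : Sylow p G) : (Tbar T : Subgroup (Bar p G)) = (T : Subgroup G).map (pr p) := rfl

/-- The standing hypotheses. -/
structure Ctx (T : Sylow p G) (M : Subgroup G) (q : ℕ) : Prop where
  charP : Subgroup.centralizer (pCore p G : Set G) ≤ pCore p G
  coatom : IsCoatom M
  le_M : (T : Subgroup G) ≤ M
  uniq : ∀ K : Subgroup G, (T : Subgroup G) ≤ K → K ≠ ⊤ → K ≤ M
  not_normal : ¬ (T : Subgroup G).Normal
  hchar : ∀ C : Subgroup G, C ≤ baumannSubgroupOf p (T : Subgroup G) → C ≠ ⊥ →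
    (C.subgroupOf (baumannSubgroupOf p (T : Subgroup G))).Characteristic → ¬ C.Normal
  hz : ¬ (omegaOneCenter p (T : Subgroup G)).Normal
  conf : Conf (Mod p G) q (Tbar T) (M.map (pr p))

theorem card_map_mul (B : Subgroup G) :
    Nat.card ↥B = Nat.card ↥(B.map (pr p)) * Nat.card ↥(B ⊓ cen p G) := by
  have h1 := FFPM.card_range_mul ((pr p).comp B.subtype)
  rw [h1, MonoidHom.range_comp, Subgroup.range_subtype, mul_comm]
  congr 1
  refine (Subgroup.card_map_of_injective (K := ((pr p).comp B.subtype).ker) B.subtype_injective).symm.trans ?_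
  rw [← MonoidHom.comap_ker, QuotientGroup.ker_mk', ← Subgroup.subgroupOf,
    Subgroup.subgroupOf_map_subtype, inf_comm]

theorem card_fix_map (B : Subgroup G) :
    Nat.card ↥(FFSL2.fix (B.map (pr p)) : AddSubgroup (Mod p G)) =
      Nat.card ↥(Om p G ⊓ Subgroup.centralizer (B : Set G)) := Nat.card_congr
  { toFun := fun y => ⟨cv (y : Mod p G), cv_mem _, mem_fix_map.1 y.2⟩
    invFun := fun x => ⟨vc x.2.1, mem_fix_map.2 x.2.2⟩
    left_inv := fun _ => rfl
    right_inv := fun _ => rfl }

theorem card_mul_le (B D : Subgroup G) :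
    Nat.card ↥B * Nat.card ↥D ≤ Nat.card ↥(B ⊔ D : Subgroup G) * Nat.card ↥(B ⊓ D) := by
  have h : (B ⊓ D).relIndex B ≤ D.relIndex (B ⊔ D) := by
    rw [Subgroup.inf_relIndex_left]
    exact Subgroup.relIndex_le_of_le_right le_sup_left Subgroup.index_ne_zero_of_finite
  have e1 := Subgroup.relIndex_mul_relIndex ⊥ (B ⊓ D) B bot_le inf_le_left
  have e2 := Subgroup.relIndex_mul_relIndex ⊥ D (B ⊔ D) bot_le le_sup_right
  simp only [Subgroup.relIndex_bot_left] at e1 e2
  rw [← e1, ← e2]
  calc Nat.card ↥(B ⊓ D) * (B ⊓ D).relIndex B * Nat.card ↥D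
      = Nat.card ↥D * (B ⊓ D).relIndex B * Nat.card ↥(B ⊓ D) := by ring
    _ ≤ Nat.card ↥D * D.relIndex (B ⊔ D) * Nat.card ↥(B ⊓ D) := by gcongr

/-- The largest elementary abelian subgroups are best offenders. -/
theorem isBestOffender {A : Subgroup G} (hA : A ∈ maxElementaryAbelianSubgroups p G) :
    IsBestOffenderOn p (Om p G) A := by
  refine ⟨fun B hB => ?_, ?_, fun a ha => by rw [hA.1.2 a ha]; exact Subgroup.one_mem _⟩
  · set D := Om p G ⊓ Subgroup.centralizer (B : Set G) with hD
    have hDe : IsElementaryAbelian p D :=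
      Thompson.isElementaryAbelian_of_le (om_elemAb p G) inf_le_left
    have hBe : IsElementaryAbelian p B := Thompson.isElementaryAbelian_of_le hA.1 hB
    have hBD : B ≤ Subgroup.centralizer (D : Set G) := Subgroup.le_centralizer_iff.1 inf_le_right
    have h1 := hA.2 _ (Thompson.isElementaryAbelian_sup hBe hDe hBD)
    have h2 := card_mul_le B D
    refine h2.trans ((Nat.mul_le_mul_right _ h1).trans (Nat.mul_le_mul_left _ ?_))
    refine Subgroup.card_le_of_le fun x hx => ⟨hx.2.1, Subgroup.mem_centralizer_iff.2 fun a ha => ?_⟩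
    exact Thompson.elemAb_comm hA.1.1 ha (hB hx.1)
  · rw [Subgroup.commutator_le]
    intro a ha b hb
    rw [commutatorElement_def, Thompson.elemAb_comm hA.1.1 ha hb]
    simp

theorem card_le_mu {A : Subgroup G} (hA : IsBestOffenderOn p (Om p G) A) :
    Nat.card (Mod p G) ≤ mu (Mod p G) (A.map (pr p)) := by
  have h1 := hA.1 (A ⊓ cen p G) inf_le_left
  have h2 : Om p G ≤ Om p G ⊓ Subgroup.centralizer ((A ⊓ cen p G : Subgroup G) : Set G) :=
    le_inf le_rfl (Subgroup.le_centralizer_iff.1 inf_le_right)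
  have h3 := (Nat.mul_le_mul_left _ (Subgroup.card_le_of_le h2)).trans h1
  rw [card_map_mul (p := p) A, mul_comm (Nat.card ↥(A.map (pr p))), mul_assoc] at h3
  rw [mu, card_fix_map]
  exact le_of_eq_of_le (Nat.card_congr Additive.toMul) (Nat.le_of_mul_le_mul_left h3 Nat.card_pos)

omit [Finite G] [Fact p.Prime] in
theorem pCore_le_cen : pCore p G ≤ cen p G := fun x hx => Subgroup.mem_centralizer_iff.2 fun _ hv =>
  ((Subgroup.mem_centralizer_iff.1 (Thompson.omegaOne_le p _ hv).2) x hx).symm

/-- `J(T)` is characteristic in the Baumann subgroup. -/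
theorem thompson_char_baumann (T : Subgroup G) :
    ((thompsonSubgroupOf p T).subgroupOf (baumannSubgroupOf p T)).Characteristic := by
  rw [← Thompson.thompsonSubgroupOf_eq_of_le (LAE65.Block.baumann_le T)
    (LAE65.Block.thompson_le_baumann T), thompsonSubgroupOf, Subgroup.subgroupOf,
    Subgroup.comap_map_eq_self_of_injective (Subgroup.subtype_injective _)]
  infer_instance

theorem thompsonSubgroupOf_ne_bot {T : Sylow p G} (hT : (T : Subgroup G) ≠ ⊥) :
    thompsonSubgroupOf p (T : Subgroup G) ≠ ⊥ := by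
  intro e
  have : Nontrivial ↥(T : Subgroup G) := (Subgroup.nontrivial_iff_ne_bot _).2 hT
  obtain ⟨n, hn⟩ := IsPGroup.iff_card.1 T.isPGroup'
  have hdvd : p ∣ Nat.card ↥(T : Subgroup G) := by
    rw [hn]
    refine dvd_pow_self p fun e0 => ?_
    rw [e0, pow_zero] at hn
    exact hT (Subgroup.eq_bot_of_card_eq _ hn)
  refine Thompson.thompsonSubgroup_ne_bot (G := ↥(T : Subgroup G)) hdvd ?_
  exact (Subgroup.map_eq_bot_iff_of_injective _ (Subgroup.subtype_injective _)).1 e

/-- The hypotheses of the theorem give the standing hypotheses. -/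
theorem exists_ctx (hmin : IsPMinimal p G)
    (hG : Subgroup.centralizer (pCore p G : Set G) ≤ pCore p G) (T : Sylow p G)
    (hchar : ∀ C : Subgroup G, C ≤ baumannSubgroupOf p (T : Subgroup G) → C ≠ ⊥ →
      (C.subgroupOf (baumannSubgroupOf p (T : Subgroup G))).Characteristic → ¬ C.Normal)
    (hz : ¬ (omegaOneCenter p (T : Subgroup G)).Normal) : ∃ M q, Ctx T M q := by
  classical
  have hQn : (pCore p G).Normal := Thompson.instPCoreNormal
  have hQT : ∀ T' : Sylow p G, pCore p G ≤ (T' : Subgroup G) := fun T' =>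
    Thompson.isPGroup_pCore.le_sylow_of_normal T'
  obtain ⟨hTn, M, ⟨hM, hTM⟩, hMu⟩ := hmin T
  have huniqG : ∀ (T' : Sylow p G) (M' : Subgroup G), IsCoatom M' → (T' : Subgroup G) ≤ M' →
      ∀ K : Subgroup G, (T' : Subgroup G) ≤ K → K ≠ ⊤ → K ≤ M' := by
    intro T' M' hM' hT' K hK hKt
    obtain ⟨-, N', -, hNu⟩ := hmin T'
    obtain ⟨L, hL, hKL⟩ := (eq_top_or_exists_le_coatom K).resolve_left hKt
    rw [hNu M' ⟨hM', hT'⟩, ← hNu L ⟨hL, hK.trans hKL⟩]
    exact hKL
  set Z := omegaOneCenter p (T : Subgroup G) with hZdef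
  have hZV : Z ≤ Om p G := (Subgroup.closure_le _).2 fun x hx => by
    have hxC : x ∈ Subgroup.centralizer (pCore p G : Set G) :=
      Subgroup.centralizer_le (hQT T) hx.1.2
    exact Thompson.mem_omegaOne ⟨hG hxC, hxC⟩ hx.2
  have hCZ : cen p G ≤ Subgroup.centralizer (Z : Set G) := Subgroup.centralizer_le hZV
  have hstar : Subgroup.centralizer (Z : Set G) ≠ ⊤ := fun e => hz ⟨fun z hzm g => by
    have : g * z = z * g :=
      ((Subgroup.mem_centralizer_iff.1 (e.ge (Subgroup.mem_top g))) z hzm).symm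
    rwa [this, mul_inv_cancel_right]⟩
  have hTZ : (T : Subgroup G) ≤ Subgroup.centralizer (Z : Set G) := fun x hx =>
    Subgroup.mem_centralizer_iff.2 fun z hz' =>
      ((Subgroup.mem_centralizer_iff.1 (Thompson.omegaOne_le p _ hz').2) x hx).symm
  set C := cen p G with hCdef
  set π := pr (G := G) p with hπdef
  have hπs : Function.Surjective π := pr_surjective
  have hπker : π.ker = C := QuotientGroup.ker_mk' C
  have hQC : pCore p G ≤ C := pCore_le_cen
  have hCTne : C ⊔ (T : Subgroup G) ≠ ⊤ := fun e => hstar (by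
    rw [eq_top_iff, ← e]; exact sup_le hCZ hTZ)
  let Tb : Sylow p (Bar p G) := Tbar T
  have hTb : (Tb : Subgroup (G ⧸ C)) = (T : Subgroup G).map π := rfl
  have hTbn : ¬ (Tb : Subgroup (G ⧸ C)).Normal := fun hn => by
    haveI : (C ⊔ (T : Subgroup G)).Normal := by
      have e : ((Tb : Subgroup (G ⧸ C)).comap π) = C ⊔ (T : Subgroup G) := by
        rw [hTb, Subgroup.comap_map_eq, hπker, sup_comm]
      exact e ▸ hn.comap π
    have hfr := Sylow.normalizer_sup_eq_top' T (le_sup_right : (T : Subgroup G) ≤ C ⊔ T)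
    have h1 : C ⊔ (T : Subgroup G) ≤ M := huniqG T M hM hTM _ le_sup_right hCTne
    have h2 : Subgroup.normalizer ((T : Subgroup G) : Set G) ≤ M :=
      huniqG T M hM hTM _ Subgroup.le_normalizer fun e => hTn (Subgroup.normalizer_eq_top_iff.1 e)
    exact hM.1 (eq_top_iff.2 (hfr ▸ sup_le h2 h1))
  have hcore : ∀ R : Subgroup (G ⧸ C), R.Normal → IsPGroup p ↥R → R = ⊥ := by
    intro R hRn hRp
    set K := R.comap π with hK
    haveI : K.Normal := hRn.comap π
    obtain ⟨S₁⟩ : Nonempty (Sylow p ↥K) := inferInstance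
    obtain ⟨T', hT'⟩ := (S₁.isPGroup'.map K.subtype).exists_le_sylow
    have hS₁ := Agent.Thompson.Alperin.sylow_inf_eq K S₁ T' hT'
    have hKle : K ≤ C ⊔ (S₁ : Subgroup ↥K).map K.subtype := by
      intro k hk
      have hkT : π k ∈ (T'.mapSurjective hπs : Subgroup (G ⧸ C)) :=
        hRp.le_sylow_of_normal (T'.mapSurjective hπs) hk
      obtain ⟨t, ht, e⟩ := hkT
      have hc : k * t⁻¹ ∈ C := by rw [← hπker, MonoidHom.mem_ker, map_mul, map_inv, e, mul_inv_cancel]
      have htK : t ∈ K := by show π t ∈ R; rw [e]; exact hk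
      rw [show k = k * t⁻¹ * t by group]
      exact Subgroup.mul_mem_sup hc (hS₁ ▸ ⟨ht, htK⟩)
    have hfr := Sylow.normalizer_sup_eq_top S₁
    obtain ⟨hT'n, M', ⟨hM', hT'M'⟩, -⟩ := hmin T'
    have hCT' : C ⊔ (T' : Subgroup G) ≠ ⊤ := fun e => hCTne (by
      have hall : ∀ x : G ⧸ C, x ∈ (T'.mapSurjective hπs : Subgroup (G ⧸ C)) := fun x => by
        obtain ⟨g, rfl⟩ := hπs x
        have h1 : g ∈ ((T' : Subgroup G).map π).comap π := by
          rw [Subgroup.comap_map_eq, hπker, sup_comm, e]; exact Subgroup.mem_top g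
        exact h1
      have htop : (Tb : Subgroup (G ⧸ C)) = ⊤ := by
        refine Tb.is_maximal' (Q := ⊤) ?_ le_top |>.symm
        exact (T'.mapSurjective hπs).isPGroup'.to_le fun x _ => hall x
      have h2 := congrArg (Subgroup.comap π) htop
      rwa [hTb, Subgroup.comap_map_eq, hπker, sup_comm, Subgroup.comap_top] at h2)
    have hNt : Subgroup.normalizer (((S₁ : Subgroup ↥K).map K.subtype : Subgroup G) : Set G) = ⊤ := by
      by_contra hN
      have hT'N : (T' : Subgroup G) ≤
          Subgroup.normalizer (((S₁ : Subgroup ↥K).map K.subtype : Subgroup G) : Set G) := by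
        rw [← hS₁]
        intro x hx
        rw [Subgroup.mem_normalizer_iff]
        intro y
        constructor
        · rintro ⟨h1, h2⟩
          exact ⟨Subgroup.mul_mem _ (Subgroup.mul_mem _ hx h1) (Subgroup.inv_mem _ hx),
            Subgroup.Normal.conj_mem inferInstance y h2 x⟩
        · rintro ⟨h1, h2⟩
          have h1' := Subgroup.mul_mem _ (Subgroup.mul_mem _ (Subgroup.inv_mem _ hx) h1) hx
          have h2' := Subgroup.Normal.conj_mem (inferInstance : K.Normal) _ h2 x⁻¹
          exact ⟨show y ∈ (T' : Subgroup G) by simpa [mul_assoc] using h1', by simpa [mul_assoc] using h2'⟩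
      refine hM'.1 (eq_top_iff.2 (hfr ▸ sup_le (huniqG T' M' hM' hT'M' _ hT'N hN) (hKle.trans ?_)))
      exact sup_le (le_sup_left.trans (huniqG T' M' hM' hT'M' _ le_sup_right hCT'))
        (hT'.trans hT'M')
    rw [eq_bot_iff]
    intro x hx
    obtain ⟨g, rfl⟩ := hπs x
    have h1 : (S₁ : Subgroup ↥K).map K.subtype ≤ C := by
      refine le_trans ?_ hQC
      exact le_sSup ⟨Subgroup.normalizer_eq_top_iff.1 hNt, S₁.isPGroup'.map _⟩
    exact Subgroup.mem_bot.2 ((QuotientGroup.eq_one_iff g).2 ((hKle.trans (sup_le le_rfl h1)) hx))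
  have hMC : C ≤ M := le_sup_left.trans (huniqG T M hM hTM _ le_sup_right hCTne)
  have hcm : (M.map π).comap π = M := by rw [Subgroup.comap_map_eq, hπker, sup_eq_left.2 hMC]
  have hfai : ∀ z : Bar p G, (∀ v : Mod p G, z • v = v) → z = 1 := by
    intro z hzf
    obtain ⟨g, rfl⟩ := hπs z
    exact pr_eq_one.2 (Subgroup.mem_centralizer_iff.2 fun v hv =>
      (smul_eq_iff.1 (hzf (vc hv))).symm)
  have hp : ∀ v : Mod p G, p • v = 0 := fun v => by
    apply cv_injective
    show ((Additive.toMul v ^ p : ↥(Om p G)) : G) = 1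
    rw [SubmonoidClass.coe_pow]
    exact (om_elemAb p G).2 _ (Additive.toMul v).2
  have hpm : PM (Mod p G) Tb (M.map π) := by
    refine ⟨fun e => hM.1 ?_, Subgroup.map_mono hTM, fun K hK hKt => ?_, hTbn, hcore, hfai, hp,
      fun hle => hstar ?_⟩
    · rw [← hcm, e, Subgroup.comap_top]
    · rw [← Subgroup.map_comap_eq_self_of_surjective hπs K]
      refine Subgroup.map_mono (huniqG T M hM hTM _ (Subgroup.map_le_iff_le_comap.1 hK) fun e => hKt ?_)
      rw [← Subgroup.map_comap_eq_self_of_surjective hπs K, e, Subgroup.map_top_of_surjective _ hπs]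
    · rw [eq_top_iff]
      intro g _
      refine Subgroup.mem_centralizer_iff.2 fun z hz' => ?_
      have h1 : vc (hZV hz') ∈ (FFSL2.fix (Tb : Subgroup (G ⧸ C)) : AddSubgroup (Mod p G)) :=
        mem_fix_map.2 (Thompson.omegaOne_le p _ hz').2
      exact (smul_eq_iff.1 (hle h1 (π g) (Subgroup.mem_top _))).symm
  obtain ⟨A₀, hA₀, hA₀C⟩ : ∃ A ∈ maxElementaryAbelianSubgroups p G, ¬ A ≤ C := by
    by_contra! hall
    -- otherwise `J(T)` lies in `O_p(G)` and is normal
    obtain ⟨S₂, hS₂⟩ := (((T.isPGroup'.to_le (inf_le_left : (T : Subgroup G) ⊓ C ≤ T)).comap_subtype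
      (K := C))).exists_le_sylow
    obtain ⟨T'', hT''⟩ := (S₂.isPGroup'.map C.subtype).exists_le_sylow
    have hinf := Thompson.Alperin.sylow_inf_eq C S₂ T'' hT''
    obtain ⟨g, hg⟩ := MulAction.exists_smul_eq G T T''
    have hconjC : FFSL2.cj g C = C := FFPM.cj_eq_of_mem_normalizer
      (by rw [Subgroup.normalizer_eq_top]; exact Subgroup.mem_top g)
    have hcardeq : Nat.card ↥((T'' : Subgroup G) ⊓ C) ≤ Nat.card ↥((T : Subgroup G) ⊓ C) := by
      rw [← hg, ← FFSL2.card_cj g ((T : Subgroup G) ⊓ C), FFSL2.cj,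
        Subgroup.map_inf _ _ _ (MulAut.conj g).injective, ← FFSL2.cj, ← FFSL2.cj, hconjC]
      exact le_of_eq rfl
    have hle2 : (T : Subgroup G) ⊓ C ≤ (T'' : Subgroup G) ⊓ C := by
      rw [hinf]
      intro x hx
      exact ⟨⟨x, hx.2⟩, hS₂ hx, rfl⟩
    have hT0 : (S₂ : Subgroup ↥C).map C.subtype = (T : Subgroup G) ⊓ C :=
      hinf.symm.trans (Subgroup.eq_of_le_of_card_ge hle2 hcardeq).symm
    have hfr := Sylow.normalizer_sup_eq_top S₂
    have hJ : thompsonSubgroupOf p (T : Subgroup G) ≤ (T : Subgroup G) ⊓ C := by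
      rw [Thompson.thompsonSubgroupOf_eq]
      exact sSup_le fun A hA => le_inf hA.1 (hall A (Thompson.isMaxEAIn_sylow_iff T hA))
    have hN : Subgroup.normalizer ((thompsonSubgroupOf p (T : Subgroup G) : Subgroup G) : Set G) ≤ M := by
      refine huniqG T M hM hTM _ (Subgroup.le_normalizer.trans
        (Thompson.normalizer_le_normalizer_thompsonSubgroupOf _)) fun e => ?_
      exact hchar _ (LAE65.Block.thompson_le_baumann _)
        (thompsonSubgroupOf_ne_bot fun e' => hTn (e' ▸ inferInstance))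
        (thompson_char_baumann _) (Subgroup.normalizer_eq_top_iff.1 e)
    refine hM.1 (eq_top_iff.2 (hfr ▸ sup_le ?_ hMC))
    rw [hT0]
    refine le_trans ?_ hN
    rw [← Thompson.thompsonSubgroupOf_eq_of_le inf_le_left hJ]
    exact Thompson.normalizer_le_normalizer_thompsonSubgroupOf _
  obtain ⟨hBb, -, hBne⟩ := Thompson.bestOffender_replacement
    (Thompson.isPGroup_of_isElementaryAbelian (om_elemAb p G)) (om_elemAb p G).1
    (le_top.trans (Subgroup.normalizer_eq_top (H := Om p G)).ge) (isBestOffender hA₀)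
    (U := Om p G) le_rfl
  set B := A₀ ⊓ Subgroup.centralizer ((⁅Om p G, A₀⁆ : Subgroup G) : Set G) with hBdef
  have hBC : ¬ B ≤ C := fun hle => hBne (fun e => hA₀C
    (Subgroup.commutator_eq_bot_iff_le_centralizer.1 (Subgroup.commutator_comm (Om p G) A₀ ▸ e))) (by
    rw [Subgroup.commutator_comm, Subgroup.commutator_eq_bot_iff_le_centralizer]; exact hle)
  obtain ⟨q, hconf⟩ := exists_conf hpm (A := B.map π)
    (fun e => hBC (by rw [← hπker]; exact (Subgroup.map_eq_bot_iff B).1 e))
    (by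
      rintro _ ⟨b, hb, rfl⟩ v
      rw [mem_fix_map, sub_eq_add_neg, cv_add, cv_smul, cv_neg]
      refine Subgroup.mem_centralizer_iff.2 fun c hc => ?_
      exact (Subgroup.mem_centralizer_iff.1 hc.2 _ (by
        rw [Subgroup.commutator_comm]
        exact Subgroup.commutator_mem_commutator hb.1 (cv_mem v))).symm)
    (card_le_mu hBb)
  exact ⟨M, q, hG, hM, hTM, huniqG T M hM hTM, hTn, hchar, hz, hconf⟩

end Cfsg.Agent.Block82
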