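import Cfsg.Agent.Lib.Thompson.Block.Family
import Cfsg.Agent.Lib.Thompson.Block.Perm

/-!
The symmetric blocks.
-/

set_option autoImplicit false
set_option linter.style.haveILetI false
set_option linter.unusedSectionVars false

open Cfsg
open scoped commutatorElement

namespace Cfsg.Agent.Block82

open Cfsg.Agent.FFPM

variable {p : ℕ} {G : Type*} [Group G] [Finite G] [hp : Fact p.Prime]

theorem mem_sup_norm {H : Type*} [Group H] {X Y : Subgroup H}
    (h : Y ≤ Subgroup.normalizer (X : Set H)) {s : H} (hs : s ∈ X ⊔ Y) :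
    ∃ x ∈ X, ∃ y ∈ Y, s = x * y := by
  obtain ⟨y, hy, x, hx, rfl⟩ := PushUp62.mem_sup_of_le_normalizer h ((sup_comm X Y).le hs)
  exact ⟨y * x * y⁻¹, (Subgroup.mem_normalizer_iff.1 (h hy) x).1 hx, y, hy,
    (inv_mul_cancel_right _ _).symm⟩

/-- The coordinates attached to a class over two elements. -/
structure SymData (T : Sylow p G) (A : Subgroup (Bar p G)) {N : ℕ} (x : Fin N → Bar p G)
    (e : Fin N → Mod p G)
    (π : ↥((clsSup (Mod p G) 2 (Tbar T) 1 A).comap (pr p) : Subgroup G) →* Equiv.Perm (Fin (N + 1))) :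
    Prop where
  D : ClsTwo (Mod p G) (Tbar T) 1 A x e
  surj : Function.Surjective π
  ker : ∀ g : ↥((clsSup (Mod p G) 2 (Tbar T) 1 A).comap (pr p) : Subgroup G), π g = 1 ↔ (g : G) ∈ cen p G
  acts : ∀ g : ↥((clsSup (Mod p G) 2 (Tbar T) 1 A).comap (pr p) : Subgroup G), D.stars.ActsAs (pr p (g : G)) (π g)
  star : ∀ (g : ↥((clsSup (Mod p G) 2 (Tbar T) 1 A).comap (pr p) : Subgroup G)) (k : Fin N), pr p (g : G) = x k → π g = Equiv.swap k.castSucc (Fin.last N)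

namespace Ctx

variable {T : Sylow p G} {M : Subgroup G} (h : Ctx T M 2) {A : Subgroup (Bar p G)}
include h

local notation "𝐁" => baumannSubgroupOf p (T : Subgroup G)
local notation "𝐌𝐬" => mems (Mod p G) 2 (Tbar T) 1
local notation "𝐊" => clsK T 2 A
local notation "𝐔" => (⁅Om p G, clsK T 2 A⁆ : Subgroup G)
local notation "𝐂𝐥" => clsSup (Mod p G) 2 (Tbar T) 1 A

theorem exists_symData (hA : A ∈ 𝐌𝐬) : ∃ (N : ℕ) (x : Fin N → Bar p G) (e : Fin N → Mod p G)
    (π : ↥((𝐂𝐥).comap (pr p) : Subgroup G) →* Equiv.Perm (Fin (N + 1))), SymData T A x e π := by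
  obtain ⟨N, x, e, D⟩ := FFPM.exists_clsTwo h.conf hA
  obtain ⟨ρ, hρ⟩ := D.iso
  let f : ↥((𝐂𝐥).comap (pr p) : Subgroup G) →* ↥(Subgroup.closure (Set.range x)) :=
    (MulEquiv.subgroupCongr D.gen).toMonoidHom.comp
      (((pr p).comp (Subgroup.subtype _)).codRestrict _ fun g => g.2)
  have hf : ∀ g, (f g : Bar p G) = pr p (g : G) := fun g => rfl
  refine ⟨N, x, e, ρ.toMonoidHom.comp f, D, ρ.surjective.comp fun y => ?_, fun g => ?_,
    fun g => hρ (f g), fun g k hk => ?_⟩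
  · obtain ⟨g, hg⟩ := pr_surjective (y : Bar p G)
    exact ⟨⟨g, show pr p g ∈ 𝐂𝐥 from hg ▸ D.gen.ge y.2⟩, Subtype.ext hg⟩
  · show ρ (f g) = 1 ↔ _
    rw [← map_one ρ, ρ.injective.eq_iff, ← pr_eq_one, ← hf]
    exact ⟨fun e0 => by rw [e0]; rfl, fun e0 => Subtype.ext e0⟩
  · refine D.stars.actsAs_unique (hρ (f g)) fun w hw => ?_
    rw [hf, hk, Equiv.swap_inv]
    exact D.stars.smul_res k hw

section Data

variable (hA : A ∈ mems (Mod p G) 2 (Tbar T) 1) {N : ℕ} {x : Fin N → Bar p G} {e : Fin N → Mod p G}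
  {π : ↥((clsSup (Mod p G) 2 (Tbar T) 1 A).comap (pr p) : Subgroup G) →* Equiv.Perm (Fin (N + 1))}
  (d : SymData T A x e π)
include hA d

theorem x_mem (k : Fin N) : x k ∈ 𝐂𝐥 := d.D.gen.ge (Subgroup.subset_closure ⟨k, rfl⟩)

theorem x_sq (k : Fin N) : x k * x k = 1 := by
  obtain ⟨X, B, -, -, hX, ek⟩ := d.D.own k
  rw [← ek]
  exact (h.conf.star_mem hX).el_smul_el

theorem K_le_comap : 𝐊 ≤ (𝐂𝐥).comap (pr p) :=
  Subgroup.map_le_iff_le_comap.1 (h.map_K_le hA)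

theorem mem_map_K {z : Bar p G} (hz : z ∈ 𝐂𝐥) (h3 : z ^ 3 = 1) : z ∈ (𝐊).map (pr p) := by
  obtain ⟨k, hk, r, hr, rfl⟩ := mem_sup_norm h.roots_le_normalizer
    (h.cls_le_sup hz)
  obtain ⟨j, hj⟩ := (Tbar T).isPGroup' ⟨r, h.conf.roots_le hr⟩
  have hj' : r ^ 2 ^ j = 1 := by
    have := congrArg Subtype.val hj
    simpa [d.D.p_eq] using this
  set P := (𝐊).map (pr p)
  set R := Subgroup.normalizer (P : Set (Bar p G))
  let m := QuotientGroup.mk' (P.subgroupOf R)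
  have hrR : r ∈ R := h.roots_le_normalizer hr
  have hkR : k ∈ R := Subgroup.le_normalizer hk
  have h1 : m ⟨k * r, mul_mem hkR hrR⟩ = m ⟨r, hrR⟩ := by
    rw [show (⟨k * r, mul_mem hkR hrR⟩ : ↥R) = ⟨k, hkR⟩ * ⟨r, hrR⟩ from rfl, map_mul,
      show m ⟨k, hkR⟩ = 1 from (QuotientGroup.eq_one_iff _).2 hk, one_mul]
  have h2 : (m ⟨r, hrR⟩) ^ 3 = 1 := by
    rw [← h1, ← map_pow]
    convert map_one m using 2
    exact Subtype.ext h3
  have h2' : (m ⟨r, hrR⟩) ^ 2 ^ j = 1 := by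
    rw [← map_pow]
    convert map_one m using 2
    exact Subtype.ext hj'
  have h4 := pow_gcd_eq_one.2 ⟨h2, h2'⟩
  rw [((show Nat.Coprime 3 2 by norm_num).pow_right j).gcd_eq_one, pow_one] at h4
  exact P.mul_mem hk (Subgroup.mem_subgroupOf.1 ((QuotientGroup.eq_one_iff (N := P.subgroupOf R) ⟨r, hrR⟩).1 h4))

theorem star_three {k l : Fin N} (hkl : k ≠ l) : (x k * x l) ^ 3 = 1 := by
  obtain ⟨ρ, hρ⟩ := d.D.iso
  have hmem : ∀ i, x i ∈ Subgroup.closure (Set.range x) := fun i => Subgroup.subset_closure ⟨i, rfl⟩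
  have hx : ∀ i, ρ ⟨x i, hmem i⟩ = Equiv.swap i.castSucc (Fin.last N) := fun i =>
    d.D.stars.actsAs_unique (hρ _) fun w hw => by
      rw [Equiv.swap_inv]; exact d.D.stars.smul_res i hw
  have h1 : ρ ((⟨x k, hmem k⟩ * ⟨x l, hmem l⟩) ^ 3) = 1 := by
    rw [map_pow, map_mul, hx, hx, Equiv.swap_comm k.castSucc, Equiv.swap_comm l.castSucc]
    have h3 := (Equiv.Perm.isThreeCycle_swap_mul_swap_same (a := Fin.last N)
      (b := k.castSucc) (c := l.castSucc) (Fin.castSucc_lt_last k).ne'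
      (Fin.castSucc_lt_last l).ne' (fun e => hkl (Fin.castSucc_injective _ e))).orderOf
    rw [← h3]
    exact pow_orderOf_eq_one _
  rw [← map_one ρ, ρ.injective.eq_iff] at h1
  exact congrArg Subtype.val h1

theorem eq_zero_of_fix {v : Mod p G} (hv : v ∈ vs 𝐔)
    (hf : v ∈ (FFSL2.fix ((𝐊).map (pr p)) : AddSubgroup (Mod p G))) : v = 0 := by
  classical
  obtain ⟨c, rfl⟩ := d.D.range.le (h.vs_U_le hA hv)
  set s := d.D.stars
  have hsingle : ∀ (k : Fin N) (a : ZMod 2), s.f (Pi.single k a) = sm a (e k) := fun k a => by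
    show ∑ l, sm _ (e l) = _
    rw [Finset.sum_eq_single k (fun l _ hl => by rw [Pi.single_eq_of_ne hl, sm_zero])
      (fun hh => absurd (Finset.mem_univ k) hh), Pi.single_eq_same]
  have heq : ∀ k l, k ≠ l → ∑ i, c i + c k = 0 := by
    intro k l hkl
    have h1 := hf _ (h.mem_map_K hA d (mul_mem (h.x_mem hA d k) (h.x_mem hA d l))
      (h.star_three hA d hkl))
    rw [mul_smul] at h1
    have h2 : x l • s.f c = x k • s.f c := by
      conv_rhs => rw [← h1]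
      rw [← mul_smul, h.x_sq hA d, one_smul]
    rw [s.smul_f, s.smul_f, add_right_inj, ← hsingle, ← hsingle] at h2
    have h3 := congrFun (s.f_injective h2) k
    rw [Pi.single_eq_same, Pi.single_eq_of_ne hkl] at h3
    exact h3.symm
  have h0 : c = 0 := s.eq_zero_of_fixed fun k => by
    obtain ⟨l, hl⟩ : ∃ l, k ≠ l := by
      by_contra! hall
      have := s.pos
      have e0 := hall ⟨0, by omega⟩
      have e1 := hall ⟨1, by omega⟩
      rw [e0] at e1
      simp at e1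
    rw [s.smul_f, heq k l hl, sm_zero, add_zero]
  rw [h0, map_zero]

theorem U_inf_centralizer : 𝐔 ⊓ Subgroup.centralizer (𝐊 : Set G) = ⊥ := by
  rw [eq_bot_iff]
  rintro u ⟨hu, huc⟩
  have h1 : vc (h.U_le_om' hu) = 0 := h.eq_zero_of_fix hA d (v := vc (h.U_le_om' hu)) hu (by
    rw [mem_fix_map, cv_vc]; exact huc)
  have h2 := congrArg cv h1
  rw [cv_vc, cv_zero] at h2
  exact Subgroup.mem_bot.2 h2

theorem K_inf_cen_isPGroup : IsPGroup p ↥(𝐊 ⊓ cen p G) := by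
  have h3 : p ≠ 3 := by rw [d.D.p_eq]; norm_num
  refine LAE62.isPGroup_of_coprime_trivial fun z hz hcop => ?_
  have hzc : z ∈ Subgroup.centralizer ((pCore p G : Subgroup G) : Set G) := by
    refine Subgroup.mem_centralizer_iff.2 fun r hr => ?_
    exact (PushUp62.commute_of_stabilizes (p := p) (n := orderOf z) (x := r)
      ((Thompson.isPGroup_of_isElementaryAbelian (om_elemAb p G)).to_le h.U_le_om')
      (fun y hy => (Subgroup.mem_centralizer_iff.1 hz.2 y (h.U_le_om' hy)).symm)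
      (pow_orderOf_eq_one z) hcop (h.cen_comm_le h3 (pCore_le_cen hr) hz.1)).symm
  obtain ⟨i, hi⟩ := (Thompson.isPGroup_pCore (p := p) (G := G)) ⟨z, h.charP hzc⟩
  have h2 := pow_gcd_eq_one.2 ⟨pow_orderOf_eq_one z,
    show z ^ p ^ i = 1 by simpa using congrArg Subtype.val hi⟩
  rwa [(Nat.Coprime.pow_right i hcop).gcd_eq_one, pow_one] at h2

theorem sup_inf_cen_le : (𝐊 ⊔ 𝐁) ⊓ cen p G ≤ 𝐁 := by
  have h3 : p ≠ 3 := by rw [d.D.p_eq]; norm_num
  have hpg : IsPGroup p ↥((𝐊 ⊔ 𝐁) ⊓ cen p G) := by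
    rintro ⟨z, hz, hzc⟩
    obtain ⟨k, hk, b, hb, rfl⟩ := mem_sup_norm h.B_le_normalizer_K hz
    obtain ⟨i, hi⟩ := T.isPGroup' ⟨b, LAE65.Block.baumann_le _ hb⟩
    set R := Subgroup.normalizer (𝐊 : Set G)
    let m := QuotientGroup.mk' ((𝐊).subgroupOf R)
    have hkR : k ∈ R := Subgroup.le_normalizer hk
    have hbR : b ∈ R := h.B_le_normalizer_K hb
    have h1 : (m (⟨k, hkR⟩ * ⟨b, hbR⟩)) ^ p ^ i = 1 := by
      rw [map_mul, show m ⟨k, hkR⟩ = 1 from (QuotientGroup.eq_one_iff _).2 hk, one_mul, ← map_pow]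
      convert map_one m using 2
      exact Subtype.ext (by simpa using congrArg Subtype.val hi)
    rw [← map_pow] at h1
    have h2 : (k * b) ^ p ^ i ∈ 𝐊 := Subgroup.mem_subgroupOf.1
      ((QuotientGroup.eq_one_iff (N := (𝐊).subgroupOf R) _).1 h1)
    obtain ⟨j, hj⟩ := h.K_inf_cen_isPGroup hA d ⟨(k * b) ^ p ^ i, h2, pow_mem hzc _⟩
    exact ⟨i + j, Subtype.ext (by
      have := congrArg Subtype.val hj
      simpa [← pow_mul, ← pow_add] using this)⟩
  intro z hz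
  have hzQ : z ∈ pCore p G := h.pgroup_le_cen hpg inf_le_right hz
  refine ⟨Thompson.pCore_le_sylow T hzQ, Subgroup.mem_centralizer_iff.2 fun y hy => ?_⟩
  have hyQ : y ∈ pCore p G := h.zJ_le_core hy
  have hyo : ∀ u ∈ Om p G, y * u = u * y := fun u hu =>
    (Subgroup.mem_centralizer_iff.1 (pCore_le_cen hyQ) u hu).symm
  have hzo : ∀ u ∈ Om p G, z * u = u * z := fun u hu =>
    (Subgroup.mem_centralizer_iff.1 hz.2 u hu).symm
  have hle : 𝐊 ⊔ 𝐁 ≤ PushUp62.centMod h.zJ 𝐔 := by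
    refine sup_le (fun k hk => ⟨h.normalizer_K_le (Subgroup.le_normalizer hk), fun y hy =>
      h.cen_comm_le h3 (pCore_le_cen (h.zJ_le_core hy)) hk⟩) fun b hb =>
      ⟨h.normalizer_K_le (h.B_le_normalizer_K hb), fun y hy => ?_⟩
    rw [commutatorElement_eq_one_iff_mul_comm.2
      (Subgroup.mem_centralizer_iff.1 hb.2 y hy).symm]
    exact one_mem _
  have hu : ⁅z, y⁆ ∈ 𝐔 := (hle hz.1).2 y hy
  have hfix : ⁅z, y⁆ ∈ Subgroup.centralizer (𝐊 : Set G) := by
    refine Subgroup.mem_centralizer_iff.2 fun k hk => ?_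
    have hu1 : ⁅k, z⁆ ∈ Om p G := h.U_le_om' (h.cen_comm_le h3 hz.2 hk)
    have hu2 : ⁅k, y⁆ ∈ Om p G := h.U_le_om' (h.cen_comm_le h3 (pCore_le_cen hyQ) hk)
    set u1 := ⁅k, z⁆ with hu1d
    set u2 := ⁅k, y⁆ with hu2d
    have e1 : k * z * k⁻¹ = u1 * z := by rw [hu1d, commutatorElement_def]; group
    have e2 : k * y * k⁻¹ = u2 * y := by rw [hu2d, commutatorElement_def]; group
    have hcomm : u1 * u2 = u2 * u1 := Thompson.elemAb_comm (om_elemAb p G).1 hu1 hu2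
    have hy1 := hyo u1 hu1
    have hy2 := hyo u2 hu2
    have hz1 := hzo u1 hu1
    have hz2 := hzo u2 hu2
    have e3 : k * ⁅z, y⁆ * k⁻¹ = ⁅z, y⁆ := by
      rw [show k * ⁅z, y⁆ * k⁻¹ = ⁅k * z * k⁻¹, k * y * k⁻¹⁆ by
        simp only [commutatorElement_def]; group, e1, e2, PushUp62.commutator_mul_right,
        PushUp62.commutator_mul_left, commutatorElement_eq_one_iff_mul_comm.2 hcomm,
        commutatorElement_eq_one_iff_mul_comm.2 hz2, PushUp62.commutator_mul_left,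
        commutatorElement_eq_one_iff_mul_comm.2 hy1.symm]
      have hc1 : u1 * ⁅z, y⁆ = ⁅z, y⁆ * u1 :=
        Thompson.elemAb_comm (om_elemAb p G).1 hu1 (h.U_le_om' hu)
      have hc2 : u2 * ⁅z, y⁆ = ⁅z, y⁆ * u2 :=
        Thompson.elemAb_comm (om_elemAb p G).1 hu2 (h.U_le_om' hu)
      simp only [mul_one, one_mul, inv_one, mul_inv_cancel, hc1, mul_inv_cancel_right, hc2]
    exact mul_inv_eq_iff_eq_mul.1 e3
  have h1 : ⁅z, y⁆ = 1 := by
    rw [← Subgroup.mem_bot, ← h.U_inf_centralizer hA d]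
    exact ⟨hu, hfix⟩
  exact (commutatorElement_eq_one_iff_mul_comm.1 h1).symm

theorem K_inf_cen : 𝐊 ⊓ cen p G = 𝐔 := by
  classical
  refine le_antisymm ?_ (le_inf h.U_le_K (h.U_le_om'.trans h.om_le_cen))
  have h3 : p ≠ 3 := by rw [d.D.p_eq]; norm_num
  set H : Subgroup G := (𝐊 ⊔ 𝐁) ⊓ (𝐂𝐥).comap (pr p) with hH
  have hHn : H ≤ Subgroup.normalizer (𝐔 : Set G) :=
    inf_le_left.trans ((sup_le Subgroup.le_normalizer h.B_le_normalizer_K).trans h.normalizer_K_le)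
  have hUH : 𝐔 ≤ H := le_inf (h.U_le_K.trans le_sup_left) (h.U_le_K.trans (h.K_le_comap hA d))
  haveI : ((𝐔).subgroupOf H).Normal := (Subgroup.normal_subgroupOf_iff_le_normalizer hUH).2 hHn
  let π₁ : ↥H →* Equiv.Perm (Fin (N + 1)) := π.comp (Subgroup.inclusion inf_le_right)
  have hker : ∀ g : ↥H, π₁ g = 1 ↔ (g : G) ∈ cen p G := fun g => d.ker _
  have hsurj : Function.Surjective π₁ := by
    intro σ
    obtain ⟨g, rfl⟩ := d.surj σ
    obtain ⟨k, hk, r, hr, e0⟩ := mem_sup_norm h.roots_le_normalizer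
      (h.cls_le_sup (A := A) g.2)
    obtain ⟨k', hk', rfl⟩ := hk
    obtain ⟨b, hb, rfl⟩ := h.map_B.ge hr
    have hmem : k' * b ∈ H := ⟨Subgroup.mul_mem_sup hk' hb, by
      show pr p (k' * b) ∈ 𝐂𝐥
      rw [map_mul, ← e0]; exact g.2⟩
    refine ⟨⟨k' * b, hmem⟩, ?_⟩
    rw [← inv_inv (π g)]
    refine eq_inv_of_mul_eq_one_left ?_
    show π _ * (π g)⁻¹ = 1
    rw [← map_inv, ← map_mul, d.ker]
    exact pr_eq_one.1 (show pr p (k' * b * (g : G)⁻¹) = 1 by
      rw [map_mul, map_mul, map_inv, ← e0, mul_inv_cancel])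
  obtain ⟨w, hwB, hwa, hw2, hwc⟩ := (h.isRoot_rootOf hA).exists_inv h rfl d.D.p_eq
  have hUA : (⁅Om p G, blkE T 2 A⁆ : Subgroup G) ≤ 𝐔 :=
    Subgroup.commutator_mono le_rfl (h.blkE_le_K (h.self_mem_cls hA))
  have hwP : w ∈ (𝐂𝐥).comap (pr p) := by
    show pr p w ∈ 𝐂𝐥
    rw [hwa]
    exact h.conf.le_clsSup hA (h.conf.self_mem_line hA) hA.1.el_spec.1
  let wH : ↥H := ⟨w, Subgroup.mem_sup_right hwB, hwP⟩
  obtain ⟨k₀, l₀, hkl, hel, hoth⟩ := d.D.pair A hA (Or.inl rfl)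
  have hkl' : k₀.castSucc ≠ l₀.castSucc := fun e' => hkl (Fin.castSucc_injective _ e')
  have hx : ∀ i (g : ↥H), pr p (g : G) = x i → π₁ g = Equiv.swap i.castSucc (Fin.last N) :=
    fun i g hg => d.star _ i hg
  have hτ : π₁ wH = Equiv.swap k₀.castSucc l₀.castSucc := by
    obtain ⟨gk, egk⟩ := hsurj (Equiv.swap k₀.castSucc (Fin.last N))
    obtain ⟨gl, egl⟩ := hsurj (Equiv.swap l₀.castSucc (Fin.last N))
    have hval : ∀ (i : Fin N) (g : ↥H), π₁ g = Equiv.swap i.castSucc (Fin.last N) →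
        pr p (g : G) = x i := by
      intro i g hg
      obtain ⟨g', hg'⟩ := pr_surjective (x i)
      have hP : g' ∈ (𝐂𝐥).comap (pr p) := show pr p g' ∈ 𝐂𝐥 from hg' ▸ h.x_mem hA d i
      have h1 : π ((⟨g', hP⟩)⁻¹ * Subgroup.inclusion inf_le_right g) = 1 := by
        rw [map_mul, map_inv, d.star ⟨g', hP⟩ i hg', inv_mul_eq_one]
        exact hg.symm
      have h2 := pr_eq_one.2 ((d.ker _).1 h1)
      rw [← hg']
      simp only [Subgroup.coe_mul, Subgroup.coe_inv, Subgroup.coe_inclusion, map_mul, map_inv] at h2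
      exact (inv_mul_eq_one.1 h2).symm
    have h1 : π₁ (wH * (gk * gl * gk)⁻¹) = 1 := (hker _).2 (pr_eq_one.1 (by
      show pr p (w * ((gk : G) * gl * gk)⁻¹) = 1
      rw [map_mul, map_inv, map_mul, map_mul, hval _ _ egk, hval _ _ egl, hwa, hel, mul_inv_cancel]))
    rw [map_mul, map_inv, mul_inv_eq_one, map_mul, map_mul, egk, egl] at h1
    rw [h1, Equiv.swap_comm k₀.castSucc (Fin.last N)]
    exact Equiv.swap_mul_swap_mul_swap (Fin.castSucc_lt_last l₀).ne hkl'.symm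
  let m := QuotientGroup.mk' ((𝐔).subgroupOf H)
  set C : Subgroup ↥H := (Subgroup.centralizer {m wH}).comap m with hC
  have hmemC : ∀ g : ↥H, ⁅(g : G), w⁆ ∈ 𝐔 → g ∈ C := by
    intro g hg
    rw [hC, Subgroup.mem_comap, Subgroup.mem_centralizer_singleton_iff]
    rw [← commutatorElement_eq_one_iff_mul_comm, ← map_commutatorElement]
    exact (QuotientGroup.eq_one_iff _).2 hg
  have hkerC : ∀ g : ↥H, π₁ g = 1 → g ∈ C := fun g hg => by
    refine hmemC g ?_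
    have hgB : (g : G) ∈ 𝐁 := h.sup_inf_cen_le hA d ⟨g.2.1, (hker g).1 hg⟩
    have := hUA (hwc _ hgB)
    rw [← commutatorElement_inv w (g : G)]
    exact Subgroup.inv_mem _ this
  have hcent : ∀ g : ↥H, π₁ g * π₁ wH = π₁ wH * π₁ g → g ∈ C := by
    intro g hg
    rw [hτ] at hg
    have hR : π₁ g ∈ C.map π₁ := by
      refine mem_of_commute_swap (R := C.map π₁) hkl' (Fin.castSucc_lt_last k₀).ne' (Fin.castSucc_lt_last l₀).ne'
        ⟨wH, hmemC wH ?_, hτ⟩ (fun i hik hil hio => ?_) hg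
      · rw [show (wH : G) = w from rfl, commutatorElement_self]; exact one_mem _
      obtain ⟨i, rfl⟩ := Fin.exists_castSucc_eq.2 hio
      obtain ⟨B, hB, hlB, hne, hxB⟩ := hoth i (fun e' => hik (by rw [e'])) (fun e' => hil (by rw [e']))
      have hrB := h.isRoot_rootOf hB
      have hBk : B ∈ clsOf T 2 A := ⟨hB, hlB⟩
      suffices hle : (blkE T 2 B).map (pr p) ⊔ B ≤ C.map ((pr p).comp H.subtype) by
        obtain ⟨g', hg', e'⟩ := hle (hrB.line_le h hxB)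
        exact ⟨g', hg', hx i g' e'⟩
      have hwA : ∀ y ∈ (blkE T 2 B).map (pr p), y * pr p w = pr p w * y := by
        intro y hy
        refine h.conf.com_oth hB y (h.map_E_le_line hB hy) _ ?_
        rw [hwa]
        exact le_sSup (s := mems (Mod p G) 2 (Tbar T) 1 \ {B}) ⟨hA, Ne.symm hne⟩ hA.1.el_spec.1
      refine sup_le ?_ ?_
      · rintro _ ⟨f, hf, rfl⟩
        refine ⟨⟨f, Subgroup.mem_sup_left (h.blkE_le_K hBk hf), h.K_le_comap hA d (h.blkE_le_K hBk hf)⟩,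
          hmemC _ ?_, rfl⟩
        have h1 : ⁅f, w⁆ ∈ blkE T 2 B ⊓ cen p G :=
          ⟨Subgroup.le_normalizer_iff_commutator_le_left.1 (h.B_le_normalizer_E hB)
            (Subgroup.commutator_mem_commutator hf hwB), pr_eq_one.1 (by
            rw [map_commutatorElement, commutatorElement_eq_one_iff_mul_comm]
            exact hwA _ ⟨f, hf, rfl⟩)⟩
        have h2 := hrB.E_cen_le h h1
        rw [hrB.core_eq_U h h3] at h2
        exact Subgroup.commutator_mono le_rfl (h.blkE_le_K hBk) h2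
      · intro y hy
        rcases hB.1.eq_el hy with rfl | rfl
        · exact one_mem _
        obtain ⟨v, hvB, hva, -, -⟩ := hrB.exists_inv h rfl d.D.p_eq
        refine ⟨⟨v, Subgroup.mem_sup_right hvB, ?_⟩, hmemC _ ?_, hva⟩
        · show pr p v ∈ 𝐂𝐥
          rw [hva]
          exact h.line_le_cls hA hBk (le_sSup (s := line (Mod p G) 2 (Tbar T) 1 B)
            (h.conf.self_mem_line hB) hB.1.el_spec.1)
        · show ⁅v, w⁆ ∈ 𝐔
          rw [← commutatorElement_inv w v]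
          exact Subgroup.inv_mem _ (hUA (hwc v hvB))
    obtain ⟨g', hg', e'⟩ := hR
    have := hkerC (g'⁻¹ * g) (by rw [map_mul, map_inv, e', inv_mul_cancel])
    have h2 := C.mul_mem hg' this
    rwa [mul_inv_cancel_left] at h2
  let π₂ : ↥H ⧸ (𝐔).subgroupOf H →* Equiv.Perm (Fin (N + 1)) :=
    QuotientGroup.lift _ π₁ fun g hg => (hker g).2 (h.om_le_cen (h.U_le_om' hg))
  have hπ₂ : ∀ g, π₂ (m g) = π₁ g := fun g => rfl
  have hπ₂s : Function.Surjective π₂ := fun σ => by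
    obtain ⟨g, rfl⟩ := hsurj σ; exact ⟨m g, rfl⟩
  have hc2 : m wH * m wH = 1 := by
    rw [← map_mul]
    exact (QuotientGroup.eq_one_iff _).2 (by
      show w * w ∈ 𝐔
      rw [hw2]; exact one_mem _)
  have key : ∀ y ∈ Subgroup.normalClosure ({m wH} : Set _), π₂ y = 1 → y = 1 := fun y hy hy1 =>
    eq_one_of_mem_normalClosure π₂ hπ₂s hkl' hc2 ((hπ₂ wH).trans hτ) (fun g hg => by
      obtain ⟨g, rfl⟩ := QuotientGroup.mk'_surjective _ g
      have h1 : g ∈ C := hcent g (by rw [hτ]; exact hg)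
      rw [hC, Subgroup.mem_comap, Subgroup.mem_centralizer_singleton_iff] at h1
      exact h1) hy hy1
  set Nc := Subgroup.normalClosure ({m wH} : Set (↥H ⧸ (𝐔).subgroupOf H)) with hNc
  have htop : ∀ σ, σ ∈ Nc.map π₂ := by
    have hn : (Nc.map π₂).Normal := Subgroup.normalClosure_normal.map π₂ hπ₂s
    have : Nc.map π₂ = ⊤ := by
      rw [eq_top_iff, ← Equiv.Perm.closure_isSwap, Subgroup.closure_le]
      rintro _ ⟨i, j, hij, rfl⟩
      obtain ⟨σ, hσk, hσl⟩ := exists_perm_pair hkl' hij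
      have h1 := hn.conj_mem _ ⟨_, Subgroup.subset_normalClosure rfl, (hπ₂ wH).trans hτ⟩ σ
      rwa [Equiv.mul_swap_eq_swap_mul, mul_inv_cancel_right, hσk, hσl] at h1
    exact fun σ => this ▸ Subgroup.mem_top σ
  have hsub : 𝐊 ≤ (Nc.comap m).map H.subtype := by
    refine h.K_res.ge.trans (pResidualOf_le_iff.2 fun y hy hc => ?_)
    have hyH : y ∈ H := ⟨Subgroup.mem_sup_left hy, h.K_le_comap hA d hy⟩
    refine ⟨⟨y, hyH⟩, ?_, rfl⟩
    show m ⟨y, hyH⟩ ∈ Nc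
    haveI : Nc.Normal := Subgroup.normalClosure_normal
    rw [← QuotientGroup.eq_one_iff]
    set z : ↥H := ⟨y, hyH⟩ with hz0
    obtain ⟨n, hn, en⟩ := htop (π₂ (m z))
    obtain ⟨n, rfl⟩ := QuotientGroup.mk'_surjective _ n
    have h1 : π₁ (n⁻¹ * z) = 1 := by
      rw [← hπ₂, map_mul, map_inv, map_mul, map_inv, show π₂ (m n) = π₂ (m z) from en, inv_mul_cancel]
    have hpg : IsPGroup p ↥((𝐊 ⊔ 𝐁) ⊓ cen p G) :=
      h.B_isPGroup.to_le (h.sup_inf_cen_le hA d)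
    obtain ⟨i, hi⟩ := hpg ⟨((n⁻¹ * z : ↥H) : G), (n⁻¹ * z : ↥H).2.1, (hker _).1 h1⟩
    have hi' : (n⁻¹ * z) ^ p ^ i = 1 := Subtype.ext (by simpa using congrArg Subtype.val hi)
    let m' := (QuotientGroup.mk' Nc).comp m
    have hm : m' z = m' (n⁻¹ * z) := by
      rw [map_mul, map_inv, show m' n = 1 from (QuotientGroup.eq_one_iff _).2 hn, inv_one, one_mul]
    have e1 : m' z ^ p ^ i = 1 := by rw [hm, ← map_pow, hi', map_one]
    have e2 : m' z ^ orderOf y = 1 := by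
      rw [← map_pow, show z ^ orderOf y = 1 from Subtype.ext (by simp [hz0, pow_orderOf_eq_one]),
        map_one]
    have h4 := pow_gcd_eq_one.2 ⟨e2, e1⟩
    rw [(hc.pow_right i).gcd_eq_one, pow_one] at h4
    exact h4
  rintro z ⟨hzK, hzc⟩
  obtain ⟨g, hg, rfl⟩ := hsub hzK
  exact (QuotientGroup.eq_one_iff g).1 (key (m g) hg ((hker g).2 hzc))

end Data

end Ctx

end Cfsg.Agent.Block82
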