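import Cfsg.Agent.Lib.Thompson.Block.Sym

/-!
The symmetric blocks and their intersection with `C*(G, T)`.
-/

set_option autoImplicit false
set_option linter.style.haveILetI false
set_option linter.unusedSectionVars false

open Cfsg
open scoped commutatorElement

namespace Cfsg.Agent.Block82

open Cfsg.Agent.FFPM

/-- The permutations fixing the last point, inside the larger symmetric group. -/
def lastHom (n : ℕ) : Equiv.Perm (Fin n) →* Equiv.Perm (Fin (n + 1)) :=
  Equiv.Perm.extendDomainHom (finSuccAboveEquiv (Fin.last n))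

theorem range_lastHom (n : ℕ) {σ : Equiv.Perm (Fin (n + 1))} :
    σ ∈ ((alternatingGroup (Fin n)).map (lastHom n)) ↔
      σ ∈ alternatingGroup (Fin (n + 1)) ∧ σ (Fin.last n) = Fin.last n := by
  constructor
  · rintro ⟨τ, hτ, rfl⟩
    refine ⟨?_, Equiv.Perm.extendDomain_apply_not_subtype _ _ (by simp)⟩
    rw [Equiv.Perm.mem_alternatingGroup, lastHom, Equiv.Perm.extendDomainHom_apply,
      Equiv.Perm.sign_extendDomain]
    exact Equiv.Perm.mem_alternatingGroup.1 hτ
  · rintro ⟨hσ, hfix⟩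
    let P : Fin (n + 1) → Prop := fun i => i ≠ Fin.last n
    have hP : ∀ i, P (σ i) ↔ P i := fun i => by
      show σ i ≠ Fin.last n ↔ _
      conv_lhs => rw [← hfix]
      exact σ.injective.ne_iff
    set eq' := finSuccAboveEquiv (Fin.last n)
    set τ : Equiv.Perm (Fin n) := eq'.symm.permCongr (σ.subtypePerm hP)
    have e : lastHom n τ = σ := by
      refine Equiv.ext fun i => ?_
      show τ.extendDomain eq' i = σ i
      by_cases hi : i ≠ Fin.last n
      · rw [Equiv.Perm.extendDomain_apply_subtype (b := i) _ _ hi]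
        simp [τ]
      · rw [Equiv.Perm.extendDomain_apply_not_subtype (b := i) _ _ hi, not_not.1 hi, hfix]
    refine ⟨τ, ?_, e⟩
    rw [SetLike.mem_coe, Equiv.Perm.mem_alternatingGroup]
    rw [← e, Equiv.Perm.mem_alternatingGroup, lastHom, Equiv.Perm.extendDomainHom_apply,
      Equiv.Perm.sign_extendDomain] at hσ
    exact hσ

variable {p : ℕ} {G : Type*} [Group G] [Finite G] [hp : Fact p.Prime]

namespace Ctx

variable {T : Sylow p G} {M : Subgroup G} (h : Ctx T M 2) {A : Subgroup (Bar p G)}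
include h

local notation "𝐁" => baumannSubgroupOf p (T : Subgroup G)
local notation "𝐊" => clsK T 2 A
local notation "𝐔" => (⁅Om p G, clsK T 2 A⁆ : Subgroup G)
local notation "𝐂𝐥" => clsSup (Mod p G) 2 (Tbar T) 1 A

section Data

variable (hA : A ∈ mems (Mod p G) 2 (Tbar T) 1) {N : ℕ} {x : Fin N → Bar p G} {e : Fin N → Mod p G}
  {π : ↥((clsSup (Mod p G) 2 (Tbar T) 1 A).comap (pr p) : Subgroup G) →* Equiv.Perm (Fin (N + 1))}
  (d : SymData T A x e π)
include hA d

theorem pCore_K : pCoreOf p 𝐊 = 𝐔 := by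
  refine le_antisymm ?_ ?_
  · have hs : (pCoreOf p 𝐊).IsSubnormal :=
      Subgroup.IsSubnormal.trans' ((inferInstance : (pCore p ↥(𝐊)).Normal).isSubnormal)
        (h.K_isSubnormal hA)
    have hsn := hs.map (f := pr p) pr_surjective
    have h1 : (pCoreOf p 𝐊).map (pr p) ≤ pCore p (Bar p G) :=
      Thompson.le_pCore_of_isSubnormal hsn ((LocalEven62.isPGroup_pCoreOf _).map _)
    rw [h.conf.pm.core _ Thompson.instPCoreNormal Thompson.isPGroup_pCore, le_bot_iff,
      Subgroup.map_eq_bot_iff, QuotientGroup.ker_mk'] at h1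
    exact (le_inf (LocalEven62.pCoreOf_le _) h1).trans (h.K_inf_cen hA d).le
  · exact LocalEven64.le_pCoreOf h.U_le_K ((Subgroup.le_normalizer).trans h.normalizer_K_le)
      ((Thompson.isPGroup_of_isElementaryAbelian (om_elemAb p G)).to_le h.U_le_om')

theorem omega_core : omegaOneCenter p (pCoreOf p 𝐊) = 𝐔 := by
  rw [h.pCore_K hA d]
  refine le_antisymm (LAE65.Block.omegaOneCenter_le _) fun x hx => ?_
  refine Thompson.mem_omegaOne ⟨hx, Subgroup.mem_centralizer_iff.2 fun y hy => ?_⟩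
    ((om_elemAb p G).2 x (h.U_le_om' hx))
  exact Thompson.elemAb_comm (om_elemAb p G).1 (h.U_le_om' hy) (h.U_le_om' hx)

theorem rangeK : (π.comp (Subgroup.inclusion (h.K_le_comap hA d))).range =
    alternatingGroup (Fin (N + 1)) := by
  classical
  refine le_antisymm ?_ ?_
  · rintro _ ⟨⟨y, hy⟩, rfl⟩
    let X : Subgroup G := ((alternatingGroup (Fin (N + 1))).comap π).map (Subgroup.subtype _)
    have hle : 𝐊 ≤ X := by
      refine h.K_res.ge.trans (pResidualOf_le_iff.2 fun z hz hc => ?_)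
      refine ⟨⟨z, h.K_le_comap hA d hz⟩, ?_, rfl⟩
      set σ := π ⟨z, h.K_le_comap hA d hz⟩
      have h1 : (Equiv.Perm.sign σ) ^ orderOf z = 1 := by
        rw [← map_pow, ← map_pow, show (⟨z, h.K_le_comap hA d hz⟩ :
          ↥((𝐂𝐥).comap (pr p) : Subgroup G)) ^ orderOf z = 1 from
          Subtype.ext (by simp [pow_orderOf_eq_one]), map_one, map_one]
      show σ ∈ alternatingGroup _
      rw [Equiv.Perm.mem_alternatingGroup]
      rcases Int.units_eq_one_or (Equiv.Perm.sign σ) with e1 | e1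
      · exact e1
      · rw [e1] at h1
        exfalso
        have hodd : ¬ Even (orderOf z) := fun he => by
          have h2 : (orderOf z).Coprime 2 := d.D.p_eq ▸ hc
          obtain ⟨c, hc'⟩ := he
          rw [hc'] at h2
          rw [Nat.coprime_two_right] at h2
          exact (Nat.not_odd_iff_even.2 ⟨c, rfl⟩) h2
        rw [neg_one_pow_eq_one_iff_even (by decide)] at h1
        exact hodd h1
    obtain ⟨y', hy', e'⟩ := hle hy
    have : y' = ⟨y, h.K_le_comap hA d hy⟩ := Subtype.ext e'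
    subst this
    exact hy'
  · rw [← Equiv.Perm.closure_three_cycles_eq_alternating, Subgroup.closure_le]
    intro σ hσ
    obtain ⟨g, rfl⟩ := d.surj σ
    have h3 : pr p (g : G) ^ 3 = 1 := by
      rw [← map_pow]
      refine pr_eq_one.2 ((d.ker (g ^ 3)).1 ?_)
      have h0 : orderOf (π g) = 3 := Equiv.Perm.IsThreeCycle.orderOf hσ
      rw [map_pow, ← h0]
      exact pow_orderOf_eq_one _
    obtain ⟨k, hk, ek⟩ := h.mem_map_K hA d g.2 h3
    refine ⟨⟨k, hk⟩, ?_⟩
    rw [MonoidHom.comp_apply, ← inv_inv (π g)]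
    refine eq_inv_of_mul_eq_one_left ?_
    rw [← map_inv, ← map_mul, d.ker]
    exact pr_eq_one.1 (show pr p (k * (g : G)⁻¹) = 1 by rw [map_mul, map_inv, ek, mul_inv_cancel])

theorem ker_K : (π.comp (Subgroup.inclusion (h.K_le_comap hA d))).ker = pCore p ↥(𝐊) := by
  refine Subgroup.map_injective (𝐊).subtype_injective ?_
  show _ = pCoreOf p 𝐊
  rw [h.pCore_K hA d, ← h.K_inf_cen hA d]
  ext y
  constructor
  · rintro ⟨k, hk, rfl⟩
    exact ⟨k.2, (d.ker _).1 (MonoidHom.mem_ker.1 hk)⟩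
  · rintro ⟨hy, hyc⟩
    exact ⟨⟨y, hy⟩, MonoidHom.mem_ker.2 ((d.ker _).2 hyc), rfl⟩

theorem K_isBlock : IsBaumannBlock p (T : Subgroup G) 𝐊 := by
  classical
  obtain ⟨m₀, hm₀⟩ := d.D.pow
  obtain rfl : N = 2 * 2 ^ m₀ := by rw [hm₀, pow_succ']
  refine ⟨h.K_res, h.K_comm_B, ?_, h.not_comm_omega hA, Or.inr ⟨d.D.p_eq, 2 ^ m₀, ?_, ?_, ?_⟩⟩
  · rw [h.pCore_K hA d]; exact h.U_comm_K
  · exact ⟨(QuotientGroup.quotientMulEquivOfEq (h.ker_K hA d).symm).trans
      ((QuotientGroup.quotientKerEquivRange _).trans (MulEquiv.subgroupCongr (h.rangeK hA d)))⟩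
  · rw [h.omega_core hA d, h.U_inf_centralizer hA d]
    set s := d.D.stars
    have hU : ∀ u : ↥(𝐔), vc (h.U_le_om' u.2) ∈ s.f.range := fun u =>
      d.D.range.le (h.vs_U_le hA (show vc (h.U_le_om' u.2) ∈ vs 𝐔 from u.2))
    choose c hc using hU
    refine ⟨Subgroup.le_normalizer.trans h.normalizer_K_le, bot_le,
      π.comp (Subgroup.inclusion (h.K_le_comap hA d)),
      MonoidHom.mk' (fun u => Multiplicative.ofAdd (extp (c u))) fun u v => ?_,
      h.rangeK hA d, fun u => sum_extp _, fun w hw => ?_, fun u => ?_, fun k u => ?_⟩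
    · rw [← ofAdd_add]
      congr 1
      have h1 : c (u * v) = c u + c v := s.f_injective (by
        rw [hc, map_add, hc, hc]
        exact cv_injective (by rw [cv_add, cv_vc, cv_vc, cv_vc]; rfl))
      rw [h1]
      funext i
      refine Fin.lastCases ?_ (fun j => ?_) i <;> simp [extp, Finset.sum_add_distrib]
    · have hmem : s.f (res w) ∈ vs 𝐔 := h.movV_cls_le (d.D.range.ge ⟨_, rfl⟩)
      refine ⟨⟨cv (s.f (res w)), hmem⟩, ?_⟩
      show extp (c _) = w
      rw [show c (⟨cv (s.f (res w)), hmem⟩ : ↥(𝐔)) = res w from s.f_injective (by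
        rw [hc]; exact cv_injective (cv_vc _)), extp_res hw]
    · show Multiplicative.ofAdd (extp (c u)) = 1 ↔ (u : G) ∈ (⊥ : Subgroup G)
      rw [ofAdd_eq_one, Subgroup.mem_bot]
      constructor
      · intro h0
        have h1 : c u = 0 := by rw [← res_extp (c u), h0, map_zero]
        have h2 := hc u
        rw [h1, map_zero] at h2
        have h3 := congrArg cv h2
        rw [cv_zero, cv_vc] at h3
        exact h3.symm
      · intro h0
        have h1 : c u = 0 := s.f_injective (by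
          rw [hc, map_zero]; exact cv_injective (by rw [cv_zero, cv_vc]; exact h0))
        rw [h1]
        funext i
        refine Fin.lastCases ?_ (fun j => ?_) i <;> simp [extp]
    · have hu : (k : G) * u * (k : G)⁻¹ ∈ 𝐔 :=
        (Subgroup.mem_normalizer_iff.1 (h.normalizer_K_le (Subgroup.le_normalizer k.2)) _).1 u.2
      refine ⟨⟨_, hu⟩, rfl, fun i => ?_⟩
      show extp (c _) i = extp (c u) _
      have h1 := d.acts (Subgroup.inclusion (h.K_le_comap hA d) k) (extp (c u)) (sum_extp _)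
      rw [res_extp, hc] at h1
      have h2 : c (⟨_, hu⟩ : ↥(𝐔)) = res fun i => extp (c u)
          ((π (Subgroup.inclusion (h.K_le_comap hA d) k))⁻¹ i) := s.f_injective (by
        rw [hc, ← h1]
        exact cv_injective (by rw [cv_vc, cv_smul, cv_vc]; rfl))
      rw [h2, extp_res (by rw [Equiv.sum_comp _⁻¹ (extp (c u))]; exact sum_extp _)]
      rfl
  · rw [h.omega_core hA d, h.pCore_K hA d]

theorem last_eq_of_mem {g : ↥((𝐂𝐥).comap (pr p) : Subgroup G)}
    (hle : ∀ B ∈ clsOf T 2 A, FFSL2.cj (pr p (g : G)) B ≤ M.map (pr p)) :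
    π g (Fin.last N) = Fin.last N := by
  by_contra hne
  set j := (π g)⁻¹ (Fin.last N) with hj
  have hjl : j ≠ Fin.last N := fun e' => hne (by
    have := congrArg (π g) e'
    rw [hj, ← Equiv.Perm.mul_apply, mul_inv_cancel, Equiv.Perm.one_apply] at this
    exact this.symm)
  obtain ⟨j₀, hj₀⟩ := Fin.exists_castSucc_eq.2 hjl
  obtain ⟨X, B, hB, hlB, hX, eX⟩ := d.D.own j₀
  obtain ⟨k, l, hkl, hel, hoth⟩ := d.D.pair B hB hlB
  have hjkl : j₀ = k ∨ j₀ = l := by
    by_contra! hh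
    obtain ⟨C, hC, -, hne', hxC⟩ := hoth j₀ hh.1 hh.2
    refine h.conf.not_com_line hB hX.2.1 (h.conf.self_mem_line hB) hX.2.2 fun y hy b hb => ?_
    have hy' : y ∈ sSup (line (Mod p G) 2 (Tbar T) 1 C) := by
      rcases (h.conf.star_mem hX).eq_el hy with rfl | rfl
      · exact one_mem _
      · exact eX ▸ hxC
    exact h.conf.com_oth hC y hy' b (le_sSup (s := mems (Mod p G) 2 (Tbar T) 1 \ {C})
      ⟨hB, Ne.symm hne'⟩ hb)
  have hπ : ∀ (i : Fin N), ∃ gi : ↥((𝐂𝐥).comap (pr p) : Subgroup G), pr p (gi : G) = x i := fun i => by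
    obtain ⟨g', hg'⟩ := pr_surjective (x i)
    exact ⟨⟨g', show pr p g' ∈ 𝐂𝐥 from hg' ▸ h.x_mem hA d i⟩, hg'⟩
  choose gx hgx using hπ
  have hgB : π (gx k * gx l * gx k) = Equiv.swap k.castSucc l.castSucc := by
    rw [map_mul, map_mul, d.star _ _ (hgx k), d.star _ _ (hgx l),
      Equiv.swap_comm k.castSucc (Fin.last N)]
    exact Equiv.swap_mul_swap_mul_swap (Fin.castSucc_lt_last l).ne
      (fun e' => hkl (Fin.castSucc_injective _ e').symm)
  -- the image of the transposition involves the last point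
  obtain ⟨i, hi⟩ : ∃ i : Fin N, π (g * (gx k * gx l * gx k) * g⁻¹) =
      Equiv.swap i.castSucc (Fin.last N) := by
    rw [map_mul, map_mul π g, map_inv, hgB, Equiv.mul_swap_eq_swap_mul, mul_inv_cancel_right]
    have hgj : π g j₀.castSucc = Fin.last N := by rw [hj₀, hj, ← Equiv.Perm.mul_apply, mul_inv_cancel, Equiv.Perm.one_apply]
    rcases hjkl with rfl | rfl
    · have hne2 : π g l.castSucc ≠ Fin.last N := fun e' => hkl (Fin.castSucc_injective _
        ((π g).injective (hgj.trans e'.symm)))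
      obtain ⟨i, hi⟩ := Fin.exists_castSucc_eq.2 hne2
      exact ⟨i, by rw [hgj, hi, Equiv.swap_comm]⟩
    · have hne2 : π g k.castSucc ≠ Fin.last N := fun e' => hkl (Fin.castSucc_injective _
        ((π g).injective (e'.trans hgj.symm)))
      obtain ⟨i, hi⟩ := Fin.exists_castSucc_eq.2 hne2
      exact ⟨i, by rw [hgj, hi]⟩
  have h1 : pr p ((g * (gx k * gx l * gx k) * g⁻¹ : ↥((𝐂𝐥).comap (pr p) : Subgroup G)) : G) = x i := by
    have h0 : π (g * (gx k * gx l * gx k) * g⁻¹ * (gx i)⁻¹) = 1 := by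
      rw [map_mul, hi, map_inv, d.star _ _ (hgx i), mul_inv_cancel]
    have h2 := pr_eq_one.2 ((d.ker _).1 h0)
    rw [Subgroup.coe_mul, map_mul, Subgroup.coe_inv, map_inv, mul_inv_eq_one, hgx] at h2
    exact h2
  have hxM : x i ∈ M.map (pr p) := by
    refine hle B ⟨hB, hlB⟩ ?_
    rw [← h1, FFSL2.mem_cj]
    simp only [Subgroup.coe_mul, Subgroup.coe_inv, map_mul, map_inv, hgx, ← mul_assoc,
      inv_mul_cancel, one_mul, inv_mul_cancel_right]
    rw [← hel]
    exact hB.1.el_spec.1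
  obtain ⟨Y, B', hB', -, hY, eY⟩ := d.D.own i
  have hYM : Y ≤ M.map (pr p) := fun y hy => by
    rcases (h.conf.star_mem hY).eq_el hy with rfl | rfl
    · exact one_mem _
    · exact eY ▸ hxM
  obtain ⟨Z, hZ, hZM⟩ := h.conf.exists_not_le hB'
  refine hZM ((le_sSup hZ).trans ?_)
  rw [h.conf.sSup_line hB' (h.conf.self_mem_line hB') hY.2.1 (Ne.symm hY.2.2), FFSL2.cj_one]
  exact sup_le ((h.conf.mem_le_roots hB').trans
    (h.conf.roots_le.trans (Subgroup.map_mono h.le_M))) hYM

theorem mem_cStar_of_last {g : ↥((𝐂𝐥).comap (pr p) : Subgroup G)}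
    (hg : π g (Fin.last N) = Fin.last N) : (g : G) ∈ cStarOf p (T : Subgroup G) := by
  classical
  refine Subgroup.mem_sup_left (Subgroup.mem_centralizer_iff.2 fun z hz => ?_)
  set v := vc (h.omega_sylow_le hz) with hv
  suffices hfix : pr p (g : G) • v = v by
    rw [smul_eq_iff] at hfix
    exact hfix.symm
  set s := d.D.stars
  have hvT : ∀ t ∈ (Tbar T : Subgroup (Bar p G)), t • v = v := by
    rintro _ ⟨t, ht, rfl⟩
    exact smul_eq_iff.2 (Subgroup.mem_centralizer_iff.1 (Thompson.omegaOne_le p _ hz).2 t ht)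
  have hinvar : ∀ B B', B ∈ mems (Mod p G) 2 (Tbar T) 1 → B' ∈ mems (Mod p G) 2 (Tbar T) 1 →
      v ∈ (FFSL2.fix (sSup (line (Mod p G) 2 (Tbar T) 1 B)) : AddSubgroup (Mod p G)) →
      v ∈ (FFSL2.fix (sSup (line (Mod p G) 2 (Tbar T) 1 B')) : AddSubgroup (Mod p G)) := by
    intro B B' hB hB' hv'
    obtain ⟨t, ht, e'⟩ := h.conf.exists_cj_mems hB' hB
    refine fix_sSup _ fun X hX y hy => ?_
    have h1 : t * y * t⁻¹ ∈ sSup (line (Mod p G) 2 (Tbar T) 1 B) := by
      refine le_sSup (s := line (Mod p G) 2 (Tbar T) 1 B) ?_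
        (show t * y * t⁻¹ ∈ FFSL2.cj t X from FFSL2.mem_cj.2 (by simpa [mul_assoc] using hy))
      rw [← e']
      exact cj_line ht hX
    have h2 := hv' _ h1
    rw [FFSL2.cj_one] at ht
    rw [mul_smul, mul_smul, hvT _ (inv_mem ht)] at h2
    rw [← smul_left_cancel_iff t, h2, hvT t ht]
  by_cases hall : v ∈ (FFSL2.fix (sSup (line (Mod p G) 2 (Tbar T) 1 A)) : AddSubgroup (Mod p G))
  · exact fix_sSup (s := {X | ∃ B ∈ mems (Mod p G) 2 (Tbar T) 1, Lk (Mod p G) 2 (Tbar T) 1 A B ∧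
      X ∈ line (Mod p G) 2 (Tbar T) 1 B}) (fun X ⟨B, hB, _, hX⟩ y hy =>
      hinvar A B hA hB hall y (le_sSup hX hy)) _ g.2
  have hmove : ∀ k, x k • v = v + e k := by
    intro k
    refine (s.move k v).resolve_left fun hk => hall ?_
    obtain ⟨X, B, hB, hlB, hX, eX⟩ := d.D.own k
    refine hinvar B A hB hA ?_
    rw [h.conf.sSup_line hB (h.conf.self_mem_line hB) hX.2.1 (Ne.symm hX.2.2), fix_sup]
    refine ⟨fun b hb => hvT b (h.conf.roots_le (h.conf.mem_le_roots hB hb)), ?_⟩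
    exact (h.conf.star_mem hX).mem_fix_iff.2 (by rw [eX]; exact hk)
  let R : Subgroup (Equiv.Perm (Fin (N + 1))) :=
    ((MulAction.stabilizer (Bar p G) v).comap ((pr p).comp (Subgroup.subtype _))).map π
  have hsw : ∀ i j : Fin N, i ≠ j → Equiv.swap i.castSucc j.castSucc ∈ R := by
    intro i j hij
    have hπ : ∀ (i : Fin N), ∃ gi : ↥((𝐂𝐥).comap (pr p) : Subgroup G), pr p (gi : G) = x i :=
      fun i => by
        obtain ⟨g', hg'⟩ := pr_surjective (x i)
        exact ⟨⟨g', show pr p g' ∈ 𝐂𝐥 from hg' ▸ h.x_mem hA d i⟩, hg'⟩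
    choose gx hgx using hπ
    refine ⟨gx i * gx j * gx i, ?_, ?_⟩
    · show pr p (((gx i * gx j * gx i : ↥((𝐂𝐥).comap (pr p) : Subgroup G))) : G) • v = v
      rw [Subgroup.coe_mul, Subgroup.coe_mul, map_mul, map_mul, hgx, hgx, mul_smul, mul_smul,
        hmove i, smul_add, hmove j, s.off j i hij]
      rw [show v + e j + (e i + e j) = v + e i + (e j + e j) by abel, s.two, add_zero, smul_add,
        hmove i, s.self, add_assoc, s.two, add_zero]
    · rw [map_mul, map_mul, d.star _ _ (hgx i), d.star _ _ (hgx j),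
        Equiv.swap_comm i.castSucc (Fin.last N)]
      exact Equiv.swap_mul_swap_mul_swap (Fin.castSucc_lt_last j).ne
        (fun e' => hij (Fin.castSucc_injective _ e').symm)
  let P : Fin (N + 1) → Prop := fun i => i ≠ Fin.last N
  have hP : ∀ i, P (π g i) ↔ P i := fun i => by
    show π g i ≠ Fin.last N ↔ _
    conv_lhs => rw [← hg]
    exact (π g).injective.ne_iff
  have hmem : π g ∈ R := by
    have htop : R.comap (Equiv.Perm.ofSubtype (p := P)) = ⊤ := by
      rw [eq_top_iff, ← Equiv.Perm.closure_isSwap, Subgroup.closure_le]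
      rintro _ ⟨i, j, hij, rfl⟩
      rw [SetLike.mem_coe, Subgroup.mem_comap, Equiv.Perm.ofSubtype_swap_eq]
      obtain ⟨i₀, hi₀⟩ := Fin.exists_castSucc_eq.2 i.2
      obtain ⟨j₀, hj₀⟩ := Fin.exists_castSucc_eq.2 j.2
      rw [← hi₀, ← hj₀]
      exact hsw i₀ j₀ fun e' => hij (Subtype.ext (by rw [← hi₀, ← hj₀, e']))
    have h1 : (π g).subtypePerm hP ∈ R.comap (Equiv.Perm.ofSubtype (p := P)) :=
      htop ▸ Subgroup.mem_top _
    rwa [Subgroup.mem_comap, Equiv.Perm.ofSubtype_subtypePerm hP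
      (fun i hi (e' : i = Fin.last N) => hi (by rw [e', hg]))] at h1
  obtain ⟨g', hg', e'⟩ := hmem
  have h0 : π (g'⁻¹ * g) = 1 := by rw [map_mul, map_inv, e', inv_mul_cancel]
  have h2 := pr_eq_one.2 ((d.ker _).1 h0)
  rw [Subgroup.coe_mul, map_mul, Subgroup.coe_inv, map_inv, inv_mul_eq_one] at h2
  rw [← h2]
  exact hg'

theorem image_cStar {m : ℕ} (hN : N = 2 * m) :
    Nonempty (↥(((cStarOf p (T : Subgroup G) ⊓ 𝐊).subgroupOf 𝐊).map
      (QuotientGroup.mk' (pCore p ↥(𝐊)))) ≃* ↥(alternatingGroup (Fin (2 * m)))) := by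
  subst hN
  set π' := π.comp (Subgroup.inclusion (h.K_le_comap hA d)) with hπ'
  set Z := (cStarOf p (T : Subgroup G) ⊓ 𝐊).subgroupOf 𝐊
  let iso : ↥(𝐊) ⧸ pCore p ↥(𝐊) ≃* ↥π'.range :=
    (QuotientGroup.quotientMulEquivOfEq (h.ker_K hA d).symm).trans (QuotientGroup.quotientKerEquivRange π')
  let f : ↥(𝐊) ⧸ pCore p ↥(𝐊) →* Equiv.Perm (Fin (2 * m + 1)) :=
    π'.range.subtype.comp iso.toMonoidHom
  have hf : Function.Injective f := π'.range.subtype_injective.comp iso.injective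
  have hmap : (Z.map (QuotientGroup.mk' (pCore p ↥(𝐊)))).map f =
      (alternatingGroup (Fin (2 * m))).map (lastHom (2 * m)) := by
    rw [Subgroup.map_map]
    have hcomp : f.comp (QuotientGroup.mk' (pCore p ↥(𝐊))) = π' := MonoidHom.ext fun k => rfl
    rw [hcomp]
    ext σ
    rw [range_lastHom]
    constructor
    · rintro ⟨k, hk, rfl⟩
      refine ⟨h.rangeK hA d ▸ ⟨k, rfl⟩, ?_⟩
      refine h.last_eq_of_mem hA d (g := Subgroup.inclusion (h.K_le_comap hA d) k) fun B hB => ?_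
      rintro y hy
      obtain ⟨b, hb, e'⟩ := (h.conf.mem_le_roots hB.1).trans (h.conf.roots_le.trans
        (Subgroup.map_mono h.le_M)) (FFSL2.mem_cj.1 hy)
      refine ⟨(k : G) * b * (k : G)⁻¹, mul_mem (mul_mem (h.cStar_le hk.1) hb)
        (inv_mem (h.cStar_le hk.1)), ?_⟩
      rw [map_mul, map_mul, map_inv, e']
      simp [mul_assoc]
    · rintro ⟨hσ, hl⟩
      rw [← h.rangeK hA d] at hσ
      obtain ⟨k, rfl⟩ := hσ
      exact ⟨k, ⟨h.mem_cStar_of_last hA d hl, k.2⟩, rfl⟩
  exact ⟨((Z.map _).equivMapOfInjective f hf).trans ((MulEquiv.subgroupCongr hmap).trans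
    ((alternatingGroup (Fin (2 * m))).equivMapOfInjective (lastHom (2 * m))
      (Equiv.Perm.extendDomainHom_injective _)).symm)⟩

end Data

end Ctx

end Cfsg.Agent.Block82
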